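import Cfsg.Agent.Lib.Lie.SymEightLocal.SixPair

/-!
Chains of involutions in `Sym(6)`.
-/

set_option autoImplicit false

namespace Cfsg.Agent.Lie.SymEightLocal

open Equiv

set_option maxHeartbeats 4000000
set_option Elab.async false
set_option maxRecDepth 100000
set_option synthInstance.maxHeartbeats 400000
set_option synthInstance.maxSize 100000

open SixList

/-- the involutions of `Sym(6)`, as lists of images -/
def invL : List (List (Fin 6)) := (arr 6).filter fun x => SixList.cmp x x == idl && !(x == idl)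

/-- representatives of the classes of involutions -/
def repL : List (List (Fin 6)) :=
  [[1, 0, 2, 3, 4, 5], [1, 0, 3, 2, 4, 5], [1, 0, 3, 2, 5, 4]]

def repB : Bool :=
  invL.all fun x => (arr 6).any fun g => repL.any fun r => SixList.cmp g x == SixList.cmp r g

def chainB : Bool :=
  repL.all fun x₁ => invL.all fun x₂ =>
    !(SixList.cmp (SixList.cmp x₁ x₂) x₁ == SixList.cmp (SixList.cmp x₂ x₁) x₂ && !(x₁ == x₂)) || invL.all fun x₃ =>
    !(SixList.cmp (SixList.cmp x₂ x₃) x₂ == SixList.cmp (SixList.cmp x₃ x₂) x₃ && SixList.cmp x₁ x₃ == SixList.cmp x₃ x₁) || invL.all fun x₄ =>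
    !(SixList.cmp (SixList.cmp x₃ x₄) x₃ == SixList.cmp (SixList.cmp x₄ x₃) x₄ &&
      (SixList.cmp x₁ x₄ == SixList.cmp x₄ x₁ && SixList.cmp x₂ x₄ == SixList.cmp x₄ x₂)) || invL.all fun a =>
    !(SixList.cmp x₁ a == SixList.cmp a x₁ && (SixList.cmp x₂ a == SixList.cmp a x₂ &&
      (SixList.cmp (SixList.cmp x₄ a) x₄ == SixList.cmp (SixList.cmp a x₄) a && !(a == x₄)))) ||
      (SixList.cmp x₃ a == SixList.cmp a x₃ || SixList.cmp x₃ (SixList.cmp (SixList.cmp x₄ a) x₄) == SixList.cmp (SixList.cmp (SixList.cmp x₄ a) x₄) x₃)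

theorem repB_true : repB = true := by decide +kernel
theorem chainB_true : chainB = true := by decide +kernel

theorem mem_invL {x : Perm (Fin 6)} (h : x * x = 1) (h1 : x ≠ 1) : enc x ∈ invL := by
  refine List.mem_filter.2 ⟨enc_mem x, ?_⟩
  simp only [enc_mul, ← enc_one, Bool.and_eq_true, Bool.not_eq_true', beq_iff_eq, beq_eq_false_iff_ne,
    ne_eq, enc_inj]
  exact ⟨h, h1⟩

theorem exists_enc {l : List (Fin 6)} (h : l ∈ arr 6) : ∃ g : Perm (Fin 6), enc g = l := by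
  have hall : ((arr 6).all fun l => l.length == 6 && decide l.Nodup) = true := by decide +kernel
  have hl := List.all_eq_true.1 hall _ h
  simp only [Bool.and_eq_true, beq_iff_eq, decide_eq_true_eq] at hl
  obtain ⟨hlen, hnd⟩ := hl
  refine ⟨Equiv.ofBijective (fun i : Fin 6 => l.get (i.cast hlen.symm)) ?_, ?_⟩
  · exact Function.Injective.bijective_of_finite fun i j e => by
      have := hnd.injective_get e
      exact Fin.ext (by simpa using congrArg Fin.val this)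
  · rw [enc]
    apply List.ext_getElem
    · rw [List.length_ofFn, hlen]
    · intro i h1 h2
      rw [List.getElem_ofFn]
      rfl

/-- In `Sym(6)`, one of the two candidates extends the chain. -/
theorem six_chain {x₁ x₂ x₃ x₄ a : Perm (Fin 6)} (q₁ : x₁ * x₁ = 1) (q₂ : x₂ * x₂ = 1) (q₃ : x₃ * x₃ = 1)
    (q₄ : x₄ * x₄ = 1) (qa : a * a = 1) (b₁ : x₁ * x₂ * x₁ = x₂ * x₁ * x₂) (n₁ : x₁ ≠ x₂)
    (b₂ : x₂ * x₃ * x₂ = x₃ * x₂ * x₃) (c₁₃ : x₁ * x₃ = x₃ * x₁)
    (b₃ : x₃ * x₄ * x₃ = x₄ * x₃ * x₄) (c₁₄ : x₁ * x₄ = x₄ * x₁) (c₂₄ : x₂ * x₄ = x₄ * x₂)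
    (ca₁ : x₁ * a = a * x₁) (ca₂ : x₂ * a = a * x₂) (ba : x₄ * a * x₄ = a * x₄ * a) (na : a ≠ x₄) :
    x₃ * a = a * x₃ ∨ x₃ * (x₄ * a * x₄) = (x₄ * a * x₄) * x₃ := by
  have one_braid : ∀ {x y : Perm (Fin 6)}, x = 1 → y * y = 1 → x * y * x = y * x * y → y = 1 := by
    rintro x y rfl hy h
    rw [one_mul, mul_one, hy] at h
    exact h
  have ne₁ : x₁ ≠ 1 := fun e => n₁ (e.trans (one_braid e q₂ b₁).symm)
  have ne₂ : x₂ ≠ 1 := fun e => ne₁ (one_braid e q₁ b₁.symm)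
  have ne₃ : x₃ ≠ 1 := fun e => ne₂ (one_braid e q₂ b₂.symm)
  have ne₄ : x₄ ≠ 1 := fun e => ne₃ (one_braid e q₃ b₃.symm)
  have nea : a ≠ 1 := fun e => ne₄ (one_braid e q₄ ba.symm)
  obtain ⟨l, hl, hr⟩ := List.any_eq_true.1 (List.all_eq_true.1 repB_true _ (mem_invL q₁ ne₁))
  obtain ⟨g, rfl⟩ := exists_enc hl
  obtain ⟨r, hrm, hr'⟩ := List.any_eq_true.1 hr
  set f := MulAut.conj g with hf
  have sq : ∀ {x : Perm (Fin 6)}, x * x = 1 → f x * f x = 1 := fun h => by rw [← map_mul, h, map_one]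
  have nn : ∀ {x : Perm (Fin 6)}, x ≠ 1 → f x ≠ 1 := fun h e => h (f.injective (e.trans (map_one f).symm))
  have fe : ∀ {x y : Perm (Fin 6)}, f x = f y ↔ x = y := fun {x y} => f.injective.eq_iff
  have hr1 : enc (f x₁) ∈ repL := by
    have hk : ∀ r ∈ repL, r ∈ arr 6 := by decide +kernel
    obtain ⟨rp, rfl⟩ := exists_enc (hk r hrm)
    rw [beq_iff_eq, enc_mul, enc_mul, enc_inj] at hr'
    rwa [show f x₁ = rp from (show g * x₁ * g⁻¹ = rp by rw [hr', mul_inv_cancel_right])]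
  have h := List.all_eq_true.1 (List.all_eq_true.1 chainB_true _ hr1) _ (mem_invL (sq q₂) (nn ne₂))
  simp only [enc_mul, ← map_mul, beq_iff_eq, Bool.and_eq_true, Bool.not_eq_true', beq_eq_false_iff_ne, ne_eq,
    Bool.or_eq_true, Bool.and_eq_false_iff, enc_inj, fe, b₁, n₁, not_true, not_false_eq_true, false_or, or_false,
    Bool.not_eq_false', List.all_eq_true] at h
  have h3 := h _ (mem_invL (sq q₃) (nn ne₃))
  simp only [enc_mul, ← map_mul, beq_iff_eq, Bool.and_eq_true, Bool.not_eq_true', beq_eq_false_iff_ne, ne_eq,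
    Bool.or_eq_true, Bool.and_eq_false_iff, enc_inj, fe, b₂, c₁₃, not_true, false_or, List.all_eq_true] at h3
  have h4 := h3 _ (mem_invL (sq q₄) (nn ne₄))
  simp only [enc_mul, ← map_mul, beq_iff_eq, Bool.and_eq_true, Bool.not_eq_true', beq_eq_false_iff_ne, ne_eq,
    Bool.or_eq_true, Bool.and_eq_false_iff, enc_inj, fe, b₃, c₁₄, c₂₄, not_true, false_or, List.all_eq_true] at h4
  have h5 := h4 _ (mem_invL (sq qa) (nn nea))
  simp only [enc_mul, ← map_mul, beq_iff_eq, Bool.and_eq_true, Bool.not_eq_true', beq_eq_false_iff_ne, ne_eq,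
    Bool.or_eq_true, Bool.and_eq_false_iff, enc_inj, fe, ca₁, ca₂, ba, na, not_true, false_or,
    not_false_eq_true, Bool.not_eq_false'] at h5
  rwa [← ba] at h5

end Cfsg.Agent.Lie.SymEightLocal
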