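import Cfsg.Agent.Lib.Lie.SymEightLocal.CentT
import Cfsg.Agent.Lib.Lie.SymEightLocal.Six
import Cfsg.Agent.Lib.Lie.SymExtend
import Cfsg.Agent.S2530

/-!
The first case: a copy of `Sym(8)` containing the three-local subgroups, of odd index, and the normal subgroup
of index two with the three-local data of `Alt(8)`.
-/

set_option autoImplicit false
set_option maxRecDepth 100000

namespace Cfsg.Agent.Lie.SymEightLocal

open Subgroup Equiv

set_option maxHeartbeats 1600000

theorem five_gen : ∀ K : Subgroup (Perm (Fin 5)),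
    swap 0 1 ∈ K → swap 1 2 ∈ K → swap 0 4 ∈ K → swap 3 4 ∈ K → K = ⊤ := by
  intro K h1 h2 h4 h3
  rw [eq_top_iff, ← Subgroup.closure_eq_top_of_mclosure_eq_top (Perm.mclosure_swap_castSucc_succ 4),
    closure_le]
  rintro _ ⟨i, rfl⟩
  have h23 : swap (2 : Fin 5) 3 ∈ K := by
    rw [show swap (2 : Fin 5) 3 = (swap 1 2 * swap 0 1 * swap 0 4) * swap 3 4 * (swap 1 2 * swap 0 1 * swap 0 4)⁻¹
      by decide]
    exact mul_mem (mul_mem (mul_mem (mul_mem h2 h1) h4) h3) (inv_mem (mul_mem (mul_mem h2 h1) h4))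
  fin_cases i
  exacts [h1, h2, h23, h3]

theorem three_gen : ∀ K : Subgroup (Perm (Fin 3)), swap 0 1 ∈ K → swap 1 2 ∈ K → K = ⊤ := by
  intro K h1 h2
  rw [eq_top_iff, ← Subgroup.closure_eq_top_of_mclosure_eq_top (Perm.mclosure_swap_castSucc_succ 2),
    closure_le]
  rintro _ ⟨i, rfl⟩
  fin_cases i
  exacts [h1, h2]

theorem invol_eight (σ : Perm (Fin 8)) (h2 : σ * σ = 1) (h1 : σ ≠ 1)
    (hd : Nat.card (centralizer ({σ} : Set (Perm (Fin 8)))) ∣ 1440) :
    σ.IsSwap ∨ IsConj (swap 0 5 * swap 1 6 * swap 2 7) σ := by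
  have ho : orderOf σ = 2 := orderOf_eq_prime (hp := ⟨Nat.prime_two⟩) (by rw [pow_two, h2]) h1
  obtain ⟨k, hk⟩ := Perm.cycleType_prime_order (σ := σ) (by rw [ho]; exact Nat.prime_two)
  rw [ho] at hk
  have hle := σ.support.card_le_univ
  rw [← Perm.sum_cycleType, hk, Multiset.sum_replicate, smul_eq_mul, Fintype.card_fin] at hle
  rw [Perm.nat_card_centralizer, hk, Fintype.card_fin] at hd
  rcases (show k + 1 = 1 ∨ k + 1 = 2 ∨ k + 1 = 3 ∨ k + 1 = 4 by omega) with e | e | e | e
  · exact Or.inl (Perm.isSwap_iff_cycleType.2 (by rw [hk, e]; rfl))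
  · rw [e] at hd
    simp [Multiset.toFinset_replicate, Nat.factorial] at hd
  · refine Or.inr (Perm.isConj_iff_cycleType_eq.2 ?_)
    rw [hk, e]
    decide +kernel
  · rw [e] at hd
    simp [Multiset.toFinset_replicate, Nat.factorial] at hd

namespace Data

variable {G : Type*} [Group G] (d : Data G)

/-- the embedding of the second `Sym(5)` -/
def ψ : Perm (Fin 5) →* G :=
  (MulAut.conj d.b).toMonoidHom.comp (d.φ.comp (MonoidHom.inr (Perm (Fin 3)) (Perm (Fin 5))))

theorem ψ_apply (π : Perm (Fin 5)) : d.ψ π = d.b * d.φ (1, π) * d.b := by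
  show d.b * d.φ (1, π) * d.b⁻¹ = _
  rw [d.bi]

theorem ψ_t : d.ψ (swap 3 4) = d.t := by rw [ψ_apply]; exact d.hbt

theorem ψ_c5 : d.ψ c5 = d.z := by rw [ψ_apply]; exact d.bwz

theorem commute_φ (π : Perm (Fin 5)) (σ : Perm (Fin 3)) : Commute (d.φ (1, π)) (d.φ (σ, 1)) :=
  (show Commute ((1 : Perm (Fin 3)), π) (σ, (1 : Perm (Fin 5))) from
    Prod.ext (by simp) (by simp)).map d.φ

theorem ψ_01 (hA : d.β = swap 0 1) : d.ψ (swap 0 1) = d.φ V0 := by
  rw [ψ_apply]; exact d.ext_b (by rw [d.hbv, hA])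

theorem ψ_12 (hA : d.β = swap 0 1) : d.ψ (swap 1 2) = d.φ (swap 1 2, 1) := by
  rw [show swap (1 : Fin 5) 2 = c5 * swap 0 1 * c5⁻¹ by decide +kernel, map_mul, map_mul, map_inv, d.ψ_01 hA,
    d.ψ_c5, z, ← map_inv, ← map_mul, ← map_mul]
  exact congrArg d.φ (Prod.ext (by decide) (by simp))

theorem fix_pair (hA : d.β = swap 0 1) (π σ : Perm (Fin 5)) (hπ : π = swap 0 1 ∨ π = swap 1 2) :
    Commute (d.φ (1, π)) (d.ψ σ) := by
  obtain ⟨τ, hτ⟩ : ∃ τ : Perm (Fin 3), d.φ (1, π) = d.b * d.φ (τ, 1) * d.b := by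
    rcases hπ with rfl | rfl
    · exact ⟨swap 0 1, by rw [d.hbv, hA]⟩
    · exact ⟨swap 1 2, (d.ext_b (by rw [← ψ_apply]; exact d.ψ_12 hA)).symm⟩
  rw [hτ, ψ_apply]
  have h1 := (d.commute_φ σ τ).symm.map (MulAut.conj d.b).toMonoidHom
  simp only [MulEquiv.coe_toMonoidHom, MulAut.conj_apply, d.bi] at h1
  exact h1

theorem cent_t_three [Finite G] {u : G} (hu : u * d.t = d.t * u) (hu3 : u ^ 3 = 1)
    (h36 : Nat.card (centralizer ({u} : Set G)) = 36) :
    ∀ g, g * u = u * g → g * d.t = d.t * g := by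
  haveI : Fact (Nat.Prime 3) := ⟨Nat.prime_three⟩
  set C := d.Ct
  have hDC : d.D ≤ C := fun x hx => d.mem_Ct.2 (d.D_t hx)
  have hpg : IsPGroup 3 (d.D.subgroupOf C) := IsPGroup.of_card (n := 2) (by
    rw [Nat.card_congr (subgroupOfEquivOfLe hDC).toEquiv, d.card_D]; rfl)
  obtain ⟨P, hP⟩ := hpg.exists_le_sylow
  have hPD : (P : Subgroup C) = d.D.subgroupOf C := by
    refine (eq_of_le_of_card_ge hP ?_).symm
    obtain ⟨k, hk⟩ := IsPGroup.iff_card.1 P.isPGroup'
    rw [Nat.card_congr (subgroupOfEquivOfLe hDC).toEquiv, d.card_D, hk]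
    rcases (show k ≤ 2 ∨ 3 ≤ k by omega) with h | h
    · calc 3 ^ k ≤ 3 ^ 2 := Nat.pow_le_pow_right (by norm_num) h
        _ = 9 := rfl
    · exact absurd ((pow_dvd_pow 3 h).trans (hk ▸ (Subgroup.card_subgroup_dvd_card (P : Subgroup C)).trans
        (Subgroup.card_subgroup_dvd_card C))) d.h27
  set u' : C := ⟨u, d.mem_Ct.2 hu⟩
  have hup : IsPGroup 3 (zpowers u') := by
    obtain ⟨j, -, hj⟩ := (Nat.dvd_prime_pow Nat.prime_three (m := 1)).1
      (show orderOf u' ∣ 3 ^ 1 by
        rw [pow_one]; exact orderOf_dvd_of_pow_eq_one (Subtype.ext hu3))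
    exact IsPGroup.of_card (n := j) (by rw [Nat.card_zpowers, hj])
  obtain ⟨Q, hQ⟩ := hup.exists_le_sylow
  obtain ⟨k, hk⟩ := MulAction.exists_smul_eq C Q P
  have hx : (k : G) * u * (k : G)⁻¹ ∈ d.D := by
    have : k * u' * k⁻¹ ∈ (P : Subgroup C) := by
      rw [← hk]; exact ⟨u', hQ (mem_zpowers _), rfl⟩
    rw [hPD] at this
    exact this
  intro g hg
  have h36' : Nat.card (centralizer ({(k : G) * u * (k : G)⁻¹} : Set G)) = 36 := by rw [card_cent_conj, h36]
  have hne : (k : G) * u * (k : G)⁻¹ ≠ 1 := by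
    intro e
    rw [e] at h36'
    have hle : d.D ≤ centralizer ({(1 : G)} : Set G) := fun x _ =>
      mem_centralizer_singleton_iff.2 (by rw [mul_one, one_mul])
    have h37 := d.z_types.1
    have : centralizer ({d.z} : Set G) ≤ centralizer ({(1 : G)} : Set G) := fun x _ =>
      mem_centralizer_singleton_iff.2 (by rw [mul_one, one_mul])
    have := Subgroup.card_le_of_le this
    omega
  have hn : d.NormD ((k : G) * g * (k : G)⁻¹) := by
    have hi : ∀ x : G, Nat.card (centralizer ({x⁻¹} : Set G)) = Nat.card (centralizer ({x} : Set G)) := by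
      intro x
      congr 2
      ext a
      simp only [mem_centralizer_singleton_iff]
      exact ⟨fun h => (Commute.inv_right_iff.1 h : Commute a x).eq, fun h => (show Commute a x from h).inv_right.eq⟩
    rcases d.D_types hx hne with (e | e) | (e | e) | ⟨i, j, hi, hj, e⟩
    · rw [e] at h36'; have := d.z_types.1; omega
    · rw [e, hi] at h36'; have := d.z_types.1; omega
    · rw [e] at h36'; have := d.z_types.2; omega
    · rw [e, hi] at h36'; have := d.z_types.2; omega
    · refine (d.cent_diag rfl hi hj).2 _ ?_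
      rw [← e]
      calc (k : G) * g * (k : G)⁻¹ * ((k : G) * u * (k : G)⁻¹) = (k : G) * (g * u) * (k : G)⁻¹ := by group
        _ = (k : G) * (u * g) * (k : G)⁻¹ := by rw [hg]
        _ = _ := by group
  have ht := d.norm_t hn
  have hk' : Commute (k : G) d.t := d.mem_Ct.1 k.2
  rw [show g = (k : G)⁻¹ * ((k : G) * g * (k : G)⁻¹) * k by group]
  exact ((hk'.inv_left.mul_left ht).mul_left hk').eq

/-- In the first case the centraliser of `t` is `Sym(6)` modulo `t`. -/
theorem quot_six [Finite G] (hA : d.β = swap 0 1) : Nonempty (d.Ct ⧸ d.Tc ≃* Perm (Fin 6)) := by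
  refine (d.dichotomy).resolve_left fun hall => ?_
  set h : G := d.ψ (swap 0 3 * swap 1 4) with hh
  have hs1 : h * d.t * h⁻¹ = d.φ V0 := by
    rw [← d.ψ_t, hh, ← map_inv, ← map_mul, ← map_mul,
      show swap (0 : Fin 5) 3 * swap 1 4 * swap 3 4 * (swap 0 3 * swap 1 4)⁻¹ = swap 0 1 by decide +kernel,
      ψ_apply]
    exact d.ext_b (by rw [d.hbv, hA])
  set f : Perm (Fin 5) := swap 0 1 * swap 1 2 * swap 2 3 * swap 3 4
  set g : G := h⁻¹ * d.φ (1, f) * h with hg
  have hgt : g * d.t = d.t * g := by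
    rw [show d.t = h⁻¹ * d.φ V0 * h by rw [← hs1]; group, hg]
    have hc : d.φ (1, f) * d.φ V0 = d.φ V0 * d.φ (1, f) := (d.commute_φ f (swap 0 1)).eq
    calc h⁻¹ * d.φ (1, f) * h * (h⁻¹ * d.φ V0 * h) = h⁻¹ * (d.φ (1, f) * d.φ V0) * h := by group
      _ = h⁻¹ * (d.φ V0 * d.φ (1, f)) * h := by rw [hc]
      _ = _ := by group
  have hg5 : g ^ 5 = 1 := by
    rw [hg, show h⁻¹ * d.φ (1, f) * h = h⁻¹ * d.φ (1, f) * h⁻¹⁻¹ by rw [inv_inv], conj_pow, ← map_pow,
      show ((1 : Perm (Fin 3)), f) ^ 5 = 1 from Prod.ext (one_pow 5) (by decide +kernel), map_one, mul_one,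
      mul_inv_cancel]
  have hn := hall g hgt
  have hrange : ∀ x : G, d.NormD x → x * x ∈ d.φ.range := by
    intro x hx
    rcases d.norm_cases hx with h | ⟨u, hu⟩
    · exact mul_mem h h
    have hx' : x = d.b * d.φ u := by rw [hu, ← mul_assoc, d.hb, one_mul]
    have hun : d.NormD (d.φ u) := hu ▸ d.normD_mul d.b_norm hx
    have e1 : u * Z0 * u⁻¹ = Z0 ∨ u * Z0 * u⁻¹ = Z0⁻¹ := by
      rcases norm_c3 u.1 with h | h
      · exact Or.inl (Prod.ext h (by simp))
      · refine Or.inr (Prod.ext (h.trans ?_) (by simp))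
        show c3 * c3 = c3⁻¹
        exact eq_inv_of_mul_eq_one_left (by decide)
    have e2 : u * W0 * u⁻¹ = W0 ∨ u * W0 * u⁻¹ = W0⁻¹ := by
      obtain ⟨i, j, h⟩ := d.mem_D.1 (hun _ d.wD)
      simp only [z, w, ← map_pow, ← map_mul, ← map_inv] at h
      rcases norm_c5_mem u.2 j (by simpa using congrArg Prod.snd (d.inj h)) with h' | h'
      · exact Or.inl (Prod.ext (by simp) h')
      · refine Or.inr (Prod.ext (by simp) (h'.trans ?_))
        show c5 ^ 2 = c5⁻¹
        exact eq_inv_of_mul_eq_one_left (by decide +kernel)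
    have a1 : x * d.z * x⁻¹ = d.w ∨ x * d.z * x⁻¹ = d.w⁻¹ := by
      rw [hx', show d.b * d.φ u * d.z * (d.b * d.φ u)⁻¹ = d.b * (d.φ u * d.φ Z0 * (d.φ u)⁻¹) * d.b⁻¹ by group,
        ← map_inv, ← map_mul, ← map_mul]
      rcases e1 with e | e <;> rw [e]
      · exact Or.inl (by rw [d.bi]; exact d.hbz)
      · refine Or.inr ?_
        rw [map_inv, ← conj_inv, d.bi]; exact congrArg Inv.inv d.hbz
    have a2 : x * d.w * x⁻¹ = d.z ∨ x * d.w * x⁻¹ = d.z⁻¹ := by
      rw [hx', show d.b * d.φ u * d.w * (d.b * d.φ u)⁻¹ = d.b * (d.φ u * d.φ W0 * (d.φ u)⁻¹) * d.b⁻¹ by group,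
        ← map_inv, ← map_mul, ← map_mul]
      rcases e2 with e | e <;> rw [e]
      · exact Or.inl (by rw [d.bi]; exact d.bwz)
      · refine Or.inr ?_
        rw [map_inv, ← conj_inv, d.bi]; exact congrArg Inv.inv d.bwz
    refine d.hN _ ?_
    rw [show x * x * d.φ Z0 * (x * x)⁻¹ = x * (x * d.z * x⁻¹) * x⁻¹ by group]
    rcases a1 with e | e <;> rw [e]
    · rcases a2 with e' | e' <;> [exact Or.inl e'; exact Or.inr e']
    · rw [← conj_inv]
      rcases a2 with e' | e' <;> rw [e']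
      · exact Or.inr rfl
      · exact Or.inl (inv_inv _)
  obtain ⟨u, hu⟩ := hrange g hn
  have hut : u * T0 = T0 * u := d.inj (by
    rw [map_mul, map_mul, hu]
    exact ((show Commute g d.t from hgt).mul_left hgt).eq)
  have hu5 : u ^ 5 = 1 := d.inj (by rw [map_pow, hu, ← pow_two, ← pow_mul, show 2 * 5 = 5 * 2 from rfl, pow_mul,
    hg5, one_pow, map_one])
  have k3 : ∀ σ : Perm (Fin 3), σ ^ 5 = 1 → σ = 1 := by decide
  have k5 : ∀ π : Perm (Fin 5), π * swap 3 4 = swap 3 4 * π → π ^ 5 = 1 → π = 1 := by decide +kernel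
  have hu1 : u = 1 := Prod.ext (k3 _ (congrArg Prod.fst hu5))
    (k5 _ (congrArg Prod.snd hut) (congrArg Prod.snd hu5))
  rw [hu1, map_one, ← pow_two] at hu
  have hg1 : g = 1 := by
    rw [show g = g ^ 5 * ((g ^ 2) ^ 2)⁻¹ by rw [← pow_mul]; group, hg5, ← hu]
    simp
  rw [hg] at hg1
  have : d.φ (1, f) = 1 := by
    rw [show d.φ (1, f) = h * (h⁻¹ * d.φ (1, f) * h) * h⁻¹ by group, hg1, mul_one, mul_inv_cancel]
  exact absurd (congrArg Prod.snd (d.inj (this.trans (map_one d.φ).symm))) (by decide +kernel)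

/-- A commuting pair completing the chain. -/
theorem exists_gen [Finite G] (hA : d.β = swap 0 1) :
    ∃ a0 ∈ ([swap 2 3, swap 2 4] : List (Perm (Fin 5))),
      d.ψ a0 * d.φ (1, swap 0 4) = d.φ (1, swap 0 4) * d.ψ a0 := by
  obtain ⟨e⟩ := d.quot_six hA
  have hs01 : d.ψ (swap 0 1) = d.φ V0 := by rw [ψ_apply]; exact d.ext_b (by rw [d.hbv, hA])
  set s1 : G := d.φ V0 with hs1def
  set h : G := d.ψ (swap 0 3 * swap 1 4) with hh
  have hs1 : h * d.t * h⁻¹ = s1 := by
    rw [← d.ψ_t, hh, ← map_inv, ← map_mul, ← map_mul,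
      show swap (0 : Fin 5) 3 * swap 1 4 * swap 3 4 * (swap 0 3 * swap 1 4)⁻¹ = swap 0 1 by decide +kernel, hs01]
  set C := centralizer ({s1} : Set G) with hC
  have hmem : ∀ x ∈ C, h⁻¹ * x * h ∈ d.Ct := by
    intro x hx
    have hx' := mem_centralizer_singleton_iff.1 hx
    rw [d.mem_Ct, show d.t = h⁻¹ * s1 * h by rw [← hs1]; group]
    calc h⁻¹ * x * h * (h⁻¹ * s1 * h) = h⁻¹ * (x * s1) * h := by group
      _ = h⁻¹ * (s1 * x) * h := by rw [hx']
      _ = _ := by group
  let ρ : C →* d.Ct := MonoidHom.mk' (fun x => ⟨_, hmem x x.2⟩) (fun x y => Subtype.ext (by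
    show h⁻¹ * ((x : G) * y) * h = h⁻¹ * x * h * (h⁻¹ * y * h)
    group))
  let θ : C →* Perm (Fin 6) := (e.toMonoidHom.comp (QuotientGroup.mk' d.Tc)).comp ρ
  have hker : ∀ x : C, θ x = 1 → (x : G) = 1 ∨ (x : G) = s1 := by
    intro x hx
    have h1 : ρ x ∈ d.Tc := (QuotientGroup.eq_one_iff _).1 (e.injective (hx.trans (map_one e).symm))
    rcases d.mem_Tc.1 h1 with h2 | h2
    · left
      rw [show (x : G) = h * (h⁻¹ * x * h) * h⁻¹ by group, show h⁻¹ * (x : G) * h = 1 from h2, mul_one,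
        mul_inv_cancel]
    · right
      rw [show (x : G) = h * (h⁻¹ * x * h) * h⁻¹ by group, show h⁻¹ * (x : G) * h = d.t from h2, hs1]
  have hφC : ∀ π : Perm (Fin 5), d.φ (1, π) ∈ C := fun π =>
    mem_centralizer_singleton_iff.2 (d.commute_φ π (swap 0 1)).eq
  have hψC : ∀ π : Perm (Fin 5), π * swap 0 1 = swap 0 1 * π → d.ψ π ∈ C := fun π hπ =>
    mem_centralizer_singleton_iff.2 (by rw [← hs01, ← map_mul, ← map_mul, hπ])
  let X : Perm (Fin 5) → C := fun π => ⟨d.φ (1, π), hφC π⟩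
  have Xm : ∀ π π', X π * X π' = X (π * π') := fun π π' => Subtype.ext (by
    show d.φ (1, π) * d.φ (1, π') = d.φ (1, π * π')
    rw [← map_mul]; rfl)
  have X1 : X 1 = 1 := Subtype.ext (map_one d.φ)
  set A : C := ⟨d.ψ (swap 2 3), hψC _ (by decide +kernel)⟩ with hAdef
  have hfix := d.fix_pair hA
  have hψψ : ∀ π π' : Perm (Fin 5), d.ψ π * d.ψ π' = d.ψ (π * π') := fun π π' => (map_mul d.ψ π π').symm
  have hT : (X (swap 3 4) : G) = d.ψ (swap 3 4) := d.ψ_t.symm
  have key := six_chain (x₁ := θ (X (swap 1 2))) (x₂ := θ (X (swap 0 1))) (x₃ := θ (X (swap 0 4)))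
    (x₄ := θ (X (swap 3 4))) (a := θ A)
    (by rw [← map_mul, Xm, swap_mul_self, X1, map_one])
    (by rw [← map_mul, Xm, swap_mul_self, X1, map_one])
    (by rw [← map_mul, Xm, swap_mul_self, X1, map_one])
    (by rw [← map_mul, Xm, swap_mul_self, X1, map_one])
    (by
      rw [← map_mul, show A * A = 1 from Subtype.ext (by
        show d.ψ (swap 2 3) * d.ψ (swap 2 3) = 1
        rw [hψψ, swap_mul_self, map_one]), map_one])
    (by simp only [← map_mul, Xm]; congr 2; decide +kernel)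
    (by
      intro he
      have h1 : θ (X (swap 1 2) * X (swap 0 1)) = 1 := by
        rw [map_mul, he, ← map_mul, Xm, swap_mul_self, X1, map_one]
      rw [Xm] at h1
      rcases hker _ h1 with e1 | e1
      · exact absurd (congrArg Prod.snd (d.inj (e1.trans (map_one d.φ).symm))) (by decide +kernel)
      · exact absurd (congrArg Prod.snd (d.inj e1)) (by decide +kernel))
    (by simp only [← map_mul, Xm]; congr 2; decide +kernel)
    (by simp only [← map_mul, Xm]; congr 2; decide +kernel)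
    (by simp only [← map_mul, Xm]; congr 2; decide +kernel)
    (by simp only [← map_mul, Xm]; congr 2; decide +kernel)
    (by simp only [← map_mul, Xm]; congr 2; decide +kernel)
    (by rw [← map_mul, ← map_mul]; exact congrArg θ (Subtype.ext (hfix _ _ (Or.inr rfl)).eq))
    (by rw [← map_mul, ← map_mul]; exact congrArg θ (Subtype.ext (hfix _ _ (Or.inl rfl)).eq))
    (by
      simp only [← map_mul]
      refine congrArg θ (Subtype.ext ?_)
      simp only [Subgroup.coe_mul, hT, hAdef, hψψ]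
      congr 1
      decide +kernel)
    (by
      intro he
      have hTT : X (swap 3 4) * X (swap 3 4) = 1 := by rw [Xm, swap_mul_self, X1]
      have h1 : θ (A * X (swap 3 4)) = 1 := by rw [map_mul, he, ← map_mul, hTT, map_one]
      rcases hker _ h1 with e1 | e1 <;>
        simp only [Subgroup.coe_mul, hT, hAdef, hψψ] at e1 <;>
        rw [ψ_apply] at e1
      · have e2 : d.φ (1, swap 2 3 * swap 3 4) = 1 := by rw [← d.ext_b e1, mul_one, d.hb]
        exact absurd (congrArg Prod.snd (d.inj (e2.trans (map_one d.φ).symm))) (by decide +kernel)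
      · rw [← hs01, ψ_apply] at e1
        have e2 := congrArg Prod.snd (d.inj (mul_left_cancel (mul_right_cancel e1)))
        exact absurd e2 (by decide +kernel))
  -- lifting
  have lift : ∀ a' : C, (a' : G) * a' = 1 → Commute (d.φ (1, swap 0 1)) (a' : G) →
      θ (X (swap 0 4)) * θ a' = θ a' * θ (X (swap 0 4)) →
      (a' : G) * d.φ (1, swap 0 4) = d.φ (1, swap 0 4) * a' := by
    intro a' haa hx2 hθ
    set a := (a' : G) with ha
    set c := d.φ (1, swap 0 4) with hc
    set s := d.φ (1, swap 0 1) with hs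
    have hcc : c * c = 1 := by
      rw [hc, ← map_mul, show ((1, swap 0 4) * (1, swap 0 4) : PQ) = 1 from
        Prod.ext (one_mul 1) (swap_mul_self _ _), map_one]
    have hsc : Commute s1 c := (d.commute_φ _ _).symm
    have hss : Commute s1 s := (d.commute_φ _ _).symm
    have hbr : c * s * c = s * c * s := by
      rw [hc, hs, ← map_mul, ← map_mul, ← map_mul, ← map_mul]
      exact congrArg d.φ (Prod.ext (by simp) (by decide +kernel))
    have hw : θ (a' * X (swap 0 4) * a' * X (swap 0 4)) = 1 := by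
      rw [map_mul, map_mul, map_mul, mul_assoc (θ a' * θ (X (swap 0 4))),
        (show Commute (θ (X (swap 0 4))) (θ a') from hθ).mul_mul_mul_comm, ← map_mul, ← map_mul, Xm,
        swap_mul_self, X1, map_one, mul_one, show a' * a' = 1 from Subtype.ext haa, map_one]
    rcases hker _ hw with h0 | h0
    · have h0' : a * c * a * c = 1 := h0
      have h2 : (a * c) * (a * c) = 1 := by rw [← mul_assoc]; exact h0'
      have h3 := eq_inv_of_mul_eq_one_left h2
      rwa [mul_inv_rev, inv_eq_of_mul_eq_one_right haa, inv_eq_of_mul_eq_one_right hcc] at h3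
    · exfalso
      have h0' : a * c * a * c = s1 := h0
      have hac : a * c * a = s1 * c := by
        rw [← h0', mul_assoc _ c c, hcc, mul_one]
      have e1 : a * (c * s * c) * a = c * s * c := by
        calc a * (c * s * c) * a = (a * c) * (a * a) * s * c * a := by rw [haa]; group
          _ = (a * c * a) * (a * s) * c * a := by group
          _ = (a * c * a) * (s * a) * c * a := by rw [hx2.eq]
          _ = (a * c * a) * s * (a * c * a) := by group
          _ = s1 * c * s * (s1 * c) := by rw [hac]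
          _ = s1 * ((c * s) * s1) * c := by group
          _ = s1 * (s1 * (c * s)) * c := by rw [((hsc.mul_right hss).eq).symm]
          _ = (s1 * s1) * (c * s * c) := by group
          _ = _ := by
            rw [hs1def, ← map_mul, show V0 * V0 = 1 from Prod.ext (by simp) (by simp), map_one, one_mul]
      have e2 : a * (s * c * s) * a = s1 * (s * c * s) := by
        calc a * (s * c * s) * a = (a * s) * c * (s * a) := by group
          _ = (s * a) * c * (a * s) := by rw [hx2.eq]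
          _ = s * (a * c * a) * s := by group
          _ = s * s1 * c * s := by rw [hac]; group
          _ = s1 * s * c * s := by rw [hss.eq]
          _ = _ := by group
      rw [hbr] at e1
      have : s1 * (s * c * s) = 1 * (s * c * s) := by rw [one_mul, ← e2, e1]
      exact absurd (congrArg Prod.fst (d.inj ((mul_right_cancel this).trans (map_one d.φ).symm))) (by decide)
  rcases key with k | k
  · exact ⟨swap 2 3, List.mem_cons_self .., lift A (by
      show d.ψ (swap 2 3) * d.ψ (swap 2 3) = 1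
      rw [hψψ, swap_mul_self, map_one]) (hfix _ _ (Or.inl rfl)) k⟩
  · have hv : ((X (swap 3 4) * A * X (swap 3 4) : C) : G) = d.ψ (swap 2 4) := by
      simp only [Subgroup.coe_mul, hT, hAdef, hψψ]
      congr 1
      decide +kernel
    refine ⟨swap 2 4, by simp, ?_⟩
    have := lift (X (swap 3 4) * A * X (swap 3 4))
      (by rw [hv, hψψ, swap_mul_self, map_one]) (by rw [hv]; exact hfix _ _ (Or.inl rfl))
      (by rw [map_mul θ, map_mul θ]; exact k)
    rwa [hv] at this

/-- In the first case the group contains a copy of `Sym(8)`. -/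
theorem exists_hom [Finite G] (hA : d.β = swap 0 1) :
    ∃ Θ : Perm (Fin 8) →* G, Function.Injective Θ ∧ d.φ.range ≤ Θ.range ∧
      Θ (swap 3 4) = d.t ∧ Θ (swap 0 1) = d.φ V0 ∧
      Θ (swap 0 1 * swap 1 2) = d.z ∧ Θ (swap 5 6 * swap 6 7) = d.w := by
  obtain ⟨a0, ha0, hac⟩ := d.exists_gen hA
  have hs01 : d.ψ (swap 0 1) = d.φ V0 := by rw [ψ_apply]; exact d.ext_b (by rw [d.hbv, hA])
  have hs12 := d.ψ_12 hA
  let p : Fin 7 → PQ := fun i => ![(swap 0 1, 1), (swap 1 2, 1), 1, (1, swap 3 4), (1, swap 0 4), (1, swap 0 1),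
    (1, swap 1 2)] i
  let v : Fin 7 → G := fun i => if i = 2 then d.ψ a0 else d.φ (p i)
  have hq : ∀ i : Fin 7, i.val ≤ 3 → ∃ π : Perm (Fin 5), v i = d.ψ π ∧
      π = ![swap 0 1, swap 1 2, a0, swap 3 4, 1, 1, 1] i := by
    intro i hi
    fin_cases i <;> simp at hi <;> simp only [v, p] <;> refine ⟨_, ?_, rfl⟩
    exacts [hs01.symm, hs12.symm, rfl, d.ψ_t.symm]
  have hfix : ∀ π : Perm (Fin 5), π = swap 0 1 ∨ π = swap 1 2 → Commute (d.ψ a0) (d.φ (1, π)) :=
    fun π h => (d.fix_pair hA π a0 h).symm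
  have hlift : (CoxeterMatrix.A 7).IsLiftable v := by
    intro i j
    show (v i * v j) ^ (CoxeterMatrix.A 7).M i j = 1
    by_cases hij : i.val ≤ 3 ∧ j.val ≤ 3
    · obtain ⟨π, hπ, rfl⟩ := hq i hij.1
      obtain ⟨π', hπ', rfl⟩ := hq j hij.2
      rw [hπ, hπ', ← map_mul, ← map_pow]
      refine (congrArg d.ψ ?_).trans (map_one d.ψ)
      rcases List.mem_cons.1 ha0 with rfl | ha0
      · revert hij; clear * -; revert i j; decide +kernel
      · rw [List.mem_singleton.1 ha0]
        revert hij; clear * -; revert i j; decide +kernel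
    · by_cases h2 : i ≠ 2 ∧ j ≠ 2
      · simp only [v, if_neg h2.1, if_neg h2.2, ← map_mul, ← map_pow]
        refine (congrArg d.φ ?_).trans (map_one d.φ)
        have key : ∀ i j : Fin 7, i ≠ 2 → j ≠ 2 → (p i * p j) ^ (CoxeterMatrix.A 7).M i j = 1 := by
          simp only [p]; decide +kernel
        exact key i j h2.1 h2.2
      have hcases : (i = 2 ∧ 4 ≤ j.val) ∨ (j = 2 ∧ 4 ≤ i.val) := by
        revert hij h2; clear * -; revert i j; decide +kernel
      have hM : (CoxeterMatrix.A 7).M i j = 2 := by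
        rcases hcases with ⟨rfl, h⟩ | ⟨rfl, h⟩
        · fin_cases j <;> simp at h <;> simp [CoxeterMatrix.A] <;> decide
        · fin_cases i <;> simp at h <;> simp [CoxeterMatrix.A] <;> decide
      have hc : ∀ k : Fin 7, 4 ≤ k.val → Commute (d.ψ a0) (v k) := by
        intro k hk
        fin_cases k <;> simp at hk
        exacts [hac, hfix _ (Or.inl rfl), hfix _ (Or.inr rfl)]
      have haa : d.ψ a0 * d.ψ a0 = 1 := by
        rw [← map_mul]
        rcases List.mem_cons.1 ha0 with rfl | ha0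
        · rw [swap_mul_self, map_one]
        · rw [List.mem_singleton.1 ha0, swap_mul_self, map_one]
      have hkk : ∀ k : Fin 7, 4 ≤ k.val → v k * v k = 1 := by
        intro k hk
        have hk2 : k ≠ 2 := fun e => by simp [e] at hk
        simp only [v, if_neg hk2, ← map_mul]
        refine (congrArg d.φ ?_).trans (map_one d.φ)
        have key : ∀ k : Fin 7, p k * p k = 1 := by simp only [p]; decide +kernel
        exact key k
      rw [hM, pow_two]
      rcases hcases with ⟨rfl, hk⟩ | ⟨rfl, hk⟩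
      · show d.ψ a0 * v j * (d.ψ a0 * v j) = 1
        rw [(hc j hk).symm.mul_mul_mul_comm, haa, hkk j hk, one_mul]
      · show v i * d.ψ a0 * (v i * d.ψ a0) = 1
        rw [(hc i hk).mul_mul_mul_comm, hkk i hk, haa, one_mul]
  obtain ⟨cs, hcs⟩ := Cfsg.Agent.S2530.result 7
  let Θ : Perm (Fin 8) →* G := cs.lift ⟨v, hlift⟩
  have hΘ : ∀ i : Fin 7, Θ (swap i.castSucc i.succ) = v i := fun i => by
    rw [← hcs]; exact cs.lift_apply_simple hlift i
  have g0 : Θ (swap 0 1) = d.φ V0 := hΘ 0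
  have g1 : Θ (swap 1 2) = d.φ (swap 1 2, 1) := hΘ 1
  have g3 : Θ (swap 3 4) = d.t := hΘ 3
  have g4 : Θ (swap 4 5) = d.φ (1, swap 0 4) := hΘ 4
  have g5 : Θ (swap 5 6) = d.φ (1, swap 0 1) := hΘ 5
  have g6 : Θ (swap 6 7) = d.φ (1, swap 1 2) := hΘ 6
  have hz : Θ (swap 0 1 * swap 1 2) = d.z := by
    rw [map_mul, g0, g1, ← map_mul]; exact congrArg d.φ (Prod.ext rfl (by simp))
  have hw : Θ (swap 5 6 * swap 6 7) = d.w := by
    rw [map_mul, g5, g6, ← map_mul]; exact congrArg d.φ (Prod.ext (by simp) rfl)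
  have hr : d.φ.range ≤ Θ.range := by
    have h3 := three_gen (Θ.range.comap (d.φ.comp (MonoidHom.inl _ _))) ⟨_, g0⟩ ⟨_, g1⟩
    have h5 := five_gen (Θ.range.comap (d.φ.comp (MonoidHom.inr _ _))) ⟨_, g5⟩ ⟨_, g6⟩ ⟨_, g4⟩ ⟨_, g3⟩
    rintro _ ⟨⟨σ, π⟩, rfl⟩
    rw [show ((σ, π) : PQ) = (σ, 1) * (1, π) from Prod.ext (by simp) (by simp), map_mul]
    exact mul_mem (h3.ge (mem_top σ) : σ ∈ _) (h5.ge (mem_top π) : π ∈ _)
  refine ⟨Θ, Lie.SymExtend.injective_of_big (by norm_num) Θ ?_, hr, g3, g0, hz, hw⟩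
  have := Subgroup.card_le_of_le hr
  rw [← Nat.card_congr (MonoidHom.ofInjective d.inj).toEquiv, card_PQ] at this
  omega

end Data

end Cfsg.Agent.Lie.SymEightLocal
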