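import Cfsg.Agent.Lib.Lie.SymEightLocal.CaseA

/-!
The copy of `Sym(8)` has odd index; the transfer of the sign gives the three-local data of `Alt(8)`.
-/

set_option autoImplicit false
set_option maxRecDepth 100000

namespace Cfsg.Agent.Lie.SymEightLocal

open Subgroup Equiv

set_option maxHeartbeats 1600000

namespace Data

variable {G : Type*} [Group G] (d : Data G)

theorem caseA [Finite G] (hA : d.β = swap 0 1) :
    ∃ (M : Subgroup G) (Θ : Perm (Fin 8) →* G), M.index = 2 ∧ Function.Injective Θ ∧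
      Nonempty (Lead.AltEightLocal.Data M) := by
  classical
  obtain ⟨e6⟩ := d.quot_six hA
  obtain ⟨Θ, hinj, hr, h34, h01, hz, hw⟩ := d.exists_hom hA
  set H := Θ.range with hH
  -- the swapping involution
  have hbH : d.b ∈ H := by
    set σ : Perm (Fin 8) := swap 0 5 * swap 1 6 * swap 2 7
    have e : Θ σ * d.z * (Θ σ)⁻¹ = d.w := by
      rw [← hz, ← hw, ← map_inv, ← map_mul, ← map_mul]
      congr 1
      decide +kernel
    have hm : d.b * Θ σ ∈ H := hr (d.hN _ (Or.inl (by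
      rw [show d.b * Θ σ * d.φ Z0 * (d.b * Θ σ)⁻¹ = d.b * (Θ σ * d.z * (Θ σ)⁻¹) * d.b⁻¹ by group, e, d.bi]
      exact d.bwz)))
    have := mul_mem hm (inv_mem (show Θ σ ∈ H from ⟨σ, rfl⟩))
    rwa [mul_inv_cancel_right] at this
  have htH : d.t ∈ H := ⟨_, h34⟩
  -- the centraliser of `t`
  have hcardC : Nat.card d.Ct = 1440 := by
    have h1 := card_eq_card_quotient_mul_card_subgroup d.Tc
    rw [Nat.card_congr e6.toEquiv, Nat.card_perm, Nat.card_fin] at h1
    rw [h1, Tc, Nat.card_zpowers, orderOf_eq_prime (hp := ⟨Nat.prime_two⟩)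
      (Subtype.ext (show d.t ^ 2 = 1 by rw [pow_two]; exact d.ttt))
      (fun e => d.t_ne (congrArg Subtype.val e))]
    rfl
  have hCH : ∀ g : G, g * d.t = d.t * g → g ∈ H := by
    set K := (centralizer ({swap 3 4} : Set (Perm (Fin 8)))).map Θ
    have hKC : K ≤ d.Ct := by
      rintro _ ⟨σ, hσ, rfl⟩
      rw [d.mem_Ct, ← h34, ← map_mul, ← map_mul, mem_centralizer_singleton_iff.1 hσ]
    have hcy : (swap (3 : Fin 8) 4).cycleType = {2} :=
      Perm.isSwap_iff_cycleType.1 ⟨3, 4, by decide, rfl⟩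
    have hK : K = d.Ct := eq_of_le_of_card_ge hKC (by
      rw [card_map_of_injective hinj, Perm.nat_card_centralizer, hcy, hcardC, Fintype.card_fin]
      simp [Nat.factorial])
    intro g hg
    obtain ⟨σ, -, rfl⟩ := hK.ge (d.mem_Ct.2 hg)
    exact ⟨σ, rfl⟩
  -- conjugates of `t` in the copy
  have hswap : ∀ (g : G) (σ : Perm (Fin 8)), Θ σ = g⁻¹ * d.t * g → σ.IsSwap := by
    intro g σ hσ
    have hne : σ ≠ 1 := by
      rintro rfl
      refine d.t_ne ?_
      rw [show d.t = g * (g⁻¹ * d.t * g) * g⁻¹ by group, ← hσ, map_one, mul_one, mul_inv_cancel]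
    have h2 : σ * σ = 1 := hinj (by
      rw [map_mul, hσ, map_one, show g⁻¹ * d.t * g * (g⁻¹ * d.t * g) = g⁻¹ * (d.t * d.t) * g by group, d.ttt,
        mul_one, inv_mul_cancel])
    have hd : Nat.card (centralizer ({σ} : Set (Perm (Fin 8)))) ∣ 1440 := by
      rw [← hcardC, ← card_map_of_injective (K := centralizer ({σ} : Set (Perm (Fin 8)))) hinj, Ct,
        ← card_cent_conj g⁻¹ d.t, inv_inv]
      refine card_dvd_of_le ?_
      rintro _ ⟨τ, hτ, rfl⟩
      rw [mem_centralizer_singleton_iff, ← hσ, ← map_mul, ← map_mul, mem_centralizer_singleton_iff.1 hτ]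
    refine (invol_eight σ h2 hne hd).resolve_right fun hc => ?_
    obtain ⟨τ, hτ⟩ := isConj_iff.1 hc
    set g' := g * Θ τ
    set β8 : Perm (Fin 8) := swap 0 5 * swap 1 6 * swap 2 7
    have hg' : g'⁻¹ * d.t * g' = Θ β8 := by
      rw [show g'⁻¹ * d.t * g' = (Θ τ)⁻¹ * (g⁻¹ * d.t * g) * Θ τ by simp only [g']; group, ← hσ, ← hτ,
        map_mul, map_mul, map_inv]
      group
    -- the diagonal element centralised by the conjugate
    set y := d.φ (Z0 * W0) with hy
    have hyw : y * d.w = d.w * y := by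
      rw [hy, map_mul]; exact (((ZW_comm.map d.φ).mul_left (Commute.refl _))).eq
    have hyb : y * Θ β8 = Θ β8 * y := by
      rw [hy, map_mul, show d.φ Z0 = d.z from rfl, show d.φ W0 = d.w from rfl, ← hz, ← hw]
      rw [← map_mul, ← map_mul, ← map_mul]
      congr 1
      decide +kernel
    have hconj : g' * Θ β8 * g'⁻¹ = d.t := by rw [← hg']; group
    have hu : (g' * y * g'⁻¹) * d.t = d.t * (g' * y * g'⁻¹) := by
      rw [← hconj]
      calc g' * y * g'⁻¹ * (g' * Θ β8 * g'⁻¹) = g' * (y * Θ β8) * g'⁻¹ := by group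
        _ = g' * (Θ β8 * y) * g'⁻¹ := by rw [hyb]
        _ = _ := by group
    have h3 : (g' * y * g'⁻¹) ^ 3 = 1 := by
      rw [conj_pow, hy, ← map_pow, ZW_comm.mul_pow, Z0_pow, W0_pow, one_mul, map_one, mul_one, mul_inv_cancel]
    have := d.cent_t_three hu h3 (by rw [card_cent_conj]; exact d.h36) (g' * d.w * g'⁻¹) (by
      calc g' * d.w * g'⁻¹ * (g' * y * g'⁻¹) = g' * (d.w * y) * g'⁻¹ := by group
        _ = g' * (y * d.w) * g'⁻¹ := by rw [hyw]
        _ = _ := by group)
    have hwb : d.w * Θ β8 = Θ β8 * d.w := by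
      rw [← hconj] at this
      have h := congrArg (fun x => g'⁻¹ * x * g') this
      simpa [mul_assoc] using h
    rw [← hw, ← map_mul, ← map_mul] at hwb
    exact absurd (hinj hwb) (by decide +kernel)
  have hodd : Odd H.index := by
    refine odd_index htH d.ttt hCH fun g hg => ?_
    obtain ⟨σ, hσ⟩ := hg
    obtain ⟨a, c, hac, rfl⟩ := hswap g σ hσ
    obtain ⟨τ, hτ⟩ := isConj_iff.1 (Perm.isConj_swap (show (3 : Fin 8) ≠ 4 by decide) hac)
    exact ⟨Θ τ, ⟨τ, rfl⟩, by rw [← hσ, ← hτ, map_mul, map_mul, map_inv, h34]⟩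
  -- the transfer of the sign
  let χ : H →* ℤˣ := Perm.sign.comp (MonoidHom.ofInjective hinj).symm.toMonoidHom
  have hχ : ∀ (σ : Perm (Fin 8)) (h : Θ σ ∈ H), χ ⟨Θ σ, h⟩ = Perm.sign σ := fun σ h => by
    show Perm.sign ((MonoidHom.ofInjective hinj).symm ⟨Θ σ, h⟩) = Perm.sign σ
    congr 1
    rw [MulEquiv.symm_apply_eq]
    rfl
  let V : G →* ℤˣ := MonoidHom.transfer χ
  have hVt : V d.t = -1 := transfer_neg hodd χ htH d.ttt fun a h => by
    obtain ⟨σ, hσ⟩ := h
    have e : (⟨_, (show a⁻¹ * d.t * a ∈ H from ⟨σ, hσ⟩)⟩ : H) = ⟨Θ σ, ⟨σ, rfl⟩⟩ := Subtype.ext hσ.symm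
    show χ ⟨a⁻¹ * d.t * a, ⟨σ, hσ⟩⟩ = -1
    exact (congrArg χ e).trans ((hχ σ _).trans (hswap a σ hσ).sign_eq)
  have hVsurj : Function.Surjective V := fun x => by
    rcases Int.units_eq_one_or x with rfl | rfl
    exacts [⟨1, map_one V⟩, ⟨d.t, hVt⟩]
  have hVΘ : ∀ σ, V (Θ σ) = Perm.sign σ := by
    have : V.comp Θ = Perm.sign := Perm.eq_sign_of_surjective_hom fun x => by
      rcases Int.units_eq_one_or x with rfl | rfl
      exacts [⟨1, map_one _⟩, ⟨swap 3 4, by show V (Θ (swap 3 4)) = -1; rw [h34, hVt]⟩]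
    exact fun σ => DFunLike.congr_fun this σ
  set M := V.ker with hM
  have hMi : M.index = 2 := by
    rw [hM, index_ker, MonoidHom.range_eq_top.2 hVsurj, card_top, Nat.card_eq_fintype_card, Fintype.card_units_int]
  -- the sign on the normaliser
  have hVφ : ∀ u : PQ, V (d.φ u) = Perm.sign u.1 * Perm.sign u.2 := by
    have e1 : (V.comp (d.φ.comp (MonoidHom.inl _ _))) = Perm.sign := Perm.eq_sign_of_surjective_hom fun x => by
      rcases Int.units_eq_one_or x with rfl | rfl
      · exact ⟨1, map_one _⟩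
      · refine ⟨swap 0 1, ?_⟩
        show V (d.φ V0) = -1
        rw [← h01, hVΘ, Perm.sign_swap (by decide)]
    have e2 : (V.comp (d.φ.comp (MonoidHom.inr _ _))) = Perm.sign := Perm.eq_sign_of_surjective_hom fun x => by
      rcases Int.units_eq_one_or x with rfl | rfl
      exacts [⟨1, map_one _⟩, ⟨swap 3 4, hVt⟩]
    rintro ⟨σ, π⟩
    rw [show ((σ, π) : PQ) = (σ, 1) * (1, π) from Prod.ext (by simp) (by simp), map_mul, map_mul]
    show (V.comp (d.φ.comp (MonoidHom.inl _ _))) σ * (V.comp (d.φ.comp (MonoidHom.inr _ _))) π = _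
    rw [e1, e2]
    simp
  have hPP : ∀ p : Lead.AltEightLocal.PP, d.φ (p : PQ) ∈ M := fun p => by
    rw [hM, MonoidHom.mem_ker, hVφ, Lead.AltEightLocal.sign_eq, Int.units_mul_self]
  let φ' : Lead.AltEightLocal.PP →* M := (d.φ.comp (Subgroup.subtype _)).codRestrict M hPP
  obtain ⟨b', hb'M, hb', hb'z⟩ : ∃ b' : G, b' ∈ M ∧ b' * b' = 1 ∧ b' * d.z * b' = d.w := by
    rcases Int.units_eq_one_or (V d.b) with h | h
    · exact ⟨d.b, h, d.hb, d.hbz⟩
    · refine ⟨d.b * d.t, ?_, ?_, ?_⟩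
      · rw [hM, MonoidHom.mem_ker, map_mul, h, hVt]; rfl
      · rw [(show Commute d.t d.b from d.t_comm_b.symm).mul_mul_mul_comm, d.hb, d.ttt, one_mul]
      · have htz : d.t * d.z = d.z * d.t := (d.D_t d.zD).symm
        calc d.b * d.t * d.z * (d.b * d.t) = d.b * (d.t * d.z) * d.b * d.t := by group
          _ = d.b * d.z * (d.t * d.b) * d.t := by rw [htz]; group
          _ = d.b * d.z * d.b * (d.t * d.t) := by rw [← d.t_comm_b]; group
          _ = d.w := by rw [d.ttt, mul_one]; exact d.hbz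
  have hcoe : (((Lead.AltEightLocal.Z0 * Lead.AltEightLocal.W0 : Lead.AltEightLocal.PP)) : PQ) = Z0 * W0 := rfl
  refine ⟨M, Θ, hMi, hinj, ⟨⟨φ', ?_, ?_, ⟨b', hb'M⟩, Subtype.ext hb', Subtype.ext hb'z, ?_, ?_, ?_⟩⟩⟩
  · intro p q h
    exact Subtype.ext (d.inj (congrArg Subtype.val h))
  · intro g hg
    obtain ⟨u, hu⟩ := d.hN (g : G) (hg.imp (fun h => congrArg Subtype.val h) (fun h => congrArg Subtype.val h))
    have hVu : Perm.sign u.1 * Perm.sign u.2 = 1 := by rw [← hVφ, hu]; exact g.2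
    refine ⟨⟨u, Lead.AltEightLocal.mem_PP (σ := u.1) (π := u.2) ?_⟩, Subtype.ext hu⟩
    rcases Int.units_eq_one_or (Perm.sign u.1) with h1 | h1 <;>
      rcases Int.units_eq_one_or (Perm.sign u.2) with h2 | h2 <;> rw [h1, h2] at hVu ⊢ <;>
      exact absurd hVu (by decide)
  · set y := d.φ (Z0 * W0) with hy
    set C := centralizer ({y} : Set G) with hC
    have htC : d.t ∈ C := mem_centralizer_singleton_iff.2 (d.D_t ⟨_, mem_D0.2 ⟨1, 1, by simp⟩, rfl⟩).symm
    have h1 : Nat.card (C ⊓ M : Subgroup G) * 2 = 36 := by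
      have hk := (V.comp C.subtype).ker.card_mul_index
      have hsurj : Function.Surjective (V.comp C.subtype) := fun x => by
        rcases Int.units_eq_one_or x with rfl | rfl
        exacts [⟨1, map_one _⟩, ⟨⟨d.t, htC⟩, hVt⟩]
      rw [index_ker, MonoidHom.range_eq_top.2 hsurj, card_top, Nat.card_eq_fintype_card (α := ℤˣ),
        Fintype.card_units_int, show Nat.card C = 36 from d.h36] at hk
      rw [← hk, ← Nat.card_congr (subgroupOfEquivOfLe (inf_le_left : C ⊓ M ≤ C)).toEquiv]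
      congr 2
      rw [inf_subgroupOf_left]
      rfl
    have h2 : Nat.card (centralizer ({φ' Lead.AltEightLocal.Z0 * φ' Lead.AltEightLocal.W0} : Set M)) =
        Nat.card (C ⊓ M : Subgroup G) := by
      refine Nat.card_congr
        { toFun := fun x => ⟨((x : M) : G), ?_, (x : M).2⟩
          invFun := fun x => ⟨⟨(x : G), x.2.2⟩, ?_⟩
          left_inv := fun _ => rfl
          right_inv := fun _ => rfl }
      · have h := congrArg Subtype.val (mem_centralizer_singleton_iff.1 x.2)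
        refine mem_centralizer_singleton_iff.2 ?_
        rw [hy, map_mul]
        exact h
      · have h := mem_centralizer_singleton_iff.1 x.2.1
        refine mem_centralizer_singleton_iff.2 (Subtype.ext ?_)
        rw [hy, map_mul] at h
        exact h
    omega
  · intro g hg p hp
    obtain ⟨i, j, rfl⟩ := Lead.AltEightLocal.mem_centZW.1 hp
    have hg' : (g : G) ∈ centralizer ({d.φ (Z0 * W0)} : Set G) := by
      refine mem_centralizer_singleton_iff.2 ?_
      rw [map_mul]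
      exact congrArg Subtype.val (mem_centralizer_singleton_iff.1 hg)
    obtain ⟨q, hq, e⟩ := d.hnd _ hg' _ (mem_D0.2 ⟨i, j, rfl⟩)
    obtain ⟨k, l, rfl⟩ := mem_D0.1 hq
    exact ⟨_, Lead.AltEightLocal.mem_centZW.2 ⟨k, l, rfl⟩, Subtype.ext e⟩
  · exact fun h => d.h27 (h.trans (card_subgroup_dvd_card M))

end Data

end Cfsg.Agent.Lie.SymEightLocal
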