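import Cfsg.Agent.Lib.Lie.SymEightLocal.Model
import Mathlib

/-!
Facts on `Sym(5)` and `Alt(5)`.
-/

set_option autoImplicit false
set_option maxRecDepth 100000
set_option synthInstance.maxSize 1024
set_option maxHeartbeats 4000000

namespace Cfsg.Agent.Lie.SymEightLocal

open Equiv

/-- the double transposition of the second case -/
abbrev β0 : Perm (Fin 5) := swap 0 1 * swap 3 4
/-- a second double transposition commuting with `β0` and `c5` modulo the torus -/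
abbrev f0 : Perm (Fin 5) := swap 0 3 * swap 1 4
/-- the conjugate of `c5` normalising the four group -/
abbrev τ0 : Perm (Fin 5) := swap 1 3 * swap 3 4
/-- conjugates `c5` to `τ0` -/
abbrev l0 : Perm (Fin 5) := swap 0 3 * swap 1 4 * swap 4 2

theorem l0_facts : l0 * c5 * l0⁻¹ = τ0 ∧ l0⁻¹ * swap 3 4 * l0 = swap 0 1 := by decide +kernel

theorem four_cent : ∀ π : Perm (Fin 5), π * β0 = β0 * π → π * f0 = f0 * π →
    π = 1 ∨ π = β0 ∨ π = f0 ∨ π = β0 * f0 := by decide +kernel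

theorem four_conj : τ0 * β0 * τ0⁻¹ = f0 ∨ τ0 * β0 * τ0⁻¹ = β0 * f0 := by decide +kernel

theorem four_move : ∀ c : Fin 3, τ0 ^ c.val * β0 * (τ0 ^ c.val)⁻¹ = τ0 * β0 * τ0⁻¹ → c = 1 := by decide +kernel

theorem four_fix : ∀ π ∈ ([1, β0, f0, β0 * f0] : List (Perm (Fin 5))), π * τ0 = τ0 * π → π = 1 := by
  decide +kernel

theorem tri_five : ∀ π : Perm (Fin 5), π * π = 1 → π * swap 3 4 = swap 3 4 * π →
    π * (c5 * π * (c5 * c5)) * (c5 * c5 * π * c5) = 1 → π = 1 := by decide +kernel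

theorem tri_three : ∀ a c : Perm (Fin 3), c ^ 3 = 1 → c ≠ 1 → a * a = 1 →
    a * (c * a * c⁻¹) = c * a * c⁻¹ * a → a = 1 := by decide +kernel

theorem alt_three_conj : ∀ c : Perm (Fin 5), c * c * c = 1 → c ≠ 1 →
    ∃ g : Perm (Fin 5), Perm.sign g = 1 ∧ g * c * g⁻¹ = c5 := by decide +kernel

theorem alt_no_inverter_fix : ∀ a : Perm (Fin 5), a * a = 1 → a * (c5 * a * (c5 * c5)) * (c5 * c5 * a * c5) = 1 →
    a ≠ 1 → Perm.sign a = 1 → ∀ y : Perm (Fin 5), y * y = 1 → y * c5 * y = c5 * c5 → Perm.sign y = 1 →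
      (y * a * y = a ∨ y * a * y = c5 * a * (c5 * c5) ∨ y * a * y = c5 * c5 * a * c5) → False := by decide +kernel

theorem cent_pair : ∀ π : Perm (Fin 5), π * swap 3 4 = swap 3 4 * π → π * β0 = β0 * π →
    π = 1 ∨ π = swap 0 1 ∨ π = swap 3 4 ∨ π = β0 := by decide +kernel

theorem cent_f0 : ∀ π : Perm (Fin 5), π * swap 3 4 = swap 3 4 * π → π * β0 = β0 * π → π * f0 = f0 * π →
    π = 1 ∨ π = β0 := by decide +kernel

theorem odd_invol : ∀ π : Perm (Fin 5), π * π = 1 → Perm.sign π = -1 →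
    ∃ g : Perm (Fin 5), Perm.sign g = 1 ∧ g * swap 3 4 * g⁻¹ = π := by decide +kernel

theorem even_invol : ∀ π : Perm (Fin 5), π * π = 1 → Perm.sign π = 1 → π ≠ 1 →
    ∃ g : Perm (Fin 5), Perm.sign g = 1 ∧ g * β0 * g⁻¹ = π := by decide +kernel

theorem odd_invol_beta : ∀ π : Perm (Fin 5), π * π = 1 → Perm.sign π = -1 → π * β0 = β0 * π →
    π = swap 3 4 ∨ π = swap 0 1 := by decide +kernel

theorem alt_cent_beta : ∀ π : Perm (Fin 5), Perm.sign π = 1 → π * β0 = β0 * π →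
    π = 1 ∨ π = β0 ∨ π = f0 ∨ π = β0 * f0 := by decide +kernel

theorem word_beta : c5 * f0 * (c5 * c5) * f0 * c5 * f0 * (c5 * c5) * f0 * c5 * f0 = β0 := by decide +kernel

theorem word_tau : c5 * c5 * f0 * c5 * f0 * c5 = τ0 := by decide +kernel

theorem five_cycle : (c5 * f0) ^ 5 = 1 ∧ c5 * f0 ≠ 1 ∧ Perm.sign (c5 * f0) = 1 := by decide +kernel

theorem alt_decomp : ∀ π : Perm (Fin 5), Perm.sign π = 1 →
    ∃ (i : Fin 5) (a b : Fin 2) (c : Fin 3),
      π = (c5 * f0) ^ i.val * (f0 ^ a.val * β0 ^ b.val) * τ0 ^ c.val := by decide +kernel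

/-- `Alt(5)` is generated by `c5` and `f0`. -/
theorem alt_gen {K : Subgroup (Perm (Fin 5))} (hc : c5 ∈ K) (hf : f0 ∈ K) {π : Perm (Fin 5)}
    (hπ : Perm.sign π = 1) : π ∈ K := by
  obtain ⟨i, a, b, c, rfl⟩ := alt_decomp π hπ
  have hb : β0 ∈ K := by
    rw [← word_beta]
    exact mul_mem (mul_mem (mul_mem (mul_mem (mul_mem (mul_mem (mul_mem (mul_mem (mul_mem hc hf) (mul_mem hc hc)) hf) hc) hf) (mul_mem hc hc)) hf) hc) hf
  have ht : τ0 ∈ K := by
    rw [← word_tau]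
    exact mul_mem (mul_mem (mul_mem (mul_mem (mul_mem hc hc) hf) hc) hf) hc
  exact mul_mem (mul_mem (pow_mem (mul_mem hc hf) _) (mul_mem (pow_mem hf _) (pow_mem hb _))) (pow_mem ht _)

end Cfsg.Agent.Lie.SymEightLocal
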