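import Cfsg.Agent.Lib.Lie.SymEightLocal.CaseA
import Cfsg.Agent.Lib.Lie.SymEightLocal.FiveFacts

/-!
The second case: the involutions of the two four groups.
-/

set_option autoImplicit false

namespace Cfsg.Agent.Lie.SymEightLocal

open Subgroup Equiv

set_option maxHeartbeats 1000000

/-- the four group of double transpositions fixing the point two -/
def F4 : Subgroup (Perm (Fin 5)) := centralizer ({β0, f0} : Set (Perm (Fin 5)))

theorem mem_F4 {π : Perm (Fin 5)} : π ∈ F4 ↔ π = 1 ∨ π = β0 ∨ π = f0 ∨ π = β0 * f0 := by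
  constructor
  · intro h
    exact four_cent π (mem_centralizer_iff.1 h β0 (Set.mem_insert _ _)).symm
      (mem_centralizer_iff.1 h f0 (Set.mem_insert_of_mem _ rfl)).symm
  · intro h
    have hcomm : β0 * f0 = f0 * β0 := by decide +kernel
    have h1 : β0 * (β0 * f0) = β0 * f0 * β0 := by decide +kernel
    have h2 : f0 * (β0 * f0) = β0 * f0 * f0 := by decide +kernel
    refine mem_centralizer_iff.2 fun x hx => ?_
    simp only [Set.mem_insert_iff, Set.mem_singleton_iff] at hx
    rcases h with rfl | rfl | rfl | rfl <;> rcases hx with rfl | rfl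
    all_goals first
      | rfl
      | exact (mul_one _).trans (one_mul _).symm
      | exact hcomm
      | exact hcomm.symm
      | exact h1
      | exact h2

theorem F4_sq {π : Perm (Fin 5)} (h : π ∈ F4) : π * π = 1 := by
  rcases mem_F4.1 h with rfl | rfl | rfl | rfl <;> decide +kernel

namespace Data

variable {G : Type*} [Group G] (d : Data G)

/-- the involution of the second factor inverting `w` -/
abbrev v : G := d.φ (1, β0)
/-- the involution of the first factor inverting `z` -/
abbrev v' : G := d.φ V0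
/-- the second generator of the four group -/
abbrev f : G := d.φ (1, f0)
/-- its image under the swapping involution -/
abbrev f' : G := d.ψ f0

theorem φ_one (π π' : Perm (Fin 5)) : d.φ (1, π) * d.φ (1, π') = d.φ (1, π * π') := by
  rw [← map_mul]; rfl

theorem φ_comm {π π' : Perm (Fin 5)} (h : π * π' = π' * π) : d.φ (1, π) * d.φ (1, π') = d.φ (1, π') * d.φ (1, π) := by
  rw [φ_one, φ_one, h]

theorem φ_conj (π π' : Perm (Fin 5)) : d.φ (1, π) * d.φ (1, π') * (d.φ (1, π))⁻¹ = d.φ (1, π * π' * π⁻¹) := by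
  rw [← map_inv, ← map_mul, ← map_mul]
  exact congrArg d.φ (Prod.ext (by simp) rfl)

theorem bvb (hB : d.β = β0) : d.b * d.v' * d.b = d.v := by rw [v, v', d.hbv, hB]

theorem ψ_β0 (hB : d.β = β0) : d.ψ β0 = d.v' := by rw [ψ_apply]; exact d.ext_b (d.bvb hB)

theorem ψB_01 (hB : d.β = β0) : d.ψ (swap 0 1) = d.φ (swap 0 1, swap 3 4) := by
  rw [show (swap (0 : Fin 5) 1) = β0 * swap 3 4 by decide +kernel, map_mul, d.ψ_β0 hB, d.ψ_t, v', t, ← map_mul]
  exact congrArg d.φ (Prod.ext (mul_one _) (one_mul _))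

theorem vv : d.v * d.v = 1 := by
  rw [v, φ_one, show β0 * β0 = 1 by decide +kernel]
  exact map_one d.φ

theorem v'v' : d.v' * d.v' = 1 := by
  rw [v', ← map_mul, show V0 * V0 = 1 from Prod.ext (by simp) (by simp), map_one]

theorem ff : d.f * d.f = 1 := by
  rw [f, φ_one, show f0 * f0 = 1 by decide +kernel]
  exact map_one d.φ

theorem vi : d.v⁻¹ = d.v := inv_eq_of_mul_eq_one_right d.vv
theorem v'i : d.v'⁻¹ = d.v' := inv_eq_of_mul_eq_one_right d.v'v'
theorem fi : d.f⁻¹ = d.f := inv_eq_of_mul_eq_one_right d.ff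

theorem vv' : d.v * d.v' = d.v' * d.v := (d.commute_φ β0 (swap 0 1)).eq
theorem fv' : d.f * d.v' = d.v' * d.f := (d.commute_φ f0 (swap 0 1)).eq
theorem fv : d.f * d.v = d.v * d.f := d.φ_comm (by decide +kernel)
theorem vt : d.v * d.t = d.t * d.v := d.φ_comm (by decide +kernel)
theorem v't : d.v' * d.t = d.t * d.v' := ((d.commute_φ (swap 3 4) (swap 0 1)).eq).symm
theorem zφ (π : Perm (Fin 5)) : d.z * d.φ (1, π) = d.φ (1, π) * d.z := (d.commute_φ π c3).eq.symm
theorem zv : d.z * d.v = d.v * d.z := d.zφ β0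
theorem zf : d.z * d.f = d.f * d.z := d.zφ f0
theorem zt : d.z * d.t = d.t * d.z := d.zφ (swap 3 4)

theorem v'zv' : d.v' * d.z * d.v' = d.z * d.z := by
  rw [v', z, ← map_mul, ← map_mul, ← map_mul]
  exact congrArg d.φ (Prod.ext (by decide) (by simp))

theorem ftf : d.f * d.t * d.f = d.t * d.v := by
  rw [f, t, v, φ_one, φ_one, φ_one, show f0 * swap 3 4 * f0 = swap 3 4 * β0 by decide +kernel]

end Data

end Cfsg.Agent.Lie.SymEightLocal
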