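import Cfsg.Agent.Lib.Lie.SymEightLocal.CaseBNormal
import Cfsg.Agent.Lib.Solv.Component

/-!
The second case: the generalised Fitting subgroup is `Alt(5) × Alt(5)`.
-/

set_option autoImplicit false
set_option linter.unusedSectionVars false
set_option maxRecDepth 100000

namespace Cfsg.Agent.Lie.SymEightLocal

open Subgroup Equiv
open scoped commutatorElement

set_option maxHeartbeats 1600000

theorem A5_noncomm : ∀ a : Perm (Fin 5), a ≠ 1 → Perm.sign a = 1 →
    ∃ c ∈ [c5, f0], a * c * a⁻¹ * c⁻¹ ≠ 1 := by decide +kernel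

/-- a normal subgroup of a square of a simple group, invariant under the swap -/
theorem swap_normal {A : Type*} [Group A] [IsSimpleGroup A] (J : Subgroup (A × A)) [hJ : J.Normal]
    (hsw : ∀ p ∈ J, (p.2, p.1) ∈ J) (hne : ∀ a : A, a ≠ 1 → ∃ c : A, a * c * a⁻¹ * c⁻¹ ≠ 1) (hJ1 : J ≠ ⊥) :
    J = ⊤ := by
  have hswap : ∀ a : A, (a, (1 : A)) ∈ J → ((1 : A), a) ∈ J := fun a h => hsw _ h
  obtain ⟨⟨a, a'⟩, hp, hp1⟩ := (Subgroup.bot_or_exists_ne_one J).resolve_left hJ1
  obtain ⟨x, hx, hx1⟩ : ∃ x : A, (x, (1 : A)) ∈ J ∧ x ≠ 1 := by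
    by_cases ha : a = 1
    · subst ha
      exact ⟨a', hsw _ hp, fun h => hp1 (Prod.ext rfl h)⟩
    · obtain ⟨c, hc⟩ := hne a ha
      refine ⟨a * c * a⁻¹ * c⁻¹, ?_, hc⟩
      have h1 := mul_mem hp (hJ.conj_mem _ (inv_mem hp) (c, 1))
      convert h1 using 1
      exact Prod.ext (by simp [mul_assoc]) (by simp)
  have htop : J.comap (MonoidHom.inl A A) = ⊤ := by
    haveI : (J.comap (MonoidHom.inl A A)).Normal := hJ.comap _
    rcases (inferInstance : (J.comap (MonoidHom.inl A A)).Normal).eq_bot_or_eq_top with h | h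
    · exact absurd (Subgroup.mem_bot.1 (h.le (show x ∈ J.comap (MonoidHom.inl A A) from hx))) hx1
    · exact h
  rw [eq_top_iff]
  rintro ⟨u, w⟩ -
  have h1 : (u, (1 : A)) ∈ J := htop.ge (mem_top u)
  have h2 : ((1 : A), w) ∈ J := hswap w (htop.ge (mem_top w))
  have := mul_mem h1 h2
  simpa using this

namespace Data

variable {G : Type*} [Group G] (d : Data G) [Finite G] (hB : d.β = β0)

theorem cent_N : centralizer (d.N hB : Set G) = ⊥ := by
  rw [eq_bot_iff]
  intro g hg
  have hm : ∀ (π π' : Perm (Fin 5)) (h : Perm.sign π = Perm.sign π'), Perm.sign π = 1 →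
      Commute g (d.Φ hB (pr π π' h)) := fun π π' h hs =>
    (mem_centralizer_iff.1 hg _ ((d.mem_N hB).2 ⟨π, π', h, hs, rfl⟩)).symm
  have h1c : Perm.sign (1 : Perm (Fin 5)) = Perm.sign c5 := (map_one _).trans β0_sign.2.2.2.symm
  have hgz : g * d.z = d.z * g := by
    rw [← d.ψ_c5, ← d.Φ_right hB c5 h1c]; exact (hm 1 c5 h1c (map_one _)).eq
  obtain ⟨⟨σ, π⟩, rfl, hσ⟩ := d.cent_z hgz
  have hleft : ∀ a : Perm (Fin 5), Perm.sign a = 1 → π * a = a * π := fun a ha => by
    have h := (hm a 1 (ha.trans (map_one _).symm) ha).eq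
    rw [pr, d.Φ_left hB a _] at h
    exact congrArg Prod.snd (d.inj ((map_mul d.φ _ _).trans (h.trans (map_mul d.φ _ _).symm)))
  have hπ : π = 1 := cent_alt π (hleft c5 β0_sign.2.2.2) (hleft f0 β0_sign.2.1)
  have hv' : d.φ (σ, π) * d.v' = d.v' * d.φ (σ, π) := by
    rw [d.v'_eq hB]
    exact (hm 1 β0 ((map_one _).trans β0_sign.1.symm) (map_one _)).eq
  have hσ' : σ = 1 := by
    have h1 := cent_01 σ (congrArg Prod.fst (d.inj ((map_mul d.φ _ _).trans (hv'.trans (map_mul d.φ _ _).symm))))
    rcases h1 with h | h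
    · exact h
    · exfalso
      have e : swap (0 : Fin 3) 1 * c3 = c3 * swap 0 1 := by rw [← h]; exact congrArg Prod.fst hσ
      exact absurd e (by decide)
  rw [Subgroup.mem_bot, hσ', hπ]
  exact map_one d.φ

include hB in
theorem caseB : ∃ N : Subgroup G, N.Normal ∧ Cfsg.generalizedFittingSubgroup G = N ∧
    Nonempty (N ≃* alternatingGroup (Fin 5) × alternatingGroup (Fin 5)) ∧
    (∀ K : Subgroup G, K.Normal → K ≤ N → K = ⊥ ∨ K = N) ∧
    N.index = 4 ∧ ∀ g : G, g ^ 2 ∈ N := by
  classical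
  have hMN := d.M_eq_N hB
  haveI hN : (d.N hB).Normal := by
    rw [← hMN]; exact MonoidHom.normal_ker _
  haveI hsimple : IsSimpleGroup (alternatingGroup (Fin 5)) := alternatingGroup.isSimpleGroup_five
  have hne : ∀ a : alternatingGroup (Fin 5), a ≠ 1 → ∃ c : alternatingGroup (Fin 5), a * c * a⁻¹ * c⁻¹ ≠ 1 := by
    intro a ha
    obtain ⟨c, hc, hac⟩ := A5_noncomm a (fun e => ha (Subtype.ext e)) (Perm.mem_alternatingGroup.1 a.2)
    have hs : Perm.sign c = 1 := by
      simp only [List.mem_cons, List.mem_nil_iff, or_false] at hc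
      rcases hc with rfl | rfl
      exacts [β0_sign.2.2.2, β0_sign.2.1]
    exact ⟨⟨c, Perm.mem_alternatingGroup.2 hs⟩, fun e => hac (congrArg Subtype.val e)⟩
  refine ⟨d.N hB, hN, ?_, ⟨(MonoidHom.ofInjective (d.μ_inj hB)).symm⟩, ?_, ?_, ?_⟩
  · -- the two factors are components
    have hcomp : ∀ ι : alternatingGroup (Fin 5) →* alternatingGroup (Fin 5) × alternatingGroup (Fin 5),
        Function.Injective ι → ι.range.Normal → Cfsg.IsComponent (ι.range.map (d.μ hB)) := by
      intro ι hι hn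
      have hinj : Function.Injective ((d.μ hB).comp ι) := (d.μ_inj hB).comp hι
      have he : ι.range.map (d.μ hB) = ((d.μ hB).comp ι).range := (MonoidHom.range_comp _ _).symm
      have hsub : (ι.range.map (d.μ hB)).IsSubnormal := by
        refine Subgroup.IsSubnormal.step _ (d.N hB) ?_ hN.isSubnormal ?_
        · rintro _ ⟨q, -, rfl⟩; exact ⟨q, rfl⟩
        · constructor
          intro x hx g
          obtain ⟨q, hq, hqe⟩ := mem_subgroupOf.1 hx
          obtain ⟨r, hr⟩ := g.2
          rw [mem_subgroupOf]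
          exact ⟨r * q * r⁻¹, hn.conj_mem q hq r, by
            rw [map_mul, map_mul, map_inv, hqe, hr]; rfl⟩
      rw [he] at hsub ⊢
      set T := ((d.μ hB).comp ι).range
      let e : alternatingGroup (Fin 5) ≃* T := MonoidHom.ofInjective hinj
      haveI : IsSimpleGroup T := e.symm.isSimpleGroup
      have hnc : ∃ a c : T, a * c * a⁻¹ * c⁻¹ ≠ 1 := by
        have hc1 : (⟨c5, Perm.mem_alternatingGroup.2 β0_sign.2.2.2⟩ : alternatingGroup (Fin 5)) ≠ 1 := fun h =>
          absurd (congrArg Subtype.val h) (by decide +kernel)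
        obtain ⟨c, hc⟩ := hne _ hc1
        exact ⟨e _, e c, fun h => hc (e.injective (by simpa using h))⟩
      have hperf : ⁅T, T⁆ = T := by
        refine Subgroup.isPerfect_iff.1 ⟨?_⟩
        rcases (inferInstance : (commutator T).Normal).eq_bot_or_eq_top with h | h
        · exfalso
          obtain ⟨a, c, hac⟩ := hnc
          refine hac ?_
          have hm : ⁅a, c⁆ ∈ commutator T :=
            Subgroup.commutator_mem_commutator (mem_top a) (mem_top c)
          rw [h, Subgroup.mem_bot, commutatorElement_def] at hm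
          exact hm
        · exact h
      refine Solv.isComponent_of_minimal hsub ?_ hperf fun M hM hMt => ?_
      · intro h
        obtain ⟨a, c, hac⟩ := hnc
        have hone : ∀ x : T, x = 1 := fun x => Subtype.ext (Subgroup.mem_bot.1 (h ▸ x.2))
        exact hac (hone _)
      · rcases hM.eq_bot_or_eq_top with h | h
        · rw [h]; exact bot_le
        · exact absurd h hMt
    have hl : (MonoidHom.inl (alternatingGroup (Fin 5)) (alternatingGroup (Fin 5))).range.Normal := by
      constructor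
      rintro _ ⟨q, rfl⟩ g
      exact ⟨g.1 * q * g.1⁻¹, Prod.ext rfl (by simp)⟩
    have hr : (MonoidHom.inr (alternatingGroup (Fin 5)) (alternatingGroup (Fin 5))).range.Normal := by
      constructor
      rintro _ ⟨q, rfl⟩ g
      exact ⟨g.2 * q * g.2⁻¹, Prod.ext (by simp) rfl⟩
    have h1 := hcomp _ (fun a c e => congrArg Prod.fst e) hl
    have h2 := hcomp _ (fun a c e => congrArg Prod.snd e) hr
    refine le_antisymm (sup_le (sSup_le fun C hC => ?_) ?_) ?_
    · by_contra hle
      have h3 : ⁅C, d.N hB⁆ = ⊥ := (Solv.component_normal_dichotomy hC (d.N hB)).resolve_left hle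
      rw [Subgroup.commutator_eq_bot_iff_le_centralizer, d.cent_N hB, le_bot_iff] at h3
      exact Solv.qs_ne_bot hC.2 h3
    · refine le_trans ?_ (bot_le : (⊥ : Subgroup G) ≤ d.N hB)
      rw [← d.cent_N hB]
      haveI := Solv.fittingSubgroup_nilpotent (G := G)
      haveI hsol : Group.IsSolvable (Cfsg.fittingSubgroup G) := inferInstance
      have hk : ∀ T : Subgroup G, Cfsg.IsComponent T → T ≤ centralizer (Cfsg.fittingSubgroup G : Set G) :=
        fun T hT => Subgroup.commutator_eq_bot_iff_le_centralizer.1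
          (Solv.component_commutes_solvable hT Solv.fittingSubgroup_normal.isSubnormal hsol)
      intro x hx
      refine mem_centralizer_iff.2 ?_
      rintro _ ⟨⟨a, a'⟩, rfl⟩
      rw [show ((a, a') : alternatingGroup (Fin 5) × alternatingGroup (Fin 5)) = (a, 1) * (1, a') from
        Prod.ext (mul_one a).symm (one_mul a').symm, map_mul]
      have e1 : Commute x (d.μ hB (a, 1)) := mem_centralizer_iff.1 (hk _ h1 ⟨_, ⟨a, rfl⟩, rfl⟩) x hx
      have e2 : Commute x (d.μ hB (1, a')) := mem_centralizer_iff.1 (hk _ h2 ⟨_, ⟨a', rfl⟩, rfl⟩) x hx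
      exact (e1.mul_right e2).symm.eq
    · refine le_sup_of_le_left ?_
      rintro _ ⟨⟨a, a'⟩, rfl⟩
      rw [show ((a, a') : alternatingGroup (Fin 5) × alternatingGroup (Fin 5)) = (a, 1) * (1, a') from
        Prod.ext (mul_one a).symm (one_mul a').symm, map_mul]
      exact mul_mem (Solv.component_le_layer h1 ⟨_, ⟨a, rfl⟩, rfl⟩) (Solv.component_le_layer h2 ⟨_, ⟨a', rfl⟩, rfl⟩)
  · intro K hK hKN
    by_cases hJ : K.comap (d.μ hB) = ⊥
    · left
      rw [eq_bot_iff]
      intro x hx
      obtain ⟨p, rfl⟩ := hKN hx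
      rw [Subgroup.mem_bot, show p = 1 from Subgroup.mem_bot.1 (hJ.le hx), map_one]
    · right
      have := swap_normal (K.comap (d.μ hB)) (hJ := hK.comap _) (fun p hp => ?_) hne hJ
      · refine le_antisymm hKN ?_
        rintro _ ⟨p, rfl⟩
        exact (this.ge (mem_top p) : p ∈ K.comap (d.μ hB))
      · have h := hK.conj_mem _ hp d.b
        rw [d.bi] at h
        show d.μ hB (p.2, p.1) ∈ K
        have e : d.b * d.μ hB p * d.b = d.μ hB (p.2, p.1) :=
          d.bΦb hB (p.1 : Perm (Fin 5)) (p.2 : Perm (Fin 5)) (incl p).2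
        rw [← e]; exact h
  · rw [← hMN, d.M_index hB]
  · intro g
    rw [← hMN]
    show d.V hB (g ^ 2) = 1
    rw [map_pow]
    exact Prod.ext (Int.units_sq _) (Int.units_sq _)

end Data

end Cfsg.Agent.Lie.SymEightLocal
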