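import Cfsg.Agent.Lib.Lie.SymEightLocal.CaseBTriple
import Cfsg.Agent.Lib.Solv.Cores
import Cfsg.Agent.S3331
import Cfsg.Agent.Lib.Lie.PSpFourThreeAmalgam.Seven

/-!
The centraliser of the four group: the two-core contains the moved involution.
-/

set_option autoImplicit false
set_option linter.unusedSectionVars false

namespace Cfsg.Agent.Lie.SymEightLocal

open Subgroup Equiv

set_option maxHeartbeats 1600000

theorem four_norm : ∀ x ∈ ([1, β0, f0, β0 * f0] : List (Perm (Fin 5))),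
    τ0 * x * τ0⁻¹ ∈ ([1, β0, f0, β0 * f0] : List (Perm (Fin 5))) ∧
      τ0⁻¹ * x * τ0 ∈ ([1, β0, f0, β0 * f0] : List (Perm (Fin 5))) := by decide +kernel

theorem c5_pow_ne : ∀ j : Fin 3, j.val ≠ 0 → c5 ^ j.val ≠ 1 := by decide +kernel

theorem F4_list {π : Perm (Fin 5)} : π ∈ F4 ↔ π ∈ ([1, β0, f0, β0 * f0] : List (Perm (Fin 5))) := by
  rw [mem_F4]; simp

namespace Data

variable {G : Type*} [Group G] (d : Data G)

/-- the centraliser of the four group -/
def A : Subgroup G := centralizer ({d.v, d.f} : Set G)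

/-- the four group -/
def Vg : Subgroup G := F4.map (d.φ.comp (MonoidHom.inr (Perm (Fin 3)) (Perm (Fin 5))))

theorem mem_Vg {g : G} : g ∈ d.Vg ↔ ∃ π ∈ F4, d.φ (1, π) = g := Iff.rfl

theorem mem_A {g : G} : g ∈ d.A ↔ g * d.v = d.v * g ∧ g * d.f = d.f * g := by
  constructor
  · intro h
    exact ⟨(mem_centralizer_iff.1 h d.v (Set.mem_insert _ _)).symm,
      (mem_centralizer_iff.1 h d.f (Set.mem_insert_of_mem _ rfl)).symm⟩
  · rintro ⟨h1, h2⟩
    refine mem_centralizer_iff.2 fun x hx => ?_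
    rcases Set.mem_insert_iff.1 hx with rfl | hx
    · exact h1.symm
    · rw [Set.mem_singleton_iff.1 hx]; exact h2.symm

theorem Vg_central {g x : G} (hg : g ∈ d.A) (hx : x ∈ d.Vg) : g * x = x * g := by
  obtain ⟨π, hπ, rfl⟩ := d.mem_Vg.1 hx
  obtain ⟨h1, h2⟩ := d.mem_A.1 hg
  rcases mem_F4.1 hπ with rfl | rfl | rfl | rfl
  · rw [show d.φ ((1 : Perm (Fin 3)), (1 : Perm (Fin 5))) = 1 from map_one d.φ, mul_one, one_mul]
  · exact h1
  · exact h2
  · rw [← d.φ_one]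
    exact ((show Commute g d.v from h1).mul_right h2).eq

theorem Vg_sq {x : G} (hx : x ∈ d.Vg) : x * x = 1 := by
  obtain ⟨π, hπ, rfl⟩ := d.mem_Vg.1 hx
  rw [d.φ_one, F4_sq hπ]
  exact map_one d.φ

theorem v_Vg : d.v ∈ d.Vg := d.mem_Vg.2 ⟨β0, mem_F4.2 (Or.inr (Or.inl rfl)), rfl⟩
theorem f_Vg : d.f ∈ d.Vg := d.mem_Vg.2 ⟨f0, mem_F4.2 (Or.inr (Or.inr (Or.inl rfl))), rfl⟩

theorem Vg_le_A : d.Vg ≤ d.A := by
  intro x hx
  obtain ⟨π, hπ, rfl⟩ := d.mem_Vg.1 hx
  exact d.mem_A.2 ⟨d.φ_comm (mem_centralizer_iff.1 hπ β0 (Set.mem_insert _ _)).symm,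
    d.φ_comm (mem_centralizer_iff.1 hπ f0 (Set.mem_insert_of_mem _ rfl)).symm⟩

theorem z_A : d.z ∈ d.A := d.mem_A.2 ⟨d.zv, d.zf⟩
theorem v'_A : d.v' ∈ d.A := d.mem_A.2 ⟨d.vv'.symm, d.fv'.symm⟩

/-- centraliser of `z` in the centraliser of the four group -/
theorem A_cent_z {g : G} (hg : g ∈ d.A) (hz : g * d.z = d.z * g) :
    ∃ i : Fin 3, ∃ π ∈ F4, g = d.z ^ i.val * d.φ (1, π) := by
  obtain ⟨⟨σ, π⟩, rfl, hu⟩ := d.cent_z hz
  obtain ⟨h1, h2⟩ := d.mem_A.1 hg
  have k : ∀ ρ : Perm (Fin 5), d.φ (σ, π) * d.φ (1, ρ) = d.φ (1, ρ) * d.φ (σ, π) → π * ρ = ρ * π :=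
    fun ρ h => congrArg Prod.snd (d.inj ((map_mul d.φ _ _).trans (h.trans (map_mul d.φ _ _).symm)))
  have hπ : π ∈ F4 := mem_F4.2 (four_cent π (k _ h1) (k _ h2))
  have key : ∀ i : Fin 3, σ = c3 ^ i.val → ∃ i : Fin 3, ∃ π' ∈ F4, d.φ (σ, π) = d.z ^ i.val * d.φ (1, π') :=
    fun i hi => ⟨i, π, hπ, by
      rw [z, ← map_pow, ← map_mul]
      exact congrArg d.φ (Prod.ext (by simp [hi]) (by simp))⟩
  rcases cent_c3 σ (congrArg Prod.fst hu) with h | h | h
  · exact key 0 (by rw [h]; rfl)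
  · exact key 1 (by rw [h]; rfl)
  · exact key 2 (by rw [h, show ((2 : Fin 3) : ℕ) = 2 from rfl, pow_two])

/-- the three element normalising the four group -/
abbrev τg : G := d.φ (1, τ0)
/-- conjugates `w` to `τg` -/
abbrev lg : G := d.φ (1, l0)

theorem lwl : d.lg * d.w * d.lg⁻¹ = d.τg := by
  rw [lg, w, d.φ_conj, l0_facts.1]

theorem lzl : d.lg * d.z * d.lg⁻¹ = d.z := by
  rw [← d.zφ l0, mul_inv_cancel_right]

theorem zτ : d.z * d.τg = d.τg * d.z := d.zφ τ0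

theorem τv_Vg : d.τg * d.v * d.τg⁻¹ ∈ d.Vg := by
  rw [τg, v, d.φ_conj]
  exact d.mem_Vg.2 ⟨_, F4_list.2 (four_norm β0 (by simp)).1, rfl⟩

theorem τ_norm {a : G} : a ∈ d.A ↔ d.τg * a * d.τg⁻¹ ∈ d.A := by
  have key : ∀ π : Perm (Fin 5), (∀ x ∈ F4, π⁻¹ * x * π ∈ F4) → ∀ a ∈ d.A,
      d.φ (1, π) * a * (d.φ (1, π))⁻¹ ∈ d.A := by
    intro π hπ a ha
    have h : ∀ x ∈ F4, d.φ (1, π) * a * (d.φ (1, π))⁻¹ * d.φ (1, x) =
        d.φ (1, x) * (d.φ (1, π) * a * (d.φ (1, π))⁻¹) := by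
      intro x hx
      have e : d.φ (1, x) = d.φ (1, π) * d.φ (1, π⁻¹ * x * π) * (d.φ (1, π))⁻¹ := by
        rw [d.φ_conj]
        congr 2
        group
      have hc := d.Vg_central ha (d.mem_Vg.2 ⟨_, hπ x hx, rfl⟩)
      rw [e]
      generalize d.φ (1, π⁻¹ * x * π) = y at hc
      generalize d.φ (1, π) = p
      calc p * a * p⁻¹ * (p * y * p⁻¹) = p * (a * y) * p⁻¹ := by group
        _ = p * (y * a) * p⁻¹ := by rw [hc]
        _ = _ := by group
    exact d.mem_A.2 ⟨h β0 (mem_F4.2 (Or.inr (Or.inl rfl))), h f0 (mem_F4.2 (Or.inr (Or.inr (Or.inl rfl))))⟩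
  have h1 : ∀ x ∈ F4, τ0⁻¹ * x * τ0 ∈ F4 := fun x hx => F4_list.2 (four_norm x (F4_list.1 hx)).2
  have h2 : ∀ x ∈ F4, τ0⁻¹⁻¹ * x * τ0⁻¹ ∈ F4 := fun x hx => by
    rw [inv_inv]; exact F4_list.2 (four_norm x (F4_list.1 hx)).1
  refine ⟨key τ0 h1 a, fun h => ?_⟩
  have e : d.φ (1, τ0⁻¹) = d.τg⁻¹ := by
    rw [τg, ← map_inv]; exact congrArg d.φ (Prod.ext inv_one.symm rfl)
  have := key τ0⁻¹ h2 _ h
  rwa [e, inv_inv, show d.τg⁻¹ * (d.τg * a * d.τg⁻¹) * d.τg = a by group] at this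

/-- the torus around the four group -/
def D2 : Subgroup G := d.D.map (MulAut.conj d.lg).toMonoidHom

theorem mem_D2 {a : G} : a ∈ d.D2 ↔ ∃ i j : Fin 3, a = d.z ^ i.val * d.τg ^ j.val := by
  constructor
  · rintro ⟨x, hx, rfl⟩
    obtain ⟨i, j, rfl⟩ := d.mem_D.1 hx
    refine ⟨i, j, ?_⟩
    show d.lg * (d.z ^ i.val * d.w ^ j.val) * d.lg⁻¹ = _
    rw [← conj_mul, ← conj_pow, ← conj_pow, d.lzl, d.lwl]
  · rintro ⟨i, j, rfl⟩
    refine ⟨d.z ^ i.val * d.w ^ j.val, d.mem_D.2 ⟨i, j, rfl⟩, ?_⟩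
    show d.lg * (d.z ^ i.val * d.w ^ j.val) * d.lg⁻¹ = _
    rw [← conj_mul, ← conj_pow, ← conj_pow, d.lzl, d.lwl]

theorem card_D2 : Nat.card d.D2 = 9 := by
  rw [D2, card_map_of_injective (MulAut.conj d.lg).injective, d.card_D]

theorem D2_comm {a c : G} (ha : a ∈ d.D2) (hc : c ∈ d.D2) : a * c = c * a := by
  obtain ⟨i, j, rfl⟩ := d.mem_D2.1 ha
  obtain ⟨k, l, rfl⟩ := d.mem_D2.1 hc
  have h : Commute d.z d.τg := d.zτ
  exact ((((Commute.refl _).pow_pow _ _).mul_right (h.pow_pow _ _)).mul_left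
    ((h.symm.pow_pow _ _).mul_right ((Commute.refl _).pow_pow _ _))).eq

theorem D2_three {a : G} (ha : a ∈ d.D2) : a ^ 3 = 1 := by
  obtain ⟨x, hx, rfl⟩ := ha
  rw [← map_pow, d.D_exp hx, map_one]

theorem D2_norm {a g : G} (ha : a ∈ d.D2) : g ∈ d.A ↔ a * g * a⁻¹ ∈ d.A := by
  have hk : ∀ a : G, (∀ g, g ∈ d.A ↔ a * g * a⁻¹ ∈ d.A) → ∀ n : ℕ, ∀ g, g ∈ d.A ↔ a ^ n * g * (a ^ n)⁻¹ ∈ d.A := by
    intro a h n
    induction n with
    | zero => simp
    | succ n ih =>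
      intro g
      rw [pow_succ, show a ^ n * a * g * (a ^ n * a)⁻¹ = a ^ n * (a * g * a⁻¹) * (a ^ n)⁻¹ by group, ← ih, ← h]
  obtain ⟨i, j, rfl⟩ := d.mem_D2.1 ha
  have hzA : ∀ g, g ∈ d.A ↔ d.z * g * d.z⁻¹ ∈ d.A := fun g => by
    rw [mul_mem_cancel_right (inv_mem d.z_A), mul_mem_cancel_left d.z_A]
  rw [show d.z ^ i.val * d.τg ^ j.val * g * (d.z ^ i.val * d.τg ^ j.val)⁻¹ =
    d.z ^ i.val * (d.τg ^ j.val * g * (d.τg ^ j.val)⁻¹) * (d.z ^ i.val)⁻¹ by group, ← hk d.z hzA i.val,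
    ← hk d.τg (fun g => d.τ_norm) j.val]

/-- centralisers of diagonal elements in the centraliser of the four group -/
theorem A_cent_diag [Finite G] {g : G} (hg : g ∈ d.A) {i j : Fin 3} (hi : i.val ≠ 0) (hj : j.val ≠ 0)
    (hc : g * (d.z ^ i.val * d.τg ^ j.val) = d.z ^ i.val * d.τg ^ j.val * g) :
    ∃ k : Fin 3, g = d.z ^ k.val := by
  set g1 := d.lg⁻¹ * g * d.lg with hg1
  have e : d.z ^ i.val * d.τg ^ j.val = d.lg * (d.z ^ i.val * d.w ^ j.val) * d.lg⁻¹ := by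
    rw [← conj_mul, ← conj_pow, ← conj_pow, d.lzl, d.lwl]
  have hp : d.φ (Z0 ^ i.val * W0 ^ j.val) = d.z ^ i.val * d.w ^ j.val := by rw [map_mul, map_pow, map_pow]
  have hc1 : g1 * d.φ (Z0 ^ i.val * W0 ^ j.val) = d.φ (Z0 ^ i.val * W0 ^ j.val) * g1 := by
    rw [hp, hg1]
    generalize d.z ^ i.val * d.w ^ j.val = q at e
    rw [e] at hc
    calc d.lg⁻¹ * g * d.lg * q = d.lg⁻¹ * (g * (d.lg * q * d.lg⁻¹)) * d.lg := by group
      _ = d.lg⁻¹ * (d.lg * q * d.lg⁻¹ * g) * d.lg := by rw [hc]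
      _ = _ := by group
  have hn : d.NormD g1 := (d.cent_diag rfl hi hj).2 g1 hc1
  obtain ⟨a, c, hac⟩ := d.mem_D.1 (hn _ d.wD)
  -- the exponent of `w` is one
  have hgτ : g * d.τg * g⁻¹ = d.z ^ a.val * d.τg ^ c.val := by
    rw [show g * d.τg * g⁻¹ = d.lg * (g1 * d.w * g1⁻¹) * d.lg⁻¹ by rw [hg1, ← d.lwl]; group, hac, ← conj_mul,
      ← conj_pow, ← conj_pow, d.lzl, d.lwl]
  have hc' : c = 1 := by
    refine four_move c ?_
    have h1 : g * d.τg * g⁻¹ * d.v * (g * d.τg * g⁻¹)⁻¹ = d.τg * d.v * d.τg⁻¹ := by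
      rw [show g * d.τg * g⁻¹ * d.v * (g * d.τg * g⁻¹)⁻¹ = g * (d.τg * (g⁻¹ * d.v * g) * d.τg⁻¹) * g⁻¹ by group,
        show g⁻¹ * d.v * g = d.v by rw [mul_assoc, ← (d.mem_A.1 hg).1, inv_mul_cancel_left],
        d.Vg_central hg d.τv_Vg, mul_inv_cancel_right]
    have h2 : d.z ^ a.val * (d.τg ^ c.val * d.v * (d.τg ^ c.val)⁻¹) * (d.z ^ a.val)⁻¹ = d.τg * d.v * d.τg⁻¹ := by
      rw [← h1, hgτ]; group
    have h3 : d.τg ^ c.val * d.v * (d.τg ^ c.val)⁻¹ = d.φ (1, τ0 ^ c.val * β0 * (τ0 ^ c.val)⁻¹) := by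
      rw [← d.φ_conj, τg, ← map_pow, Prod.pow_mk, one_pow]
    rw [h3, ((show Commute d.z (d.φ (1, τ0 ^ c.val * β0 * (τ0 ^ c.val)⁻¹)) from d.zφ _).pow_left a.val).eq,
      mul_inv_cancel_right, τg, v, d.φ_conj] at h2
    exact congrArg Prod.snd (d.inj h2)
  -- the exponent of `z` vanishes
  have ha : a.val = 0 := by
    by_contra ha
    have h36 := (d.cent_diag (p := Z0 ^ a.val * W0 ^ c.val) rfl ha (by rw [hc']; decide)).1
    rw [map_mul, map_pow, map_pow, show d.φ Z0 ^ a.val * d.φ W0 ^ c.val = d.z ^ a.val * d.w ^ c.val from rfl,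
      ← hac, card_cent_conj] at h36
    have := d.z_types.2
    omega
  rw [ha, hc', pow_zero, one_mul, show ((1 : Fin 3) : ℕ) = 1 from rfl, pow_one] at hgτ
  have hτ : Commute g d.τg := mul_inv_eq_iff_eq_mul.1 hgτ
  have hzi : Commute g (d.z ^ i.val) := by
    have h := (show Commute g (d.z ^ i.val * d.τg ^ j.val) from hc).mul_right (hτ.pow_right j.val).inv_right
    rwa [mul_inv_cancel_right] at h
  have hz : Commute g d.z := by
    rcases (show i.val = 1 ∨ i.val = 2 by omega) with ei | ei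
    · rwa [ei, pow_one] at hzi
    · rw [ei] at hzi
      have := hzi.inv_right
      rwa [show (d.z ^ 2)⁻¹ = d.z from inv_eq_of_mul_eq_one_right (by rw [← pow_succ, d.z3])] at this
  obtain ⟨k, π, hπ, rfl⟩ := d.A_cent_z hg hz.eq
  refine ⟨k, ?_⟩
  have hπτ : π * τ0 = τ0 * π := by
    have h : Commute (d.φ (1, π)) d.τg := by
      have := ((show Commute d.z d.τg from d.zτ).pow_left k.val).inv_left.mul_left hτ
      rwa [inv_mul_cancel_left] at this
    exact congrArg Prod.snd (d.inj ((map_mul d.φ _ _).trans (h.eq.trans (map_mul d.φ _ _).symm)))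
  rw [four_fix π (F4_list.1 hπ) hπτ, show d.φ ((1 : Perm (Fin 3)), (1 : Perm (Fin 5))) = 1 from map_one d.φ, mul_one]

/-- no element of order seven centralises a nontrivial element of the conjugate torus -/
theorem no_seven [Finite G] {a g : G} (ha : a ∈ d.D2) (ha1 : a ≠ 1) (hg : g ^ 7 = 1) (hg1 : g ≠ 1)
    (hc : g * a = a * g) : False := by
  obtain ⟨x, hx, rfl⟩ := ha
  have hx1 : x ≠ 1 := fun e => ha1 (by rw [e, map_one])
  set g1 := d.lg⁻¹ * g * d.lg with hg1def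
  have h7 : g1 ^ 7 = 1 := by
    rw [hg1def, show d.lg⁻¹ * g * d.lg = d.lg⁻¹ * g * d.lg⁻¹⁻¹ by group, conj_pow, hg, mul_one, mul_inv_cancel]
  have h1 : g1 ≠ 1 := fun e => hg1 (by
    rw [show g = d.lg * g1 * d.lg⁻¹ by rw [hg1def]; group, e, mul_one, mul_inv_cancel])
  have hc1 : g1 * x = x * g1 := by
    change g * (d.lg * x * d.lg⁻¹) = d.lg * x * d.lg⁻¹ * g at hc
    rw [hg1def]
    calc d.lg⁻¹ * g * d.lg * x = d.lg⁻¹ * (g * (d.lg * x * d.lg⁻¹)) * d.lg := by group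
      _ = d.lg⁻¹ * (d.lg * x * d.lg⁻¹ * g) * d.lg := by rw [hc]
      _ = _ := by group
  have ho : orderOf g1 = 7 := orderOf_eq_prime (hp := ⟨by norm_num⟩) h7 h1
  have hdvd : Nat.card (centralizer ({x} : Set G)) ∣ 720 := by
    have hz : Nat.card (centralizer ({d.z} : Set G)) ∣ 720 := by
      rw [← card_PQ, Nat.card_congr (MonoidHom.ofInjective d.inj).toEquiv]
      refine card_dvd_of_le fun q hq => ?_
      obtain ⟨u, rfl, -⟩ := d.cent_z (mem_centralizer_singleton_iff.1 hq)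
      exact ⟨u, rfl⟩
    have hw : Nat.card (centralizer ({d.w} : Set G)) ∣ 720 := by
      rwa [← d.bwz, show d.b * d.w * d.b = d.b * d.w * d.b⁻¹ by rw [d.bi], card_cent_conj] at hz
    have hi : ∀ y : G, centralizer ({y⁻¹} : Set G) = centralizer ({y} : Set G) := fun y => by
      ext q
      simp only [mem_centralizer_singleton_iff]
      exact ⟨fun h => (Commute.inv_right_iff.1 h : Commute q y).eq, fun h => (show Commute q y from h).inv_right.eq⟩
    rcases d.D_types hx hx1 with (rfl | rfl) | (rfl | rfl) | ⟨i, j, hi', hj', rfl⟩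
    · exact hz
    · rw [hi]; exact hz
    · exact hw
    · rw [hi]; exact hw
    · rw [(d.cent_diag rfl hi' hj').1]; norm_num
  have hm : g1 ∈ centralizer ({x} : Set G) := mem_centralizer_singleton_iff.2 hc1
  have := orderOf_dvd_natCard (⟨g1, hm⟩ : centralizer ({x} : Set G))
  rw [Subgroup.orderOf_mk, ho] at this
  have := this.trans hdvd
  norm_num at this

/-- the centraliser of the four group has no section of order `168` -/
theorem A_card_ne [Finite G] : Nat.card d.A ≠ 672 := by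
  classical
  intro hcard
  haveI : Fact (Nat.Prime 7) := ⟨by norm_num⟩
  haveI : Fact (Nat.Prime 3) := ⟨Nat.prime_three⟩
  let c : d.D2 → MulAut d.A := fun a =>
    { toFun := fun g => ⟨a * g * (a : G)⁻¹, (d.D2_norm a.2).1 g.2⟩
      invFun := fun g => ⟨(a : G)⁻¹ * g * a, (d.D2_norm a.2).2 (by
        rw [show (a : G) * ((a : G)⁻¹ * g * a) * (a : G)⁻¹ = g by group]; exact g.2)⟩
      left_inv := fun g => Subtype.ext (by show (a : G)⁻¹ * (a * g * (a : G)⁻¹) * a = g; group)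
      right_inv := fun g => Subtype.ext (by show (a : G) * ((a : G)⁻¹ * g * a) * (a : G)⁻¹ = g; group)
      map_mul' := fun g h => Subtype.ext (by
        show (a : G) * ((g : G) * h) * (a : G)⁻¹ = a * g * (a : G)⁻¹ * (a * h * (a : G)⁻¹); group) }
  let ρ : d.D2 →* MulAut d.A := MonoidHom.mk' c fun a a' => by
    ext g
    show ((a : G) * a') * g * ((a : G) * a')⁻¹ = a * (a' * g * (a' : G)⁻¹) * (a : G)⁻¹
    group
  letI : MulAction d.D2 (Sylow 7 d.A) := MulAction.compHom _ ρ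
  have hn : ¬ 3 ∣ Nat.card (Sylow 7 d.A) := by
    obtain ⟨P⟩ : Nonempty (Sylow 7 d.A) := inferInstance
    have hd : Nat.card (Sylow 7 d.A) ∣ 96 := by
      have h1 : Nat.card (Sylow 7 d.A) ∣ 672 := by
        rw [P.card_eq_index_normalizer, ← hcard]; exact index_dvd_card _
      refine Nat.Coprime.dvd_of_dvd_mul_left ?_ (show Nat.card (Sylow 7 d.A) ∣ 7 * 96 by norm_num; exact h1)
      rw [Nat.coprime_comm, Nat.Prime.coprime_iff_not_dvd (by norm_num)]
      exact not_dvd_card_sylow 7 d.A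
    have h7 : Nat.card (Sylow 7 d.A) % 7 = 1 := card_sylow_modEq_one 7 d.A
    intro h3
    have hle := Nat.le_of_dvd (by norm_num) hd
    interval_cases h : Nat.card (Sylow 7 d.A) <;> simp_all
  have hD2 : IsPGroup 3 d.D2 := IsPGroup.of_card (n := 2) (by rw [d.card_D2]; rfl)
  obtain ⟨P, hP⟩ := hD2.nonempty_fixed_point_of_prime_not_dvd_card (Sylow 7 d.A) hn
  have hPc : Nat.card (P : Subgroup d.A) = 7 := by
    rw [P.card_eq_multiplicity, hcard, show (672 : ℕ).factorization 7 = 1 from ?_, pow_one]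
    rw [show (672 : ℕ) = 7 * 96 by norm_num, Nat.factorization_mul (by norm_num) (by norm_num),
      Finsupp.add_apply, Nat.Prime.factorization_self (by norm_num),
      Nat.factorization_eq_zero_of_not_dvd (by norm_num)]
  obtain ⟨p, hp⟩ := exists_prime_orderOf_dvd_card' (G := (P : Subgroup d.A)) 7 (by rw [hPc])
  have hpA : orderOf ((p : d.A) : G) = 7 := by rw [Subgroup.orderOf_coe, Subgroup.orderOf_coe, hp]
  have hgen : ∀ x : d.A, x ∈ (P : Subgroup d.A) → ∃ k : Fin 7, (x : G) = ((p : d.A) : G) ^ k.val := by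
    intro x hx
    have htop : zpowers p = ⊤ := eq_top_of_card_eq _ (by rw [Nat.card_zpowers, hp, hPc])
    obtain ⟨k, hk⟩ := mem_powers_iff_mem_zpowers.2 (htop.ge (mem_top (⟨x, hx⟩ : (P : Subgroup d.A))))
    refine ⟨⟨k % 7, Nat.mod_lt _ (by norm_num)⟩, ?_⟩
    rw [← congrArg (fun q : (P : Subgroup d.A) => ((q : d.A) : G)) hk]
    simp only [SubmonoidClass.coe_pow]
    rw [← pow_mod_orderOf, hpA]
  set q : G := ((p : d.A) : G) with hq
  have hconj : ∀ a : d.D2, ∃ k : Fin 7, (a : G) * q * (a : G)⁻¹ = q ^ k.val := fun a => by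
    have : ρ a (p : d.A) ∈ (P : Subgroup d.A) := by
      have e : a • P = P := hP a
      exact (SetLike.ext_iff.1 e (ρ a (p : d.A))).1 ⟨p, p.2, rfl⟩
    exact hgen _ this
  choose k hk using hconj
  have hq7 : q ^ 7 = 1 := hpA ▸ pow_orderOf_eq_one q
  have hcube : ∀ a : d.D2, (k a).val ^ 3 % 7 = 1 := by
    intro a
    have e : ∀ n : ℕ, (a : G) ^ n * q * ((a : G) ^ n)⁻¹ = q ^ ((k a).val ^ n) := by
      intro n
      induction n with
      | zero => simp
      | succ n ih =>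
        rw [pow_succ', show (a : G) * (a : G) ^ n * q * ((a : G) * (a : G) ^ n)⁻¹ =
          a * ((a : G) ^ n * q * ((a : G) ^ n)⁻¹) * (a : G)⁻¹ by group, ih, ← conj_pow, hk, ← pow_mul,
          ← pow_succ']
    have := e 3
    rw [d.D2_three a.2, one_mul, inv_one, mul_one] at this
    have h2 := pow_eq_pow_iff_modEq.1 ((pow_one q).trans this)
    rw [hpA] at h2
    exact h2.symm
  have hinj : Function.Injective k := by
    intro a a' h
    by_contra hne
    have hne' : (a' : G)⁻¹ * a ≠ 1 := fun e => hne (Subtype.ext (inv_mul_eq_one.1 e).symm)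
    refine d.no_seven (mul_mem (inv_mem a'.2) a.2) hne' hq7 (fun e => ?_) ?_
    · rw [e, orderOf_one] at hpA; norm_num at hpA
    · have h1 : (a : G) * q * (a : G)⁻¹ = a' * q * (a' : G)⁻¹ := by rw [hk, hk, h]
      calc q * ((a' : G)⁻¹ * a) = (a' : G)⁻¹ * (a' * q * (a' : G)⁻¹) * a := by group
        _ = (a' : G)⁻¹ * (a * q * (a : G)⁻¹) * a := by rw [h1]
        _ = _ := by group
  have h9 : Nat.card d.D2 ≤ Nat.card {m : Fin 7 // m.val ^ 3 % 7 = 1} :=
    Nat.card_le_card_of_injective (fun a => (⟨k a, hcube a⟩ : {m : Fin 7 // m.val ^ 3 % 7 = 1}))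
      fun a a' h => hinj (congrArg Subtype.val h)
  rw [d.card_D2, Nat.card_eq_fintype_card] at h9
  exact absurd h9 (by decide)

/-- a two-subgroup normal in every overgroup normalising the centraliser of the four group -/
theorem exists_core [Finite G] {u : G} (huA : u ∈ d.A) (hu : Tri d.z d.v u)
    (hv' : d.v' * u * d.v' = u ∨ d.v' * u * d.v' = d.z * u * (d.z * d.z) ∨ d.v' * u * d.v' = d.z * d.z * u * d.z) :
    ∃ Q : Subgroup G, Q ≤ d.A ∧ IsPGroup 2 Q ∧ d.Vg ≤ Q ∧ u ∈ Q ∧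
      ∀ g : G, (∀ a, a ∈ d.A ↔ g * a * g⁻¹ ∈ d.A) → ∀ q ∈ Q, g * q * g⁻¹ ∈ Q := by
  classical
  haveI : Fact (Nat.Prime 2) := ⟨Nat.prime_two⟩
  haveI : Fact (Nat.Prime 3) := ⟨Nat.prime_three⟩
  obtain ⟨uu, -, huz, hu3⟩ := hu
  set K := Cfsg.pCore 2 d.A with hK
  haveI hKn : K.Normal := Solv.pCore_normal 2
  have hK2 : IsPGroup 2 K := Solv.pCore_isPGroup 2
  set Vs := d.Vg.subgroupOf d.A with hVs
  haveI : Vs.Normal := ⟨fun x hx g => by
    rw [hVs, Subgroup.mem_subgroupOf] at hx ⊢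
    rw [Subgroup.coe_mul, Subgroup.coe_mul, Subgroup.coe_inv, d.Vg_central g.2 hx, mul_inv_cancel_right]
    exact hx⟩
  have hVs2 : IsPGroup 2 Vs := fun x => ⟨1, by
    refine Subtype.ext (Subtype.ext ?_)
    rw [pow_one, pow_two]
    exact d.Vg_sq x.2⟩
  have hVK : Vs ≤ K := Solv.normal_le_pCore hVs2
  refine ⟨K.map d.A.subtype, map_subtype_le K, hK2.map _,
    fun x hx => ⟨⟨x, d.Vg_le_A hx⟩, hVK hx, rfl⟩, ⟨⟨u, huA⟩, ?_, rfl⟩, ?_⟩
  swap
  · rintro g hg _ ⟨a, ha, rfl⟩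
    let c : MulAut d.A :=
      { toFun := fun x => ⟨g * x * g⁻¹, (hg x).1 x.2⟩
        invFun := fun x => ⟨g⁻¹ * x * g, (hg _).2 (by rw [show g * (g⁻¹ * x * g) * g⁻¹ = x by group]; exact x.2)⟩
        left_inv := fun x => Subtype.ext (by show g⁻¹ * (g * x * g⁻¹) * g = x; group)
        right_inv := fun x => Subtype.ext (by show g * (g⁻¹ * x * g) * g⁻¹ = x; group)
        map_mul' := fun x y => Subtype.ext (by show g * ((x : G) * y) * g⁻¹ = g * x * g⁻¹ * (g * y * g⁻¹); group) }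
    haveI : (K.map c.toMonoidHom).Normal := hKn.map _ c.surjective
    exact ⟨c a, Solv.normal_le_pCore (hK2.map c.toMonoidHom) ⟨a, ha, rfl⟩, rfl⟩
  -- the quotient by the four group
  set π := QuotientGroup.mk' Vs with hπ
  let Z : d.A := ⟨d.z, d.z_A⟩
  let U : d.A := ⟨u, huA⟩
  let Y : d.A := ⟨d.v', d.v'_A⟩
  have hZ3 : Z * Z * Z = 1 := Subtype.ext d.z_cube
  have hpush : ∀ M : Subgroup (d.A ⧸ Vs), M.Normal → IsPGroup 2 M → π U ∈ M → U ∈ K := by
    intro M hM hM2 hUM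
    haveI := hM
    refine Solv.normal_le_pCore (hM2.comap_of_ker_isPGroup π ?_) (mem_comap.2 hUM)
    rwa [hπ, QuotientGroup.ker_mk']
  have hzV : ∀ x : G, x ∈ d.Vg → x * x * x = 1 → x = 1 := fun x hx h => by
    rwa [d.Vg_sq hx, one_mul] at h
  have hz1 : d.z ∉ d.Vg := fun h => by
    have h1 := hzV _ h d.z_cube
    exact absurd (congrArg Prod.fst (d.inj (h1.trans (map_one d.φ).symm))) (by decide)
  set X := zpowers (π Z) with hX
  have hXc : Nat.card X = 3 := by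
    rw [hX, Nat.card_zpowers]
    refine orderOf_eq_prime ?_ fun e => hz1 ?_
    · rw [← map_pow, pow_three, ← mul_assoc, hZ3, map_one]
    · exact (QuotientGroup.eq_one_iff Z).1 e
  have hXC : centralizer (X : Set (d.A ⧸ Vs)) = X := by
    refine le_antisymm (fun q hq => ?_) fun q hq => ?_
    · obtain ⟨g, rfl⟩ := QuotientGroup.mk'_surjective Vs q
      have h : π Z * π g = π g * π Z := mem_centralizer_iff.1 hq _ (mem_zpowers _)
      rw [← map_mul, ← map_mul] at h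
      obtain ⟨x, hx, hgx⟩ : ∃ x ∈ d.Vg, (g : G) * d.z * (g : G)⁻¹ = d.z * x := by
        have hm : Z⁻¹ * (g * Z * g⁻¹) ∈ Vs := by
          rw [← QuotientGroup.eq_one_iff]
          show π (Z⁻¹ * (g * Z * g⁻¹)) = 1
          rw [map_mul π, map_mul π (g * Z) g⁻¹, ← h, map_inv, map_mul, map_inv]
          group
        refine ⟨_, hm, ?_⟩
        show (g : G) * d.z * (g : G)⁻¹ = d.z * (d.z⁻¹ * (g * d.z * (g : G)⁻¹))
        rw [mul_inv_cancel_left]
      have hx1 : x = 1 := by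
        refine hzV x hx ?_
        have h3 : (d.z * x) ^ 3 = 1 := by rw [← hgx, conj_pow, d.z3, mul_one, mul_inv_cancel]
        rw [(show Commute d.z x from d.Vg_central d.z_A hx).mul_pow, d.z3, one_mul, pow_three, ← mul_assoc] at h3
        exact h3
      rw [hx1, mul_one] at hgx
      obtain ⟨i, ρ, hρ, he⟩ := d.A_cent_z g.2 (mul_inv_eq_iff_eq_mul.1 hgx)
      have he' : g = Z ^ i.val * ⟨d.φ (1, ρ), d.Vg_le_A (d.mem_Vg.2 ⟨ρ, hρ, rfl⟩)⟩ := Subtype.ext (by simpa [Z] using he)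
      rw [show QuotientGroup.mk' Vs g = π g from rfl, he', map_mul, map_pow,
        show π ⟨d.φ (1, ρ), _⟩ = 1 from (QuotientGroup.eq_one_iff _).2 (d.mem_Vg.2 ⟨ρ, hρ, rfl⟩), mul_one]
      exact pow_mem (mem_zpowers _) _
    · obtain ⟨k, rfl⟩ := mem_zpowers_iff.1 hq
      refine mem_centralizer_iff.2 fun w hw => ?_
      obtain ⟨l, rfl⟩ := mem_zpowers_iff.1 hw
      exact (Commute.zpow_zpow (Commute.refl _) _ _).eq
  have hUU : U * U = 1 := Subtype.ext uu
  have hU3 : U * (Z * U * (Z * Z)) * (Z * Z * U * Z) = 1 := Subtype.ext hu3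
  rcases S3331.result X hXc hXC with ⟨N, hN, hnil, hco, hq⟩ | ⟨N, hN, -, hN2, ⟨e⟩⟩ | ⟨⟨e⟩⟩
  · haveI := hN
    haveI := hnil
    set ρ := (QuotientGroup.mk' N).comp π with hρ
    have hUN : π U ∈ N := by
      rw [← QuotientGroup.eq_one_iff]
      show ρ U = 1
      have a2 : ρ U * ρ U = 1 := by rw [← map_mul, hUU, map_one]
      rcases hq with h | ⟨⟨e⟩⟩
      · have h3 : ρ U ^ 3 = 1 := h ▸ pow_card_eq_one'
        rwa [pow_succ, pow_two, a2, one_mul] at h3
      · apply e.injective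
        rw [map_one]
        have hc1 : e (ρ Z) ≠ 1 := fun h => by
          have hZN : π Z ∈ N := (QuotientGroup.eq_one_iff _).1 (e.injective (h.trans (map_one e).symm))
          have h3 := orderOf_dvd_natCard (⟨π Z, hZN⟩ : N)
          rw [Subgroup.orderOf_mk, ← Nat.card_zpowers, ← hX, hXc] at h3
          exact absurd (Nat.eq_one_of_dvd_coprimes hco h3 (dvd_refl 3)) (by norm_num)
        have hc3 : e (ρ Z) ^ 3 = 1 := by rw [← map_pow, ← map_pow, pow_three, ← mul_assoc, hZ3, map_one, map_one]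
        have hci : e (ρ Z) * e (ρ Z) = (e (ρ Z))⁻¹ := eq_inv_of_mul_eq_one_left (by rw [← pow_two, ← pow_succ, hc3])
        refine tri_three (e (ρ U)) (e (ρ Z)) hc3 hc1 (by rw [← map_mul, a2, map_one]) ?_
        have hAA : Z * U * (Z * Z) * (Z * U * (Z * Z)) = 1 := by
          rw [show Z * U * (Z * Z) * (Z * U * (Z * Z)) = Z * U * (Z * Z * Z) * U * (Z * Z) by group, hZ3, mul_one,
            mul_assoc Z U U, hUU, mul_one, ← mul_assoc, hZ3]
        have hBB : Z * Z * U * Z * (Z * Z * U * Z) = 1 := by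
          rw [show Z * Z * U * Z * (Z * Z * U * Z) = Z * Z * U * (Z * Z * Z) * U * Z by group, hZ3, mul_one,
            mul_assoc _ U U, hUU, mul_one, hZ3]
        have hcomm : U * (Z * U * (Z * Z)) = Z * U * (Z * Z) * U := by
          generalize Z * U * (Z * Z) = A' at hU3 hAA ⊢
          generalize Z * Z * U * Z = B' at hU3 hBB
          have h1 : U * A' = B' := by
            calc U * A' = U * A' * B' * B' := by rw [mul_assoc _ B' B', hBB, mul_one]
              _ = B' := by rw [hU3, one_mul]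
          calc U * A' = B'⁻¹ := by rw [h1, inv_eq_of_mul_eq_one_right hBB]
            _ = A' * U := by
              rw [← h1, mul_inv_rev, inv_eq_of_mul_eq_one_right hUU, inv_eq_of_mul_eq_one_right hAA]
        have := congrArg (fun q => e (ρ q)) hcomm
        simp only [map_mul] at this
        rwa [hci] at this
    obtain ⟨S⟩ : Nonempty (Sylow 2 N) := inferInstance
    haveI : (S : Subgroup N).Characteristic := S.characteristic_of_normal inferInstance
    refine hpush ((S : Subgroup N).map N.subtype) inferInstance (S.isPGroup'.map _) ⟨⟨π U, hUN⟩, ?_, rfl⟩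
    have h2 : IsPGroup 2 (zpowers (⟨π U, hUN⟩ : N)) := by
      refine IsPGroup.to_le (K := zpowers (⟨π U, hUN⟩ : N)) ?_ le_rfl
      intro x
      refine ⟨1, Subtype.ext ?_⟩
      obtain ⟨k, hk⟩ := mem_zpowers_iff.1 x.2
      rw [pow_one, SubmonoidClass.coe_pow, ← hk, ← zpow_natCast, ← zpow_mul, mul_comm, zpow_mul, zpow_natCast,
        show (⟨π U, hUN⟩ : N) ^ 2 = 1 from Subtype.ext (by
          rw [SubmonoidClass.coe_pow, pow_two, ← map_mul, hUU, map_one]; rfl), one_zpow]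
      rfl
    obtain ⟨S', hS'⟩ := h2.exists_le_sylow
    letI := Sylow.unique_of_normal S inferInstance
    rw [Subsingleton.elim S S']
    exact hS' (mem_zpowers _)
  · haveI := hN
    have hN2' : IsPGroup 2 N := fun x => ⟨1, Subtype.ext (by rw [SubgroupClass.coe_pow, pow_one]; exact hN2 x x.2)⟩
    refine hpush N hN hN2' ?_
    rw [← QuotientGroup.eq_one_iff]
    by_contra hne
    let ρ : d.A →* Perm (Fin 5) :=
      (alternatingGroup (Fin 5)).subtype.comp (e.toMonoidHom.comp ((QuotientGroup.mk' N).comp π))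
    have hρ1 : ρ U ≠ 1 := fun h => hne (e.injective (Subtype.ext (h.trans (by rw [map_one]; rfl))))
    have hρs : ∀ g, Perm.sign (ρ g) = 1 := fun g =>
      (Perm.mem_alternatingGroup (α := Fin 5)).1 (e (QuotientGroup.mk' N (π g))).2
    have hc1 : ρ Z ≠ 1 := by
      intro h
      have hm : π Z ∈ N := (QuotientGroup.eq_one_iff _).1 (e.injective (Subtype.ext (h.trans (by rw [map_one]; rfl))))
      have h2 := hN2 _ hm
      have : π Z = 1 := by
        calc π Z = π (Z * Z * Z) * (π Z ^ 2)⁻¹ := by rw [map_mul, map_mul]; group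
          _ = 1 := by rw [hZ3, map_one, h2, inv_one, one_mul]
      exact hz1 ((QuotientGroup.eq_one_iff Z).1 this)
    obtain ⟨g, hgs, hg⟩ := alt_three_conj (ρ Z) (by rw [← map_mul, ← map_mul, hZ3, map_one]) hc1
    let κ : d.A →* Perm (Fin 5) := (MulAut.conj g).toMonoidHom.comp ρ
    have hκs : ∀ q, Perm.sign (κ q) = 1 := fun q => by
      show Perm.sign (g * ρ q * g⁻¹) = 1
      simp [hρs, hgs]
    have hκZ : κ Z = c5 := hg
    refine alt_no_inverter_fix (κ U) (by rw [← map_mul, hUU, map_one]) ?_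
      (fun h => hρ1 ((MulAut.conj g).injective (h.trans (map_one (MulAut.conj g)).symm))) (hκs U)
      (κ Y) ?_ ?_ (hκs Y) ?_
    · rw [← hκZ]; simp only [← map_mul]; rw [hU3, map_one]
    · rw [← map_mul, show Y * Y = 1 from Subtype.ext d.v'v', map_one]
    · rw [← hκZ, ← map_mul, ← map_mul, ← map_mul]; exact congrArg κ (Subtype.ext d.v'zv')
    · rw [← hκZ]
      simp only [← map_mul]
      exact hv'.imp (fun h => congrArg κ (Subtype.ext h))
        (fun h => h.imp (fun h => congrArg κ (Subtype.ext h)) (fun h => congrArg κ (Subtype.ext h)))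
  · exfalso
    have h168 : Nat.card (d.A ⧸ Vs) = 168 :=
      (Nat.card_congr e.toEquiv).trans PSpFourThreeAmalgam.card_psl_seven
    have hV4 : Nat.card Vs = 4 := by
      rw [hVs, Nat.card_congr (subgroupOfEquivOfLe d.Vg_le_A).toEquiv, Vg,
        card_map_of_injective (show Function.Injective (d.φ.comp (MonoidHom.inr (Perm (Fin 3)) (Perm (Fin 5)))) from fun a b h => congrArg Prod.snd (d.inj h))]
      have hF : ∀ π : Perm (Fin 5), π ∈ F4 ↔ π ∈ ({1, β0, f0, β0 * f0} : Finset (Perm (Fin 5))) := fun π => by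
        rw [mem_F4]; simp
      rw [Nat.card_congr (Equiv.subtypeEquivRight hF), Nat.card_eq_fintype_card, Fintype.card_coe]
      decide +kernel
    refine d.A_card_ne ?_
    rw [card_eq_card_quotient_mul_card_subgroup Vs, h168, hV4]

end Data

end Cfsg.Agent.Lie.SymEightLocal
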