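import Cfsg.Agent.Lib.Lie.SymEightLocal.CaseBPair

/-!
Involution classes of the overgroup, the odd index and the normal subgroup of index four.
-/

set_option autoImplicit false
set_option linter.unusedSectionVars false
set_option maxRecDepth 100000

namespace Cfsg.Agent.Lie.SymEightLocal

open Subgroup Equiv

set_option maxHeartbeats 1600000

theorem alt_f0 : ∃ a : Perm (Fin 5), Perm.sign a = 1 ∧ a * a * a = 1 ∧ a * f0 * (a * f0) * (a * f0) = 1 := by
  decide +kernel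

theorem f0_s : f0 * swap 3 4 * f0⁻¹ = swap 0 1 := by decide +kernel

theorem five_twist : swap 3 4 * (swap 3 4 * (c5 * f0) * swap 3 4) * swap 3 4 = c5 * f0 := by decide +kernel

/-- transfer kills an involution all of whose conjugates in the subgroup have sign `1` -/
theorem transfer_pos {G : Type*} [Group G] [Finite G] {X : Subgroup G} (χ : X →* ℤˣ) {x : G} (hx : x ∈ X)
    (hxx : x * x = 1) (hall : ∀ (a : G) (h : a⁻¹ * x * a ∈ X), χ ⟨_, h⟩ = 1) :
    MonoidHom.transfer χ x = 1 := by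
  have hv : χ ⟨x, hx⟩ = 1 := by
    have h := hall 1 (by simpa using hx)
    simpa using h
  rw [Fusion.transfer_eq_map_pow χ x hx, hv, one_pow]
  intro m a h
  rw [hv, one_pow]
  rcases Nat.even_or_odd' m with ⟨k, rfl | rfl⟩
  · exact (congrArg χ (Subtype.ext (by simp [pow_mul, pow_two, hxx]))).trans (map_one χ)
  · have e : x ^ (2 * k + 1) = x := by rw [pow_succ, pow_mul, pow_two, hxx, one_pow, one_mul]
    have h' : a⁻¹ * x * a ∈ X := by rwa [e] at h
    exact (congrArg χ (Subtype.ext (congrArg (fun q => a⁻¹ * q * a) e))).trans (hall a h')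

section ExtHom

variable {G : Type*} [Group G] {K : Subgroup G} {b : G} {hb : b * b = 1} {hK : ∀ x ∈ K, b * x * b ∈ K}

/-- extension of a sign map to the extended subgroup -/
noncomputable def extHom (hbK : b ∉ K) (e : K →* ℤˣ) (ε : ℤˣ)
    (he : ∀ x : K, e ⟨b * x * b, hK x x.2⟩ = e x) : extInv K b hb hK →* ℤˣ :=
  MonoidHom.mk' (fun x : ↥(extInv K b hb hK) => @dite ℤˣ ((x : G) ∈ K) (Classical.propDecidable _)
    (fun h => e ⟨x, h⟩) (fun h => ε * e ⟨b * x, (mem_extInv.1 x.2).resolve_left h⟩)) (by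
    have hout : ∀ y : G, y ∈ K → b * y ∉ K := fun y hy h => hbK (by
      have := mul_mem h (inv_mem hy); rwa [mul_inv_cancel_right] at this)
    have hin : ∀ y : G, b * y ∈ K → y ∉ K := fun y hy h => hout y h hy
    rintro ⟨x, hx⟩ ⟨y, hy⟩
    dsimp only
    by_cases h1 : x ∈ K <;> by_cases h2 : y ∈ K
    · rw [dif_pos h1, dif_pos h2, dif_pos (show ((⟨x, hx⟩ * ⟨y, hy⟩ : extInv K b hb hK) : G) ∈ K from mul_mem h1 h2),
        ← map_mul]
      rfl
    · have h2' := hy.resolve_left h2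
      have h3 : b * (x * y) ∈ K := by
        have := mul_mem (hK x h1) h2'
        rwa [show b * x * b * (b * y) = b * x * (b * b) * y by group, hb, mul_one,
          mul_assoc] at this
      rw [dif_pos h1, dif_neg h2, dif_neg (show ((⟨x, hx⟩ * ⟨y, hy⟩ : extInv K b hb hK) : G) ∉ K from hin _ h3), mul_left_comm, ← he ⟨x, h1⟩, ← map_mul]
      congr 2
      refine Subtype.ext ?_
      show b * (x * y) = b * x * b * (b * y)
      rw [show b * x * b * (b * y) = b * x * (b * b) * y by group, hb, mul_one, mul_assoc]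
    · have h1' := hx.resolve_left h1
      have h3 : b * (x * y) ∈ K := by rw [← mul_assoc]; exact mul_mem h1' h2
      rw [dif_neg h1, dif_pos h2, dif_neg (show ((⟨x, hx⟩ * ⟨y, hy⟩ : extInv K b hb hK) : G) ∉ K from hin _ h3), mul_assoc, ← map_mul]
      congr 2
      exact Subtype.ext (mul_assoc b x y).symm
    · have h1' := hx.resolve_left h1
      have h2' := hy.resolve_left h2
      have e0 : x * y = b * (b * x) * b * (b * y) := by
        rw [show b * (b * x) * b * (b * y) = (b * b) * x * (b * b) * y by group, hb]; group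
      have h3 : x * y ∈ K := e0 ▸ mul_mem (hK _ h1') h2'
      rw [dif_neg h1, dif_neg h2, dif_pos (show ((⟨x, hx⟩ * ⟨y, hy⟩ : extInv K b hb hK) : G) ∈ K from h3), mul_mul_mul_comm, Int.units_mul_self, one_mul,
        ← he ⟨b * x, h1'⟩, ← map_mul]
      congr 1
      exact Subtype.ext e0)

theorem extHom_mem (hbK : b ∉ K) (e : K →* ℤˣ) (ε : ℤˣ) (he : ∀ x : K, e ⟨b * x * b, hK x x.2⟩ = e x)
    {x : extInv K b hb hK} (h : (x : G) ∈ K) : extHom hbK e ε he x = e ⟨x, h⟩ := by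
  simp only [extHom, MonoidHom.mk'_apply, dif_pos h]

theorem extHom_not_mem (hbK : b ∉ K) (e : K →* ℤˣ) (ε : ℤˣ) (he : ∀ x : K, e ⟨b * x * b, hK x x.2⟩ = e x)
    {x : extInv K b hb hK} (h : (x : G) ∉ K) :
    extHom hbK e ε he x = ε * e ⟨b * x, (mem_extInv.1 x.2).resolve_left h⟩ := by
  simp only [extHom, MonoidHom.mk'_apply, dif_neg h]

end ExtHom

/-- pairs of equal sign in two given subgroups -/
def parSub (X Y : Subgroup (Perm (Fin 5))) : Subgroup (Perm (Fin 5) × Perm (Fin 5)) := X.prod Y ⊓ PAR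

theorem card_parSub (X Y : Subgroup (Perm (Fin 5))) (h34 : swap 3 4 ∈ X) :
    Nat.card (parSub X Y) * 2 = Nat.card X * Nat.card Y := by
  classical
  let ξ : X.prod Y →* ℤˣ :=
    ((Perm.sign.comp (MonoidHom.fst _ _)) * (Perm.sign.comp (MonoidHom.snd _ _))).comp (X.prod Y).subtype
  have hs : Function.Surjective ξ := fun u => by
    rcases Int.units_eq_one_or u with rfl | rfl
    · exact ⟨1, map_one ξ⟩
    · refine ⟨⟨(swap 3 4, 1), h34, one_mem Y⟩, ?_⟩
      show Perm.sign (swap (3 : Fin 5) 4) * Perm.sign (1 : Perm (Fin 5)) = -1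
      rw [Perm.sign_swap (by decide), map_one, mul_one]
  have hk := ξ.ker.card_mul_index
  rw [index_ker, MonoidHom.range_eq_top.2 hs, card_top, Nat.card_eq_fintype_card (α := ℤˣ),
    Fintype.card_units_int, Nat.card_congr (Subgroup.prodEquiv X Y).toEquiv, Nat.card_prod] at hk
  rw [← hk]
  congr 1
  rw [parSub, ← Nat.card_congr (subgroupOfEquivOfLe (inf_le_left : X.prod Y ⊓ PAR ≤ X.prod Y)).toEquiv]
  refine Nat.card_congr (Equiv.subtypeEquivRight fun p => ?_)
  rw [Subgroup.mem_subgroupOf, MonoidHom.mem_ker, Subgroup.mem_inf, and_iff_right p.2, mem_PAR]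
  show _ ↔ Perm.sign p.1.1 * Perm.sign p.1.2 = 1
  rcases Int.units_eq_one_or (Perm.sign p.1.1) with a | a <;>
    rcases Int.units_eq_one_or (Perm.sign p.1.2) with c | c <;> rw [a, c] <;> decide

/-- the centraliser of the double transposition -/
abbrev X8 : Subgroup (Perm (Fin 5)) := centralizer ({β0} : Set (Perm (Fin 5)))

theorem card_X8 : Nat.card X8 = 8 := by
  have h : β0.cycleType = {2, 2} := by decide +kernel
  rw [Perm.nat_card_centralizer, h, Fintype.card_fin]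
  decide +kernel

theorem swap_X8 : swap 3 4 ∈ X8 := mem_centralizer_singleton_iff.2 (by decide +kernel)

/-- make a pair -/
abbrev pr (π π' : Perm (Fin 5)) (h : Perm.sign π = Perm.sign π') : PAR := ⟨(π, π'), mem_PAR.2 h⟩

theorem pr_mul {π π' ρ ρ' : Perm (Fin 5)} (h : Perm.sign π = Perm.sign π') (h' : Perm.sign ρ = Perm.sign ρ') :
    pr π π' h * pr ρ ρ' h' = pr (π * ρ) (π' * ρ') (by rw [map_mul, map_mul, h, h']) := rfl

theorem pr_inv {π π' : Perm (Fin 5)} (h : Perm.sign π = Perm.sign π') :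
    (pr π π' h)⁻¹ = pr π⁻¹ π'⁻¹ (by rw [map_inv, map_inv, h]) := rfl

namespace Data

variable {G : Type*} [Group G] (d : Data G) [Finite G] (hB : d.β = β0)

theorem mem_KH {x : G} : x ∈ d.KH hB ↔ ∃ (π π' : Perm (Fin 5)) (h : Perm.sign π = Perm.sign π'),
    d.Φ hB (pr π π' h) = x := by
  constructor
  · rintro ⟨⟨⟨π, π'⟩, h⟩, rfl⟩; exact ⟨π, π', h, rfl⟩
  · rintro ⟨π, π', h, rfl⟩; exact ⟨_, rfl⟩

theorem Φ_mem_H (p : PAR) : d.Φ hB p ∈ d.H hB := le_extInv ⟨p, rfl⟩

theorem b_mem_H : d.b ∈ d.H hB := self_mem_extInv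

theorem bΦ {π π' : Perm (Fin 5)} (h : Perm.sign π = Perm.sign π') :
    d.b * d.Φ hB (pr π π' h) * d.b = d.Φ hB (pr π' π h.symm) := d.bΦb hB π π' h

theorem t_eq : d.t = d.Φ hB (pr (swap 3 4) (swap 3 4) rfl) := by
  have hs : sg (swap 3 4 : Perm (Fin 5)) = swap 3 4 := by
    rcases sg_cases (swap 3 4 : Perm (Fin 5)) with ⟨h, -⟩ | ⟨-, h⟩
    · rw [Perm.sign_swap (by decide)] at h; exact absurd h (by decide)
    · exact h
  rw [pr, Φ_apply, hs, swap_mul_self, map_one, one_mul]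

theorem v_eq : d.v = d.Φ hB (pr β0 1 (by decide +kernel)) := (d.Φ_left hB β0 _).symm

theorem v'_eq : d.v' = d.Φ hB (pr 1 β0 (by decide +kernel)) := by
  rw [pr, d.Φ_right hB, d.ψ_β0 hB]

theorem vv'_eq : d.v * d.v' = d.Φ hB (pr β0 β0 rfl) := by
  rw [d.v_eq hB, d.v'_eq hB, ← map_mul, pr_mul]
  congr 1

theorem commute_b_diag (π : Perm (Fin 5)) : Commute d.b (d.Φ hB (pr π π rfl)) := by
  show d.b * _ = _
  calc d.b * d.Φ hB (pr π π rfl) = d.b * d.Φ hB (pr π π rfl) * d.b * d.b := by rw [mul_assoc _ d.b d.b, d.hb, mul_one]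
    _ = _ := by rw [d.bΦ hB]

theorem commute_Φ {π π' ρ ρ' : Perm (Fin 5)} {h : Perm.sign π = Perm.sign π'} {h' : Perm.sign ρ = Perm.sign ρ'} :
    Commute (d.Φ hB (pr π π' h)) (d.Φ hB (pr ρ ρ' h')) ↔ π * ρ = ρ * π ∧ π' * ρ' = ρ' * π' := by
  constructor
  · intro hc
    have e := d.Φ_inj hB ((map_mul _ _ _).trans (hc.eq.trans (map_mul _ _ _).symm))
    exact ⟨congrArg (fun p : PAR => p.1.1) e, congrArg (fun p : PAR => p.1.2) e⟩
  · rintro ⟨e1, e2⟩
    exact (show Commute (pr π π' h) (pr ρ ρ' h') from Subtype.ext (Prod.ext e1 e2)).map (d.Φ hB)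

/-- involutions of the overgroup -/
theorem invol_cases {x : G} (hx : x ∈ d.H hB) (hxx : x * x = 1) (hx1 : x ≠ 1) :
    (∃ (π π' : Perm (Fin 5)) (h : Perm.sign π = Perm.sign π'),
        π * π = 1 ∧ π' * π' = 1 ∧ Perm.sign π = -1 ∧ d.Φ hB (pr π π' h) = x) ∨
    (x ∈ d.KH hB ∧ ∃ k ∈ d.H hB, k * x * k⁻¹ = d.v ∨ k * x * k⁻¹ = d.v' ∨ k * x * k⁻¹ = d.v * d.v') ∨
    (x ∉ d.KH hB ∧ ∃ k ∈ d.H hB, k * x * k⁻¹ = d.b ∨ k * x * k⁻¹ = d.t * d.b) := by
  by_cases hK : x ∈ d.KH hB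
  · obtain ⟨π, π', h, rfl⟩ := (d.mem_KH hB).1 hK
    rw [← map_mul, pr_mul, ← map_one (d.Φ hB)] at hxx
    have e := d.Φ_inj hB hxx
    have e1 : π * π = 1 := congrArg (fun p : PAR => p.1.1) e
    have e2 : π' * π' = 1 := congrArg (fun p : PAR => p.1.2) e
    rcases Int.units_eq_one_or (Perm.sign π) with hs | hs
    swap
    · exact Or.inl ⟨π, π', h, e1, e2, hs, rfl⟩
    refine Or.inr (Or.inl ⟨hK, ?_⟩)
    have hs' : Perm.sign π' = 1 := h ▸ hs
    have conj : ∀ g g' : Perm (Fin 5), ∀ (h1 : Perm.sign g = Perm.sign g') (c c' : Perm (Fin 5))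
        (hc : Perm.sign c = Perm.sign c'), g⁻¹ * π * g = c → g'⁻¹ * π' * g' = c' →
        (d.Φ hB (pr g g' h1))⁻¹ * d.Φ hB (pr π π' h) * (d.Φ hB (pr g g' h1))⁻¹⁻¹ = d.Φ hB (pr c c' hc) := by
      intro g g' h1 c c' hc hg hg'
      rw [inv_inv, ← map_inv, ← map_mul, ← map_mul]
      exact congrArg _ (Subtype.ext (Prod.ext hg hg'))
    by_cases p1 : π = 1
    · have p2 : π' ≠ 1 := fun p2 => hx1 (by
        subst p1; subst p2
        exact map_one (d.Φ hB))
      obtain ⟨g', hg', e'⟩ := even_invol π' e2 hs' p2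
      refine ⟨_, inv_mem (d.Φ_mem_H hB (pr 1 g' (by rw [hg', map_one]))), Or.inr (Or.inl ?_)⟩
      rw [d.v'_eq hB]
      exact conj 1 g' _ _ _ _ (by rw [p1]; group) (by rw [← e']; group)
    · obtain ⟨g, hg, e'⟩ := even_invol π e1 hs p1
      by_cases p2 : π' = 1
      · refine ⟨_, inv_mem (d.Φ_mem_H hB (pr g 1 (by rw [hg, map_one]))), Or.inl ?_⟩
        rw [d.v_eq hB]
        exact conj g 1 _ _ _ _ (by rw [← e']; group) (by rw [p2]; group)
      · obtain ⟨g', hg', e''⟩ := even_invol π' e2 hs' p2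
        refine ⟨_, inv_mem (d.Φ_mem_H hB (pr g g' (hg.trans hg'.symm))), Or.inr (Or.inr ?_)⟩
        rw [d.vv'_eq hB]
        exact conj g g' _ _ _ _ (by rw [← e']; group) (by rw [← e'']; group)
  · refine Or.inr (Or.inr ⟨hK, ?_⟩)
    obtain ⟨π, π', h, hp⟩ := (d.mem_KH hB).1 (hx.resolve_left hK)
    have hxeq : x = d.Φ hB (pr π' π h.symm) * d.b := by
      rw [← d.bΦ hB h, mul_assoc _ d.b d.b, d.hb, mul_one, hp, ← mul_assoc, d.hb, one_mul]
    have hsq : π * π' = 1 := by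
      have h' : d.Φ hB (pr π π' h) * d.Φ hB (pr π' π h.symm) = d.Φ hB 1 := by
        rw [← d.bΦ hB h, hp, map_one]
        calc d.b * x * (d.b * (d.b * x) * d.b) = d.b * x * ((d.b * d.b) * x) * d.b := by group
          _ = d.b * (x * x) * d.b := by rw [d.hb]; group
          _ = 1 := by rw [hxx, mul_one, d.hb]
      rw [← map_mul, pr_mul] at h'
      exact congrArg (fun p : PAR => p.1.1) (d.Φ_inj hB h')
    have hcon : ∀ g g' : Perm (Fin 5), ∀ (h1 : Perm.sign g = Perm.sign g') (c c' : Perm (Fin 5))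
        (hc : Perm.sign c = Perm.sign c'), g * π' * g'⁻¹ = c → g' * π * g⁻¹ = c' →
        d.Φ hB (pr g g' h1) * x * (d.Φ hB (pr g g' h1))⁻¹ = d.Φ hB (pr c c' hc) * d.b := by
      intro g g' h1 c c' hc hg hg'
      have hb' : d.b * (d.Φ hB (pr g g' h1))⁻¹ = d.Φ hB (pr g'⁻¹ g⁻¹ (by rw [map_inv, map_inv, h1])) * d.b := by
        rw [← map_inv, pr_inv, ← d.bΦ hB (π := g⁻¹) (π' := g'⁻¹) (by rw [map_inv, map_inv, h1]),
          mul_assoc _ d.b d.b, d.hb, mul_one]
      rw [hxeq, mul_assoc (d.Φ hB (pr g g' h1)), mul_assoc (d.Φ hB (pr π' π h.symm)), hb', ← mul_assoc (d.Φ hB (pr π' π h.symm)), ← mul_assoc,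
        ← map_mul, pr_mul, ← map_mul, pr_mul]
      congr 2
      exact Subtype.ext (Prod.ext (Eq.trans (show g * (π' * g'⁻¹) = g * π' * g'⁻¹ by group) hg)
        (Eq.trans (show g' * (π * g⁻¹) = g' * π * g⁻¹ by group) hg'))
    rcases Int.units_eq_one_or (Perm.sign π') with hs | hs
    · refine ⟨_, d.Φ_mem_H hB (pr 1 π' (by rw [hs, map_one])), Or.inl ?_⟩
      rw [hcon 1 π' _ 1 1 rfl (by group) (by rw [eq_inv_of_mul_eq_one_left hsq]; group)]
      show d.Φ hB 1 * d.b = d.b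
      rw [map_one, one_mul]
    · refine ⟨_, d.Φ_mem_H hB (pr 1 (swap 3 4 * π') (by
        rw [map_mul, hs, Perm.sign_swap (by decide), map_one, Int.units_mul_self])), Or.inr ?_⟩
      rw [d.t_eq hB]
      refine hcon 1 _ _ _ _ rfl ?_ ?_
      · rw [mul_inv_rev, swap_inv]; group
      · rw [eq_inv_of_mul_eq_one_left hsq]; group

theorem ne_one_conj {x g : G} (hx : x ≠ 1) : g * x * g⁻¹ ≠ 1 := fun e => hx (conj_eq_one_iff.1 e)

theorem five_dvd {x : G} (p : PAR) (hp : (p : Perm (Fin 5) × Perm (Fin 5)).1 = c5 * f0) (h5 : p ^ 5 = 1)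
    (hc : Commute (d.Φ hB p) x) : 5 ∣ Nat.card (centralizer ({x} : Set G)) := by
  have ho : orderOf (d.Φ hB p) = 5 := by
    refine orderOf_eq_prime (hp := ⟨Nat.prime_five⟩) (by rw [← map_pow, h5, map_one]) fun e => ?_
    rw [← map_one (d.Φ hB)] at e
    exact five_cycle.2.1 (hp ▸ congrArg (fun q : PAR => q.1.1) (d.Φ_inj hB e))
  have hm : d.Φ hB p ∈ centralizer ({x} : Set G) := mem_centralizer_singleton_iff.2 hc.eq
  have := orderOf_dvd_natCard (⟨_, hm⟩ : centralizer ({x} : Set G))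
  rwa [Subgroup.orderOf_mk, ho] at this

include hB in
theorem five_v : 5 ∣ Nat.card (centralizer ({d.v} : Set G)) := by
  have h1 : Perm.sign (1 : Perm (Fin 5)) = Perm.sign (c5 * f0) := by rw [map_one, five_cycle.2.2]
  have ho : orderOf (d.Φ hB (pr 1 (c5 * f0) h1)) = 5 := by
    refine orderOf_eq_prime (hp := ⟨Nat.prime_five⟩) ?_ fun e => ?_
    · rw [← map_pow, show (pr 1 (c5 * f0) h1) ^ 5 = 1 from Subtype.ext (Prod.ext (one_pow _) five_cycle.1), map_one]
    · rw [← map_one (d.Φ hB)] at e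
      exact five_cycle.2.1 (congrArg (fun q : PAR => q.1.2) (d.Φ_inj hB e))
  have hm : d.Φ hB (pr 1 (c5 * f0) h1) ∈ centralizer ({d.v} : Set G) := mem_centralizer_singleton_iff.2 (by
    rw [d.v_eq hB]; exact ((d.commute_Φ hB).2 ⟨by group, by group⟩).eq)
  have := orderOf_dvd_natCard (⟨_, hm⟩ : centralizer ({d.v} : Set G))
  rwa [Subgroup.orderOf_mk, ho] at this

include hB in
theorem five_b : 5 ∣ Nat.card (centralizer ({d.b} : Set G)) :=
  d.five_dvd hB (pr (c5 * f0) (c5 * f0) rfl) rfl (Subtype.ext (Prod.ext five_cycle.1 five_cycle.1))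
    (d.commute_b_diag hB _).symm

include hB in
theorem five_tb : 5 ∣ Nat.card (centralizer ({d.t * d.b} : Set G)) := by
  set π' := swap 3 4 * (c5 * f0) * swap 3 4 with hπ'
  have h : Perm.sign (c5 * f0) = Perm.sign π' := by
    rw [hπ', map_mul Perm.sign (swap 3 4 * (c5 * f0)), map_mul Perm.sign (swap (3 : Fin 5) 4),
      Perm.sign_swap (by decide), five_cycle.2.2, mul_one, Int.units_mul_self]
  have h5 : π' ^ 5 = 1 := by
    rw [hπ', show swap (3 : Fin 5) 4 * (c5 * f0) * swap 3 4 = swap 3 4 * (c5 * f0) * (swap 3 4)⁻¹ by rw [swap_inv],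
      conj_pow, five_cycle.1, mul_one, mul_inv_cancel]
  refine d.five_dvd hB (pr (c5 * f0) π' h) rfl (Subtype.ext (Prod.ext five_cycle.1 h5)) ?_
  show d.Φ hB _ * (d.t * d.b) = d.t * d.b * d.Φ hB _
  calc d.Φ hB (pr (c5 * f0) π' h) * (d.t * d.b) = d.t * d.Φ hB (pr π' (c5 * f0) h.symm) * d.b := by
        rw [← mul_assoc, d.t_eq hB, ← map_mul, ← map_mul]
        congr 2
        refine Subtype.ext (Prod.ext ?_ ?_)
        · show c5 * f0 * swap 3 4 = swap 3 4 * π'
          rw [hπ']; simp [← mul_assoc, swap_mul_self]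
        · show π' * swap 3 4 = swap 3 4 * (c5 * f0)
          rw [hπ', mul_assoc _ (swap 3 4) (swap 3 4), swap_mul_self, mul_one]
    _ = d.t * (d.b * d.Φ hB (pr (c5 * f0) π' h) * d.b) * d.b := by rw [d.bΦ hB]
    _ = d.t * d.b * d.Φ hB (pr (c5 * f0) π' h) * (d.b * d.b) := by group
    _ = _ := by rw [d.hb, mul_one]

include hB in
/-- the subgroup of order sixty-four centralising `v * v'` -/
theorem sixtyfour_vv' : 64 ∣ Nat.card (centralizer ({d.v * d.v'} : Set G)) := by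
  set S := ((parSub X8 X8).subgroupOf PAR).map (d.Φ hB) with hS
  have memS : ∀ {x}, x ∈ S ↔ ∃ (π π' : Perm (Fin 5)) (h : Perm.sign π = Perm.sign π'),
      π ∈ X8 ∧ π' ∈ X8 ∧ d.Φ hB (pr π π' h) = x := by
    intro x
    constructor
    · rintro ⟨⟨⟨π, π'⟩, h⟩, hp, rfl⟩
      exact ⟨π, π', h, hp.1.1, hp.1.2, rfl⟩
    · rintro ⟨π, π', h, h1, h2, rfl⟩
      exact ⟨pr π π' h, mem_subgroupOf.2 (mem_inf.2 ⟨mem_prod.2 ⟨h1, h2⟩, mem_PAR.2 h⟩), rfl⟩
  have hbS : ∀ x ∈ S, d.b * x * d.b ∈ S := fun x hx => by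
    obtain ⟨π, π', h, h1, h2, rfl⟩ := memS.1 hx
    exact memS.2 ⟨π', π, h.symm, h2, h1, (d.bΦ hB h).symm⟩
  have hcard : Nat.card S = 32 := by
    have h := card_parSub X8 X8 swap_X8
    rw [card_X8] at h
    rw [hS, card_map_of_injective (d.Φ_inj hB),
      Nat.card_congr (subgroupOfEquivOfLe (show parSub X8 X8 ≤ PAR from inf_le_right)).toEquiv]
    omega
  have hbn : d.b ∉ S := fun h => d.b_not_KH hB (by
    obtain ⟨π, π', hs, -, -, e⟩ := memS.1 h
    exact ⟨_, e⟩)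
  rw [show (64 : ℕ) = Nat.card (extInv S d.b d.hb hbS) by rw [card_extInv hbn, hcard]]
  refine card_dvd_of_le fun x hx => ?_
  have hS' : ∀ y ∈ S, Commute y (d.v * d.v') := fun y hy => by
    obtain ⟨π, π', h, h1, h2, rfl⟩ := memS.1 hy
    rw [d.vv'_eq hB]
    exact (d.commute_Φ hB).2 ⟨mem_centralizer_singleton_iff.1 h1, mem_centralizer_singleton_iff.1 h2⟩
  have hb' : Commute d.b (d.v * d.v') := by rw [d.vv'_eq hB]; exact d.commute_b_diag hB β0
  refine mem_centralizer_singleton_iff.2 ?_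
  rcases hx with h | h
  · exact (hS' x h).eq
  · have := (hb'.mul_left (hS' _ h)).eq
    rwa [← mul_assoc d.b, d.hb, one_mul] at this

include hB in
theorem card_cent_t : Nat.card (centralizer ({d.t} : Set G)) = 144 := d.card_Ct hB

/-- the conjugates of `t` inside the overgroup -/
theorem conj_t {g : G} (hg : g⁻¹ * d.t * g ∈ d.H hB) :
    ∃ (π π' : Perm (Fin 5)) (h : Perm.sign π = Perm.sign π'),
      π * π = 1 ∧ π' * π' = 1 ∧ Perm.sign π = -1 ∧ d.Φ hB (pr π π' h) = g⁻¹ * d.t * g := by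
  set x := g⁻¹ * d.t * g with hx
  have hxx : x * x = 1 := by
    rw [hx, show g⁻¹ * d.t * g * (g⁻¹ * d.t * g) = g⁻¹ * (d.t * d.t) * g by group, d.ttt, mul_one, inv_mul_cancel]
  have hx1 : x ≠ 1 := fun e => d.t_ne (by
    rw [show d.t = g * x * g⁻¹ by rw [hx]; group, e, mul_one, mul_inv_cancel])
  have h144 : ∀ k y : G, k * x * k⁻¹ = y → Nat.card (centralizer ({y} : Set G)) = 144 := by
    intro k y e
    rw [← e, card_cent_conj, hx, show g⁻¹ * d.t * g = g⁻¹ * d.t * g⁻¹⁻¹ by group, card_cent_conj,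
      d.card_cent_t hB]
  rcases d.invol_cases hB hg hxx hx1 with h | ⟨-, k, -, hk | hk | hk⟩ | ⟨-, k, -, hk | hk⟩
  · exact h
  all_goals exfalso
  · have := d.five_v hB; rw [h144 k _ hk] at this; norm_num at this
  · have h5 := d.five_v hB
    rw [← d.bvb hB, show d.b * d.v' * d.b = d.b * d.v' * d.b⁻¹ by rw [d.bi], card_cent_conj, h144 k _ hk] at h5
    norm_num at h5
  · have := d.sixtyfour_vv' hB; rw [h144 k _ hk] at this; norm_num at this
  · have := d.five_b hB; rw [h144 k _ hk] at this; norm_num at this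
  · have := d.five_tb hB; rw [h144 k _ hk] at this; norm_num at this

theorem H_odd : Odd (d.H hB).index := by
  have ht : d.t ∈ d.H hB := d.Ct_le_H hB (d.mem_Ct.2 rfl)
  refine odd_index ht d.ttt (fun g hg => d.Ct_le_H hB (d.mem_Ct.2 hg)) fun g hg => ?_
  obtain ⟨π, π', h, e1, e2, hs, e⟩ := d.conj_t hB hg
  obtain ⟨a, ha, ea⟩ := odd_invol π e1 hs
  obtain ⟨a', ha', ea'⟩ := odd_invol π' e2 (h ▸ hs)
  refine ⟨_, d.Φ_mem_H hB (pr a a' (ha.trans ha'.symm)), ?_⟩
  rw [← e, d.t_eq hB, ← map_inv, ← map_mul, ← map_mul]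
  exact congrArg _ (Subtype.ext (Prod.ext ea ea'))

/-- odd index of the part of the overgroup in a centraliser, and the two-part of the centraliser -/
theorem not_dvd_of {C : Subgroup G} {n : ℕ} (hdvd : Nat.card (d.H hB ⊓ C : Subgroup G) ∣ n) (hn : ¬ 64 ∣ n)
    (hodd : Odd ((d.H hB ⊓ C).relIndex C)) : ¬ 64 ∣ Nat.card C := by
  intro h
  rw [← Subgroup.card_mul_index ((d.H hB ⊓ C).subgroupOf C),
    Nat.card_congr (subgroupOfEquivOfLe (inf_le_right : d.H hB ⊓ C ≤ C)).toEquiv] at h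
  refine hn ((Nat.Coprime.dvd_of_dvd_mul_right ?_ h).trans hdvd)
  exact Nat.Coprime.pow_left 6 (Nat.coprime_two_left.2 hodd)

include hB in
theorem not_sixtyfour_v : ¬ 64 ∣ Nat.card (centralizer ({d.v} : Set G)) := by
  set C := centralizer ({d.v} : Set G) with hC
  have hsub : d.H hB ⊓ C ≤ ((parSub X8 ⊤).subgroupOf PAR).map (d.Φ hB) := by
    intro x hx
    obtain ⟨hxH, hxC⟩ := hx
    have hxv : Commute x d.v := mem_centralizer_singleton_iff.1 hxC
    rcases hxH with hk | hk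
    · obtain ⟨π, π', h, rfl⟩ := (d.mem_KH hB).1 hk
      rw [d.v_eq hB] at hxv
      exact ⟨pr π π' h, mem_subgroupOf.2 (mem_inf.2 ⟨mem_prod.2
        ⟨mem_centralizer_singleton_iff.2 ((d.commute_Φ hB).1 hxv).1, mem_top _⟩, mem_PAR.2 h⟩), rfl⟩
    · exfalso
      obtain ⟨π, π', h, e⟩ := (d.mem_KH hB).1 hk
      have h1 : d.Φ hB (pr π π' h) * d.v = d.v' * d.Φ hB (pr π π' h) := by
        rw [e, mul_assoc, hxv.eq, ← mul_assoc]
        calc d.b * d.v * x = d.b * d.v * (d.b * d.b) * x := by rw [d.hb, mul_one]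
          _ = d.b * d.v * d.b * (d.b * x) := by group
          _ = d.v' * (d.b * x) := by rw [d.ext_b (d.bvb hB)]
      rw [d.v_eq hB, d.v'_eq hB, ← map_mul, ← map_mul] at h1
      have := congrArg (fun p : PAR => p.1.1) (d.Φ_inj hB h1)
      change π * β0 = 1 * π at this
      rw [one_mul, mul_eq_left] at this
      exact absurd this (by decide +kernel)
  have h480 : Nat.card (d.H hB ⊓ C : Subgroup G) ∣ 480 := by
    refine (card_dvd_of_le hsub).trans ?_
    have h := card_parSub X8 ⊤ swap_X8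
    rw [card_X8, card_top, Nat.card_perm, Nat.card_fin] at h
    rw [card_map_of_injective (d.Φ_inj hB),
      Nat.card_congr (subgroupOfEquivOfLe (show parSub X8 ⊤ ≤ PAR from inf_le_right)).toEquiv]
    norm_num [Nat.factorial] at h
    exact dvd_of_eq (by omega)
  refine d.not_dvd_of hB h480 (by norm_num) ?_
  have hcv : d.t * d.v = d.v * d.t := d.vt.symm
  refine odd_relIndex inf_le_right ⟨d.Ct_le_H hB (d.mem_Ct.2 rfl), mem_centralizer_singleton_iff.2 hcv⟩ d.ttt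
    (fun g hg hgt => ⟨d.Ct_le_H hB (d.mem_Ct.2 hgt), hg⟩) fun g hg hgx => ?_
  obtain ⟨π, π', h, e1, e2, hs, e⟩ := d.conj_t hB hgx.1
  have hπ : π * β0 = β0 * π := by
    have hh : Commute (d.Φ hB (pr π π' h)) (d.Φ hB (pr β0 1 (by decide +kernel))) := by
      rw [e, ← d.v_eq hB]; exact mem_centralizer_singleton_iff.1 hgx.2
    exact ((d.commute_Φ hB).1 hh).1
  obtain ⟨a', ha', ea'⟩ := odd_invol π' e2 (h ▸ hs)
  obtain ⟨a, ha, hac, ea⟩ : ∃ a : Perm (Fin 5), Perm.sign a = 1 ∧ a * β0 = β0 * a ∧ a * swap 3 4 * a⁻¹ = π := by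
    rcases odd_invol_beta π e1 hs hπ with rfl | rfl
    · exact ⟨1, map_one _, by group, by group⟩
    · exact ⟨f0, by decide +kernel, by decide +kernel, f0_s⟩
  refine ⟨d.Φ hB (pr a a' (ha.trans ha'.symm)), ⟨d.Φ_mem_H hB _, mem_centralizer_singleton_iff.2 ?_⟩, ?_⟩
  · rw [d.v_eq hB]; exact ((d.commute_Φ hB).2 ⟨hac, by group⟩).eq
  · rw [← e, d.t_eq hB, ← map_inv, ← map_mul, ← map_mul]
    exact congrArg _ (Subtype.ext (Prod.ext ea ea'))

include hB in
theorem not_sixtyfour_b : ¬ 64 ∣ Nat.card (centralizer ({d.b} : Set G)) := by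
  set C := centralizer ({d.b} : Set G) with hC
  let δ : Perm (Fin 5) →* G := (d.Φ hB).comp (MonoidHom.mk' (fun π => pr π π rfl) fun _ _ => rfl)
  have hδ : Function.Injective δ := fun a c h => congrArg (fun p : PAR => p.1.1) (d.Φ_inj hB h)
  have hbD : ∀ x ∈ δ.range, d.b * x * d.b ∈ δ.range := by
    rintro _ ⟨π, rfl⟩
    exact ⟨π, (d.bΦ hB (π := π) (π' := π) rfl).symm⟩
  have hfix : ∀ x ∈ d.KH hB, Commute x d.b → x ∈ δ.range := by
    intro x hx hxb
    obtain ⟨π, π', h, rfl⟩ := (d.mem_KH hB).1 hx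
    have h1 : d.Φ hB (pr π' π h.symm) = d.Φ hB (pr π π' h) := by
      rw [← d.bΦ hB h, mul_assoc, hxb.eq, ← mul_assoc, d.hb, one_mul]
    obtain rfl : π' = π := congrArg (fun p : PAR => p.1.1) (d.Φ_inj hB h1)
    exact ⟨π', rfl⟩
  have hsub : d.H hB ⊓ C ≤ extInv δ.range d.b d.hb hbD := by
    rintro x ⟨hxH, hxC⟩
    have hxb : Commute x d.b := mem_centralizer_singleton_iff.1 hxC
    rcases hxH with hk | hk
    · exact Or.inl (hfix x hk hxb)
    · exact Or.inr (hfix _ hk ((Commute.refl d.b).mul_left hxb))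
  have h240 : Nat.card (d.H hB ⊓ C : Subgroup G) ∣ 240 := by
    refine (card_dvd_of_le hsub).trans (card_extInv_dvd.trans (dvd_of_eq ?_))
    rw [← Nat.card_congr (MonoidHom.ofInjective hδ).toEquiv, Nat.card_perm, Nat.card_fin]
    rfl
  refine d.not_dvd_of hB h240 (by norm_num) ?_
  refine odd_relIndex inf_le_right ⟨d.Ct_le_H hB (d.mem_Ct.2 rfl), mem_centralizer_singleton_iff.2 d.t_comm_b.symm⟩
    d.ttt (fun g hg hgt => ⟨d.Ct_le_H hB (d.mem_Ct.2 hgt), hg⟩) fun g hg hgx => ?_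
  obtain ⟨π, π', h, e1, e2, hs, e⟩ := d.conj_t hB hgx.1
  obtain ⟨ρ, hρ⟩ := hfix _ ⟨pr π π' h, e⟩ (mem_centralizer_singleton_iff.1 hgx.2)
  have hp : pr ρ ρ rfl = pr π π' h := d.Φ_inj hB (hρ.trans e.symm)
  have q1 : ρ = π := congrArg (fun p : PAR => p.1.1) hp
  have q2 : ρ = π' := congrArg (fun p : PAR => p.1.2) hp
  obtain ⟨a, -, ea⟩ := odd_invol π e1 hs
  refine ⟨d.Φ hB (pr a a rfl), ⟨d.Φ_mem_H hB _, mem_centralizer_singleton_iff.2 (d.commute_b_diag hB a).symm.eq⟩, ?_⟩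
  rw [← e, d.t_eq hB, ← map_inv, ← map_mul, ← map_mul]
  exact congrArg _ (Subtype.ext (Prod.ext ea (ea.trans (q1.symm.trans q2))))

include hB in
theorem v_ne_vv' (g : G) : g * d.v * g⁻¹ ≠ d.v * d.v' := fun e => d.not_sixtyfour_v hB (by
  have := d.sixtyfour_vv' hB; rwa [← e, card_cent_conj] at this)

include hB in
theorem b_ne_vv' (g : G) : g * d.b * g⁻¹ ≠ d.v * d.v' := fun e => d.not_sixtyfour_b hB (by
  have := d.sixtyfour_vv' hB; rwa [← e, card_cent_conj] at this)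

include hB in
theorem b_ne_t (g : G) : g * d.b * g⁻¹ ≠ d.t := fun e => by
  have := d.five_b hB
  rw [← card_cent_conj g, e, d.card_cent_t hB] at this
  norm_num at this

include hB in
theorem v_ne_t (g : G) : g * d.v * g⁻¹ ≠ d.t := fun e => by
  have := d.five_v hB
  rw [← card_cent_conj g, e, d.card_cent_t hB] at this
  norm_num at this

include hB in
theorem b_ne_v (g : G) : g * d.b * g⁻¹ ≠ d.v := by
  intro e
  haveI : Fact (Nat.Prime 3) := ⟨Nat.prime_three⟩
  set C := centralizer ({d.v} : Set G) with hC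
  have h9 : ¬ 9 ∣ Nat.card C := by
    intro h
    obtain ⟨R, hR⟩ := Sylow.exists_subgroup_card_pow_prime (G := C) 3 (n := 2) (by norm_num; exact h)
    set R' := R.map C.subtype with hR'
    have hRc : Nat.card R' = 9 := by rw [hR', card_map_of_injective C.subtype_injective, hR]; norm_num
    have hmax : ∀ S : Subgroup G, IsPGroup 3 S → Nat.card S ≤ 9 := by
      intro S hS
      obtain ⟨k, hk⟩ := IsPGroup.iff_card.1 hS
      rw [hk]
      rcases (show k ≤ 2 ∨ 3 ≤ k by omega) with h | h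
      · calc 3 ^ k ≤ 3 ^ 2 := Nat.pow_le_pow_right (by norm_num) h
          _ = 9 := rfl
      · exact absurd ((pow_dvd_pow 3 h).trans (hk ▸ Subgroup.card_subgroup_dvd_card S)) d.h27
    obtain ⟨P, hP⟩ := (IsPGroup.of_card (n := 2) (by rw [hRc]; rfl) : IsPGroup 3 R').exists_le_sylow
    obtain ⟨Q, hQ⟩ := (IsPGroup.of_card (n := 2) (by rw [d.card_D]; rfl) : IsPGroup 3 d.D).exists_le_sylow
    have hPR : (P : Subgroup G) = R' := (eq_of_le_of_card_ge hP (by rw [hRc]; exact hmax _ P.isPGroup')).symm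
    have hQD : (Q : Subgroup G) = d.D := (eq_of_le_of_card_ge hQ (by rw [d.card_D]; exact hmax _ Q.isPGroup')).symm
    obtain ⟨k, hk⟩ := MulAction.exists_smul_eq G Q P
    obtain ⟨x, hx, hxe⟩ := d.cent_D (g := k⁻¹ * d.v * k) fun x hx => by
      have h1 : k * x * k⁻¹ ∈ (P : Subgroup G) := by rw [← hk]; exact ⟨x, hQD.ge hx, rfl⟩
      rw [hPR, hR'] at h1
      obtain ⟨c, -, hc⟩ := h1
      have h2 : Commute (k * x * k⁻¹) d.v := hc ▸ mem_centralizer_singleton_iff.1 c.2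
      calc k⁻¹ * d.v * k * x = k⁻¹ * (d.v * (k * x * k⁻¹)) * k := by group
        _ = k⁻¹ * ((k * x * k⁻¹) * d.v) * k := by rw [h2.eq]
        _ = _ := by group
    have hsq : k⁻¹ * d.v * k * (k⁻¹ * d.v * k) = 1 := by
      rw [show k⁻¹ * d.v * k * (k⁻¹ * d.v * k) = k⁻¹ * (d.v * d.v) * k by group, d.vv, mul_one, inv_mul_cancel]
    have hx1 : x * x = 1 := by
      rcases hxe with h | h <;> rw [h] at hsq
      · exact hsq
      · rwa [(show Commute d.t x from (d.D_t hx).symm).mul_mul_mul_comm, d.ttt, mul_one] at hsq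
    have hx1' : x = 1 := by
      have := d.D_exp hx
      rwa [pow_three, hx1, mul_one] at this
    rcases hxe with h | h <;> rw [hx1'] at h
    · have : d.v = 1 := by rw [show d.v = k * (k⁻¹ * d.v * k) * k⁻¹ by group, h, mul_one, mul_inv_cancel]
      exact absurd (congrArg Prod.snd (d.inj (this.trans (map_one d.φ).symm))) (by decide +kernel)
    · exact d.v_ne_t hB k⁻¹ (by rw [inv_inv, h, one_mul])
  set y := g * d.φ (Z0 * W0) * g⁻¹ with hy
  have hby : Commute d.b (d.φ (Z0 * W0)) := by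
    show d.b * d.φ (Z0 * W0) = d.φ (Z0 * W0) * d.b
    calc d.b * d.φ (Z0 * W0) = d.b * d.z * (d.b * d.b) * d.w * (d.b * d.b) := by rw [d.hb, map_mul]; group
      _ = (d.b * d.z * d.b) * (d.b * d.w * d.b) * d.b := by group
      _ = d.w * d.z * d.b := by rw [d.hbz, d.bwz]
      _ = _ := by rw [(show Commute d.w d.z from (ZW_comm.map d.φ).symm).eq, map_mul]
  have hyC : y ∈ C := mem_centralizer_singleton_iff.2 (by
    rw [← e, hy]
    calc g * d.φ (Z0 * W0) * g⁻¹ * (g * d.b * g⁻¹) = g * (d.φ (Z0 * W0) * d.b) * g⁻¹ := by group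
      _ = g * (d.b * d.φ (Z0 * W0)) * g⁻¹ := by rw [hby.eq]
      _ = _ := by group)
  have hy3 : y ^ 3 = 1 := by
    rw [hy, conj_pow, ← map_pow, ZW_comm.mul_pow, Z0_pow, W0_pow, one_mul, map_one, mul_one, mul_inv_cancel]
  have hy1 : y ≠ 1 := ne_one_conj fun e => absurd (congrArg Prod.fst (d.inj (e.trans (map_one d.φ).symm))) (by decide)
  set Z : C := ⟨d.z, mem_centralizer_singleton_iff.2 d.zv⟩ with hZ
  have hoz : orderOf Z = 3 := orderOf_eq_prime (Subtype.ext (by rw [SubgroupClass.coe_pow]; exact d.z3))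
    fun e => absurd (congrArg Prod.fst (d.inj ((show d.φ Z0 = 1 from congrArg Subtype.val e).trans (map_one d.φ).symm))) (by decide)
  obtain ⟨P, hP⟩ := (IsPGroup.of_card (n := 1) (by rw [Nat.card_zpowers, hoz, pow_one]) :
    IsPGroup 3 (zpowers Z)).exists_le_sylow
  have hPz : (P : Subgroup C) = zpowers Z := by
    refine (eq_of_le_of_card_ge hP ?_).symm
    obtain ⟨k, hk⟩ := IsPGroup.iff_card.1 P.isPGroup'
    rw [Nat.card_zpowers, hoz, hk]
    rcases (show k ≤ 1 ∨ 2 ≤ k by omega) with h | h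
    · calc 3 ^ k ≤ 3 ^ 1 := Nat.pow_le_pow_right (by norm_num) h
        _ = 3 := rfl
    · exact absurd ((pow_dvd_pow 3 h).trans (hk ▸ Subgroup.card_subgroup_dvd_card (P : Subgroup C))) h9
  set Y : C := ⟨y, hyC⟩
  have hoy : orderOf Y = 3 := orderOf_eq_prime (Subtype.ext (by rw [SubgroupClass.coe_pow]; exact hy3))
    fun e => hy1 (congrArg Subtype.val e)
  obtain ⟨Q, hQ⟩ := (IsPGroup.of_card (n := 1) (by rw [Nat.card_zpowers, hoy, pow_one]) :
    IsPGroup 3 (zpowers Y)).exists_le_sylow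
  obtain ⟨k, hk⟩ := MulAction.exists_smul_eq C Q P
  have hm : k * Y * k⁻¹ ∈ zpowers Z := by
    rw [← hPz, ← hk]; exact ⟨Y, hQ (mem_zpowers _), rfl⟩
  obtain ⟨n, hn⟩ := mem_powers_iff_mem_zpowers.2 hm
  have h36 : Nat.card (centralizer ({(k : G) * y * (k : G)⁻¹} : Set G)) = 36 := by
    rw [card_cent_conj, hy, card_cent_conj, d.h36]
  have he : (k : G) * y * (k : G)⁻¹ = d.z ^ (n % 3) := by
    rw [← show ((k * Y * k⁻¹ : C) : G) = (k : G) * y * (k : G)⁻¹ from rfl, ← hn]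
    show ((Z ^ n : C) : G) = _
    rw [← pow_mod_orderOf, hoz, SubgroupClass.coe_pow]
  have h37 := d.z_types.1
  rcases (show n % 3 = 0 ∨ n % 3 = 1 ∨ n % 3 = 2 by omega) with h | h | h <;> rw [h] at he
  · exact ne_one_conj (g := (k : G)) hy1 (by rw [he, pow_zero])
  · rw [he, pow_one] at h36; omega
  · rw [he, show d.z ^ 2 = d.z⁻¹ from eq_inv_of_mul_eq_one_left (by rw [← pow_succ, d.z3]),
      show centralizer ({d.z⁻¹} : Set G) = centralizer ({d.z} : Set G) by
        ext q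
        simp only [mem_centralizer_singleton_iff]
        exact ⟨fun h => (Commute.inv_right_iff.1 h : Commute q d.z).eq,
          fun h => (show Commute q d.z from h).inv_right.eq⟩] at h36
    omega

/-- sign of the first component -/
noncomputable def e1 : d.KH hB →* ℤˣ :=
  (Perm.sign.comp ((MonoidHom.fst _ _).comp PAR.subtype)).comp (MonoidHom.ofInjective (d.Φ_inj hB)).symm.toMonoidHom

theorem e1_Φ (p : PAR) (h : d.Φ hB p ∈ d.KH hB) : d.e1 hB ⟨_, h⟩ = Perm.sign p.1.1 := by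
  show Perm.sign ((MonoidHom.ofInjective (d.Φ_inj hB)).symm ⟨d.Φ hB p, h⟩).1.1 = Perm.sign p.1.1
  congr
  rw [MulEquiv.symm_apply_eq]
  rfl

theorem e1_b (x : d.KH hB) : d.e1 hB ⟨d.b * x * d.b, d.b_KH hB x x.2⟩ = d.e1 hB x := by
  obtain ⟨x, hx⟩ := x
  obtain ⟨π, π', h, rfl⟩ := (d.mem_KH hB).1 hx
  refine (congrArg (d.e1 hB) (show (⟨d.b * d.Φ hB (pr π π' h) * d.b, d.b_KH hB _ hx⟩ : d.KH hB) =
    ⟨d.Φ hB (pr π' π h.symm), ⟨_, rfl⟩⟩ from Subtype.ext (d.bΦ hB h))).trans ?_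
  exact (d.e1_Φ hB (pr π' π h.symm) _).trans (h.symm.trans (d.e1_Φ hB (pr π π' h) hx).symm)

/-- the two transfers -/
noncomputable def V : G →* ℤˣ × ℤˣ :=
  (MonoidHom.transfer (extHom (d.b_not_KH hB) (d.e1 hB) 1 (d.e1_b hB) : d.H hB →* ℤˣ)).prod
    (MonoidHom.transfer (extHom (d.b_not_KH hB) (1 : d.KH hB →* ℤˣ) (-1) (fun _ => rfl) : d.H hB →* ℤˣ))

theorem V_t : d.V hB d.t = (-1, 1) := by
  have ht : d.t ∈ d.H hB := d.Ct_le_H hB (d.mem_Ct.2 rfl)
  refine Prod.ext (transfer_neg (d.H_odd hB) _ ht d.ttt fun a h => ?_) (transfer_pos _ ht d.ttt fun a h => ?_)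
  all_goals obtain ⟨π, π', hp, -, -, hs, e⟩ := d.conj_t hB h
  all_goals have hk : a⁻¹ * d.t * a ∈ d.KH hB := ⟨_, e⟩
  · refine (extHom_mem (d.b_not_KH hB) (d.e1 hB) 1 (d.e1_b hB) (x := ⟨_, h⟩) hk).trans ?_
    refine (congrArg (d.e1 hB) (show (⟨a⁻¹ * d.t * a, hk⟩ : d.KH hB) = ⟨d.Φ hB (pr π π' hp), ⟨_, rfl⟩⟩ from
      Subtype.ext e.symm)).trans ?_
    exact (d.e1_Φ hB (pr π π' hp) _).trans hs
  · exact extHom_mem (d.b_not_KH hB) (1 : d.KH hB →* ℤˣ) (-1) (fun _ => rfl) (x := ⟨_, h⟩) hk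

theorem V_b : (d.V hB d.b).2 = -1 := by
  refine transfer_neg (d.H_odd hB) _ (d.b_mem_H hB) d.hb fun a h => ?_
  set x := a⁻¹ * d.b * a with hx
  have hnK : x ∉ d.KH hB := by
    intro hK
    have hxx : x * x = 1 := by
      rw [hx, show a⁻¹ * d.b * a * (a⁻¹ * d.b * a) = a⁻¹ * (d.b * d.b) * a by group, d.hb, mul_one, inv_mul_cancel]
    have hb1 : d.b ≠ 1 := fun e => d.b_not_KH hB (e ▸ one_mem _)
    have hx1 : x ≠ 1 := by
      rw [hx, show a⁻¹ * d.b * a = a⁻¹ * d.b * a⁻¹⁻¹ by group]; exact ne_one_conj hb1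
    rcases d.invol_cases hB h hxx hx1 with ⟨π, π', hp, e1, e2, hs, e⟩ | ⟨-, k, -, hk⟩ | ⟨hn, -⟩
    · obtain ⟨c, hc, ec⟩ := odd_invol π e1 hs
      obtain ⟨c', hc', ec'⟩ := odd_invol π' e2 (hp ▸ hs)
      set m := d.Φ hB (pr c c' (hc.trans hc'.symm)) with hm
      have hmt : m * d.t * m⁻¹ = x := by
        rw [← e, hm, d.t_eq hB, ← map_inv, ← map_mul, ← map_mul]
        exact congrArg _ (Subtype.ext (Prod.ext ec ec'))
      refine d.b_ne_t hB (m⁻¹ * a⁻¹) ?_
      rw [show m⁻¹ * a⁻¹ * d.b * (m⁻¹ * a⁻¹)⁻¹ = m⁻¹ * x * m by rw [hx]; group, ← hmt]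
      group
    · rcases hk with hk | hk | hk
      · exact d.b_ne_v hB (k * a⁻¹) (by rw [← hk, hx]; group)
      · refine d.b_ne_v hB (d.b * k * a⁻¹) ?_
        rw [show d.b * k * a⁻¹ * d.b * (d.b * k * a⁻¹)⁻¹ = d.b * (k * x * k⁻¹) * d.b⁻¹ by rw [hx]; group, hk,
          d.bi, d.bvb hB]
      · exact d.b_ne_vv' hB (k * a⁻¹) (by rw [← hk, hx]; group)
    · exact hn hK
  exact (extHom_not_mem (d.b_not_KH hB) (1 : d.KH hB →* ℤˣ) (-1) (fun _ => rfl) (x := ⟨_, h⟩) hnK).trans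
    (mul_one _)

/-- the normal subgroup of index four -/
noncomputable def M : Subgroup G := (d.V hB).ker

theorem M_index : (d.M hB).index = 4 := by
  have hs : Function.Surjective (d.V hB) := by
    rintro ⟨a, c⟩
    rcases Int.units_eq_one_or a with rfl | rfl <;> rcases Int.units_eq_one_or c with rfl | rfl <;>
      rcases Int.units_eq_one_or (d.V hB d.b).1 with hb1 | hb1
    all_goals first
      | exact ⟨1, map_one _⟩
      | exact ⟨d.t, d.V_t hB⟩
      | exact ⟨d.b, Prod.ext hb1 (d.V_b hB)⟩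
      | exact ⟨d.t * d.b, by
          rw [map_mul, d.V_t hB]
          exact Prod.ext (by rw [Prod.fst_mul, hb1]; rfl) (by rw [Prod.snd_mul, d.V_b hB]; rfl)⟩
  rw [M, index_ker, MonoidHom.range_eq_top.2 hs, card_top, Nat.card_prod, Nat.card_eq_fintype_card,
    Fintype.card_units_int]

/-- pairs of even permutations -/
def incl : alternatingGroup (Fin 5) × alternatingGroup (Fin 5) →* PAR :=
  ((alternatingGroup (Fin 5)).subtype.prodMap (alternatingGroup (Fin 5)).subtype).codRestrict PAR fun p =>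
    mem_PAR.2 ((Perm.mem_alternatingGroup.1 p.1.2).trans (Perm.mem_alternatingGroup.1 p.2.2).symm)

/-- the embedding of the two alternating groups -/
def μ : alternatingGroup (Fin 5) × alternatingGroup (Fin 5) →* G := (d.Φ hB).comp incl

theorem μ_inj : Function.Injective (d.μ hB) := fun p q h => by
  have e := d.Φ_inj hB h
  exact Prod.ext (Subtype.ext (congrArg (fun r : PAR => r.1.1) e)) (Subtype.ext (congrArg (fun r : PAR => r.1.2) e))

/-- the normal subgroup to be found -/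
def N : Subgroup G := (d.μ hB).range

theorem mem_N {x : G} : x ∈ d.N hB ↔ ∃ (π π' : Perm (Fin 5)) (h : Perm.sign π = Perm.sign π'),
    Perm.sign π = 1 ∧ d.Φ hB (pr π π' h) = x := by
  constructor
  · rintro ⟨⟨a, a'⟩, rfl⟩
    exact ⟨a, a', (Perm.mem_alternatingGroup.1 a.2).trans (Perm.mem_alternatingGroup.1 a'.2).symm,
      Perm.mem_alternatingGroup.1 a.2, rfl⟩
  · rintro ⟨π, π', h, hs, rfl⟩
    exact ⟨(⟨π, Perm.mem_alternatingGroup.2 hs⟩, ⟨π', Perm.mem_alternatingGroup.2 (h ▸ hs)⟩), rfl⟩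

theorem card_N : Nat.card (d.N hB) = 3600 := by
  rw [N, ← Nat.card_congr (MonoidHom.ofInjective (d.μ_inj hB)).toEquiv, Nat.card_prod, nat_card_alternatingGroup,
    Nat.card_fin]
  rfl

theorem N_le_H : d.N hB ≤ d.H hB := fun x hx => by
  obtain ⟨π, π', h, -, rfl⟩ := (d.mem_N hB).1 hx
  exact d.Φ_mem_H hB _

theorem N_le_M : d.N hB ≤ d.M hB := by
  have h3 : ∀ (p : PAR), p * p * p = 1 → d.V hB (d.Φ hB p) = 1 := fun p hp => by
    have h := congrArg (fun q => d.V hB (d.Φ hB q)) hp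
    simp only [map_mul, map_one] at h
    have h2 : ∀ u : ℤˣ × ℤˣ, u * u * u = u := fun u => by
      ext <;> simp [Int.units_mul_self]
    rwa [h2] at h
  obtain ⟨a, ha, ha3, haf⟩ := alt_f0
  have hkill : ∀ (side : Bool) (π : Perm (Fin 5)) (hπ : Perm.sign π = 1),
      d.V hB (d.Φ hB (if side then pr π 1 (hπ.trans (map_one _).symm) else pr 1 π ((map_one _).trans hπ.symm))) = 1 := by
    intro side
    let ι : alternatingGroup (Fin 5) →* PAR := incl.comp
      (if side then MonoidHom.inl _ _ else MonoidHom.inr _ _)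
    set T := ((d.V hB).comp ((d.Φ hB).comp ι)).ker.map (alternatingGroup (Fin 5)).subtype with hT
    have h3' : ∀ (c : Perm (Fin 5)) (hc : Perm.sign c = 1), c * c * c = 1 → c ∈ T := fun c hc hc3 => by
      refine ⟨⟨c, Perm.mem_alternatingGroup.2 hc⟩, h3 (ι _) ?_, rfl⟩
      rw [← map_mul, ← map_mul, show (⟨c, Perm.mem_alternatingGroup.2 hc⟩ : alternatingGroup (Fin 5)) *
        ⟨c, Perm.mem_alternatingGroup.2 hc⟩ * ⟨c, Perm.mem_alternatingGroup.2 hc⟩ = 1 from Subtype.ext hc3, map_one]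
    intro π hπ
    have hc5' : Perm.sign c5 = 1 := by decide +kernel
    have hf0 : f0 ∈ T := by
      have h1 := h3' a ha ha3
      have hf : Perm.sign f0 = 1 := by decide +kernel
      have h2 := h3' (a * f0) (by rw [map_mul, ha, hf, mul_one]) haf
      have := mul_mem (inv_mem h1) h2
      rwa [inv_mul_cancel_left] at this
    obtain ⟨q, hq, hqe⟩ := alt_gen (K := T) (h3' c5 hc5' (by decide +kernel)) hf0 hπ
    change d.V hB (d.Φ hB (ι q)) = 1 at hq
    have hq' : q = ⟨π, Perm.mem_alternatingGroup.2 hπ⟩ := Subtype.ext hqe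
    rw [hq'] at hq
    cases side
    · rw [← hq]; rfl
    · rw [← hq]; rfl
  intro x hx
  obtain ⟨π, π', h, hs, rfl⟩ := (d.mem_N hB).1 hx
  rw [M, MonoidHom.mem_ker, show pr π π' h = pr π 1 (hs.trans (map_one _).symm) * pr 1 π' ((map_one _).trans (h ▸ hs).symm)
    from Subtype.ext (Prod.ext (mul_one π).symm (one_mul π').symm), map_mul, map_mul]
  have h1 := hkill true π hs
  have h2 := hkill false π' (h ▸ hs)
  simp only [if_true, Bool.false_eq_true, if_false] at h1 h2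
  rw [h1, h2, one_mul]

theorem H_inf_M : d.H hB ⊓ d.M hB = d.N hB := by
  refine le_antisymm ?_ (le_inf (d.N_le_H hB) (d.N_le_M hB))
  rintro x ⟨hxH, hxM⟩
  change d.V hB x = 1 at hxM
  have hK : ∀ y ∈ d.KH hB, y ∈ d.N hB ∨ d.V hB y = (-1, 1) := by
    intro y hy
    obtain ⟨π, π', h, rfl⟩ := (d.mem_KH hB).1 hy
    rcases Int.units_eq_one_or (Perm.sign π) with hs | hs
    · exact Or.inl ((d.mem_N hB).2 ⟨π, π', h, hs, rfl⟩)
    · refine Or.inr ?_
      have hn : d.Φ hB (pr π π' h) * d.t ∈ d.N hB := by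
        rw [d.t_eq hB, ← map_mul, pr_mul]
        exact (d.mem_N hB).2 ⟨_, _, _, by rw [map_mul, hs, Perm.sign_swap (by decide), Int.units_mul_self], rfl⟩
      have h1 : d.V hB (d.Φ hB (pr π π' h) * d.t) = 1 := d.N_le_M hB hn
      rw [map_mul, d.V_t hB] at h1
      rw [eq_inv_of_mul_eq_one_left h1]
      rfl
  rcases hxH with hk | hk
  · rcases hK x hk with h | h
    · exact h
    · rw [h] at hxM; exact absurd (congrArg Prod.fst hxM) (by decide)
  · exfalso
    have h2 : (d.V hB (d.b * x)).2 = -1 := by rw [map_mul, Prod.snd_mul, d.V_b hB, hxM]; rfl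
    rcases hK _ hk with h | h
    · rw [show d.V hB (d.b * x) = 1 from d.N_le_M hB h] at h2; exact absurd h2 (by decide)
    · rw [h] at h2; exact absurd h2 (by decide)

theorem N_odd : Odd ((d.N hB).relIndex (d.M hB)) := by
  have hG : Nat.card G = Nat.card (d.H hB) * (d.H hB).index := (Subgroup.card_mul_index _).symm
  have hH : Nat.card (d.H hB) = 14400 := by
    rw [H, card_extInv (d.b_not_KH hB), KH, ← Nat.card_congr (MonoidHom.ofInjective (d.Φ_inj hB)).toEquiv]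
    have h := card_parSub ⊤ ⊤ (mem_top _)
    rw [card_top, Nat.card_perm, Nat.card_fin] at h
    have e : parSub ⊤ ⊤ = PAR := by
      rw [parSub, Subgroup.prod_top, Subgroup.comap_top, top_inf_eq]
    rw [e] at h
    norm_num [Nat.factorial] at h
    omega
  have hM := (d.M hB).card_mul_index
  rw [d.M_index hB, hG, hH] at hM
  have hr := relIndex_mul_relIndex ⊥ (d.N hB) (d.M hB) bot_le (d.N_le_M hB)
  rw [relIndex_bot_left, relIndex_bot_left, d.card_N hB] at hr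
  obtain ⟨k, hk⟩ := d.H_odd hB
  exact ⟨k, by rw [hk] at hM; omega⟩

end Data

end Cfsg.Agent.Lie.SymEightLocal
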