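import Cfsg.Agent.Lib.Lie.SymEightLocal.CaseBFour
import Cfsg.Agent.S0058

/-!
In the second case the centraliser of `t` normalises the torus.
-/

set_option autoImplicit false
set_option linter.unusedSectionVars false

namespace Cfsg.Agent.Lie.SymEightLocal

open Subgroup Equiv

set_option maxHeartbeats 1600000

namespace Data

variable {G : Type*} [Group G] (d : Data G)

theorem D2_not_cyclic [Finite G] : ¬ IsCyclic d.D2 := by
  intro h
  obtain ⟨g, hg⟩ := h.exists_generator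
  have h9 : Nat.card d.D2 = orderOf g := (orderOf_eq_card_of_forall_mem_zpowers hg).symm
  have h3 : orderOf g ≤ 3 := orderOf_le_of_pow_eq_one (by norm_num)
    (Subtype.ext (by rw [SubgroupClass.coe_pow]; exact d.D2_three g.2))
  rw [d.card_D2] at h9
  omega

/-- the moved involution commutes with `τg` -/
theorem u_τ [Finite G] {u : G} (huA : u ∈ d.A) (hu : Tri d.z d.v u)
    (hv' : d.v' * u * d.v' = u ∨ d.v' * u * d.v' = d.z * u * (d.z * d.z) ∨ d.v' * u * d.v' = d.z * d.z * u * d.z) :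
    u * d.τg = d.τg * u := by
  classical
  haveI : Fact (Nat.Prime 2) := ⟨Nat.prime_two⟩
  obtain ⟨Q, hQA, hQ2, hVQ, huQ, hQn⟩ := d.exists_core huA hu hv'
  haveI : IsMulCommutative d.D2 := ⟨⟨fun a c => Subtype.ext (d.D2_comm a.2 c.2)⟩⟩
  have hnorm : d.D2 ≤ Subgroup.normalizer (Q : Set G) := by
    intro a ha
    rw [Subgroup.mem_normalizer_iff]
    intro q
    refine ⟨fun hq => hQn a (fun g => d.D2_norm ha) q hq, fun hq => ?_⟩
    have := hQn a⁻¹ (fun g => d.D2_norm (inv_mem ha)) _ hq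
    rwa [inv_inv, show a⁻¹ * (a * q * a⁻¹) * a = q by group] at this
  have hcop : (Nat.card d.D2).Coprime (Nat.card Q) := by
    obtain ⟨n, hn⟩ := IsPGroup.iff_card.1 hQ2
    rw [hn, d.card_D2]
    exact Nat.Coprime.pow_right n (by decide)
  -- elements whose commutator with `τg` lies in the four group
  let T : Subgroup G :=
    { carrier := {g | g ∈ d.A ∧ d.τg * g * d.τg⁻¹ * g⁻¹ ∈ d.Vg}
      mul_mem' := by
        rintro g h ⟨hg, hg'⟩ ⟨hh, hh'⟩
        refine ⟨mul_mem hg hh, ?_⟩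
        have e : d.τg * (g * h) * d.τg⁻¹ * (g * h)⁻¹ =
            d.τg * g * d.τg⁻¹ * g⁻¹ * (g * (d.τg * h * d.τg⁻¹ * h⁻¹) * g⁻¹) := by group
        rw [e, d.Vg_central hg hh', mul_inv_cancel_right]
        exact mul_mem hg' hh'
      one_mem' := ⟨one_mem _, by simp⟩
      inv_mem' := by
        rintro g ⟨hg, hg'⟩
        refine ⟨inv_mem hg, ?_⟩
        have e : d.τg * g⁻¹ * d.τg⁻¹ * g⁻¹⁻¹ = g⁻¹ * (g * d.τg * g⁻¹ * d.τg⁻¹) * g := by group
        have h1 : g * d.τg * g⁻¹ * d.τg⁻¹ ∈ d.Vg := by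
          have := inv_mem hg'
          rwa [show (d.τg * g * d.τg⁻¹ * g⁻¹)⁻¹ = g * d.τg * g⁻¹ * d.τg⁻¹ by group] at this
        rw [e, d.Vg_central (inv_mem hg) h1, inv_mul_cancel_right]
        exact h1 }
  have hVT : d.Vg ≤ T := fun x hx => ⟨d.Vg_le_A hx, by
    have h1 : d.τg * x * d.τg⁻¹ ∈ d.Vg := by
      obtain ⟨π, hπ, rfl⟩ := d.mem_Vg.1 hx
      rw [τg, d.φ_conj]
      exact d.mem_Vg.2 ⟨_, F4_list.2 (four_norm π (F4_list.1 hπ)).1, rfl⟩
    exact mul_mem h1 (inv_mem hx)⟩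
  have hz2 : ∀ k : Fin 3, d.z ^ k.val ∈ Q → k.val = 0 := by
    intro k hk
    by_contra h0
    obtain ⟨n, hn⟩ := hQ2 ⟨_, hk⟩
    have h2 : (d.z ^ k.val) ^ (2 ^ n) = 1 := congrArg Subtype.val hn
    have h3 : orderOf (d.z ^ k.val) ∣ 3 := orderOf_dvd_of_pow_eq_one (by
      rw [← pow_mul, mul_comm, pow_mul, d.z3, one_pow])
    have h1 := Nat.eq_one_of_dvd_coprimes (Nat.Coprime.pow_left n (by decide : Nat.Coprime 2 3))
      (orderOf_dvd_of_pow_eq_one h2) h3
    rw [orderOf_eq_one_iff, z, ← map_pow] at h1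
    have e := congrArg Prod.fst (d.inj (h1.trans (map_one d.φ).symm))
    have kk : ∀ k : Fin 3, c3 ^ k.val = 1 → k.val = 0 := by decide
    exact h0 (kk k (by simpa using e))
  have hQT : Q ≤ T := by
    rw [← Cfsg.Agent.S0058.result d.D2 Q d.D2_not_cyclic hnorm hcop]
    refine iSup₂_le fun a ha g hg => ?_
    obtain ⟨haD, ha1⟩ := ha
    obtain ⟨hgQ, hga⟩ := hg
    have hga' : Commute g a := mem_centralizer_singleton_iff.1 hga
    have hgA := hQA hgQ
    obtain ⟨i, j, rfl⟩ := d.mem_D2.1 haD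
    by_cases hj : j.val = 0
    · have hi : i.val ≠ 0 := fun hi => ha1 (by rw [hi, hj]; simp)
      rw [hj, pow_zero, mul_one] at hga'
      have hgz : Commute g d.z := by
        rcases (show i.val = 1 ∨ i.val = 2 by omega) with ei | ei
        · rwa [ei, pow_one] at hga'
        · rw [ei] at hga'
          have := hga'.inv_right
          rwa [show (d.z ^ 2)⁻¹ = d.z from inv_eq_of_mul_eq_one_right (by rw [← pow_succ, d.z3])] at this
      obtain ⟨k, π, hπ, rfl⟩ := d.A_cent_z hgA hgz.eq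
      have hx : d.φ (1, π) ∈ d.Vg := d.mem_Vg.2 ⟨π, hπ, rfl⟩
      have hgQ' : d.z ^ k.val * d.φ (1, π) ∈ Q := hgQ
      have hk := hz2 k (by simpa using mul_mem hgQ' (inv_mem (hVQ hx)))
      rw [hk, pow_zero, one_mul]
      exact hVT hx
    by_cases hi : i.val = 0
    · rw [hi, pow_zero, one_mul] at hga'
      have hgt : Commute g d.τg := by
        rcases (show j.val = 1 ∨ j.val = 2 by omega) with ej | ej
        · rwa [ej, pow_one] at hga'
        · rw [ej] at hga'
          have := hga'.inv_right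
          rwa [show (d.τg ^ 2)⁻¹ = d.τg from inv_eq_of_mul_eq_one_right (by
            rw [← pow_succ, ← d.lwl, conj_pow, d.w3, mul_one, mul_inv_cancel])] at this
      exact ⟨hgA, by rw [← hgt.eq, mul_inv_cancel_right, mul_inv_cancel]; exact one_mem _⟩
    · obtain ⟨k, rfl⟩ := d.A_cent_diag hgA hi hj hga'.eq
      rw [hz2 k hgQ, pow_zero]
      exact one_mem _
  obtain ⟨-, hx⟩ := hQT huQ
  -- the commutator is the same on the three conjugates
  obtain ⟨uu, -, -, hu3⟩ := hu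
  set x := d.τg * u * d.τg⁻¹ * u⁻¹ with hxdef
  have hτu : d.τg * u * d.τg⁻¹ = x * u := by rw [hxdef, inv_mul_cancel_right]
  have hzx : Commute d.z x := d.Vg_central d.z_A hx
  have hux : Commute u x := d.Vg_central huA hx
  set κ := (MulAut.conj d.τg).toMonoidHom
  have κz : κ d.z = d.z := by
    show d.τg * d.z * d.τg⁻¹ = d.z
    rw [← d.zτ, mul_inv_cancel_right]
  have κu : κ u = x * u := hτu
  have h := congrArg κ hu3
  simp only [map_mul, map_one, κz, κu] at h
  have e : x * u * (d.z * (x * u) * (d.z * d.z)) * (d.z * d.z * (x * u) * d.z) =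
      x * x * x * (u * (d.z * u * (d.z * d.z)) * (d.z * d.z * u * d.z)) := by
    calc x * u * (d.z * (x * u) * (d.z * d.z)) * (d.z * d.z * (x * u) * d.z)
        = x * u * ((d.z * x) * u * (d.z * d.z)) * ((d.z * d.z) * x * u * d.z) := by group
      _ = x * u * (x * d.z * u * (d.z * d.z)) * (x * (d.z * d.z) * u * d.z) := by
          rw [hzx.eq, (hzx.mul_left hzx).eq]
      _ = x * (u * x) * ((d.z * u * (d.z * d.z)) * x) * (d.z * d.z * u * d.z) := by group
      _ = x * (x * u) * (x * (d.z * u * (d.z * d.z))) * (d.z * d.z * u * d.z) := by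
          rw [hux.eq, ((hzx.mul_left hux).mul_left (hzx.mul_left hzx)).eq]
      _ = x * x * (u * x) * (d.z * u * (d.z * d.z)) * (d.z * d.z * u * d.z) := by group
      _ = _ := by rw [hux.eq]; group
  rw [e, hu3, mul_one, d.Vg_sq hx, one_mul] at h
  rw [h, one_mul] at hτu
  exact (mul_inv_eq_iff_eq_mul.1 hτu).symm

/-- In the second case the centraliser of `t` normalises the torus. -/
theorem caseB_norm [Finite G] (hB : d.β = β0) : ∀ g : G, g * d.t = d.t * g → d.NormD g := by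
  rcases d.dichotomy with h | ⟨⟨e⟩⟩
  · exact h
  exfalso
  obtain ⟨u, hut, huv, huf, hu, hv'⟩ := d.exists_triple hB e
  have huA : u ∈ d.A := d.mem_A.2 ⟨huv, huf⟩
  have huτ := d.u_τ huA hu hv'
  obtain ⟨uu, -, huz, hu3⟩ := hu
  set κ := ((MulAut.conj d.b).toMonoidHom).comp (MulAut.conj d.lg⁻¹).toMonoidHom with hκ
  have κa : ∀ a, κ a = d.b * (d.lg⁻¹ * a * d.lg) * d.b := fun a => by
    show d.b * (d.lg⁻¹ * a * (d.lg⁻¹)⁻¹) * d.b⁻¹ = _
    rw [d.bi, inv_inv]
  have hκinj : Function.Injective κ := (MulAut.conj d.b).injective.comp (MulAut.conj d.lg⁻¹).injective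
  have κτ : κ d.τg = d.z := by
    rw [κa, ← d.lwl, show d.lg⁻¹ * (d.lg * d.w * d.lg⁻¹) * d.lg = d.w by group, d.bwz]
  have κz : κ d.z = d.w := by
    rw [κa, show d.lg⁻¹ * d.z * d.lg = d.z by rw [mul_assoc, d.zφ l0, inv_mul_cancel_left], d.hbz]
  have κt : κ d.t = d.φ (swap 0 1, swap 3 4) := by
    rw [κa, ← d.ψB_01 hB, ψ_apply]
    congr 2
    rw [lg, t, ← map_inv, ← map_mul, ← map_mul]
    exact congrArg d.φ (Prod.ext (by simp) (by simpa using l0_facts.2))
  obtain ⟨⟨σ, π⟩, hq, hσ⟩ := d.cent_z (g := κ u) (by rw [← κτ, ← map_mul, ← map_mul, huτ])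
  have qq : (σ, π) * (σ, π) = (1 : PQ) := d.inj (by rw [map_mul, hq, ← map_mul, uu, map_one, map_one])
  have qt : (σ, π) * ((swap 0 1, swap 3 4) : PQ) = (swap 0 1, swap 3 4) * (σ, π) := d.inj (by
    rw [map_mul, map_mul, hq, ← κt, ← map_mul, ← map_mul, hut])
  have q3 : (σ, π) * (W0 * (σ, π) * (W0 * W0)) * (W0 * W0 * (σ, π) * W0) = (1 : PQ) := d.inj (by
    simp only [map_mul, hq]
    rw [show d.φ W0 = d.w from rfl, ← κz, map_one, ← map_one κ, ← hu3]
    simp only [map_mul])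
  obtain rfl : σ = 1 := invert_c3 σ (congrArg Prod.fst qq) (congrArg Prod.fst hσ)
  obtain rfl : π = 1 := tri_five π (congrArg Prod.snd qq) (congrArg Prod.snd qt) (congrArg Prod.snd q3)
  have : u = 1 := hκinj (by rw [← hq, map_one κ]; exact map_one d.φ)
  exact huz (by rw [this, one_mul, mul_one])

end Data

end Cfsg.Agent.Lie.SymEightLocal
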