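import Cfsg.Agent.Lib.Lie.SymEightLocal.CaseBFusion
import Cfsg.Agent.Lib.Fusion.BurnsideFusion
import Cfsg.Agent.Lib.Lead.JankoTwoAlt.Small
import Cfsg.Agent.S3331
import Cfsg.Agent.Lib.Lie.PSpFourThreeAmalgam.Seven

/-!
The subgroup of index four is the product of the two alternating groups.
-/

set_option autoImplicit false
set_option linter.unusedSectionVars false
set_option maxRecDepth 100000

namespace Cfsg.Agent.Lie.SymEightLocal

open Subgroup Equiv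

set_option maxHeartbeats 1600000

theorem c5_five : ∃ a : Perm (Fin 5), Perm.sign a = 1 ∧ a ^ 5 = 1 ∧ (a * c5) ^ 5 = 1 := by decide +kernel

theorem β0_sign : Perm.sign β0 = 1 ∧ Perm.sign f0 = 1 ∧ Perm.sign (β0 * f0) = 1 ∧ Perm.sign c5 = 1 := by
  decide +kernel

theorem F4_sign {π : Perm (Fin 5)} (h : π ∈ F4) : Perm.sign π = 1 := by
  rcases mem_F4.1 h with rfl | rfl | rfl | rfl
  exacts [map_one _, β0_sign.1, β0_sign.2.1, β0_sign.2.2.1]

theorem card_F4 : Nat.card F4 = 4 := by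
  have hF : ∀ π : Perm (Fin 5), π ∈ F4 ↔ π ∈ ({1, β0, f0, β0 * f0} : Finset (Perm (Fin 5))) := fun π => by
    rw [mem_F4]; simp
  rw [Nat.card_congr (Equiv.subtypeEquivRight hF), Nat.card_eq_fintype_card, Fintype.card_coe]
  decide +kernel

/-- two involutions are conjugate by a power of their product, or commute with a common involution power -/
theorem dihedral_cases {G : Type*} [Group G] [Finite G] {x y : G} (hx : x * x = 1) (hy : y * y = 1) :
    (∃ k : ℕ, (x * y) ^ k * x * ((x * y) ^ k)⁻¹ = y) ∨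
      ∃ k : ℕ, (x * y) ^ k ≠ 1 ∧ (x * y) ^ k * (x * y) ^ k = 1 ∧ (x * y) ^ k * x = x * (x * y) ^ k ∧
        (x * y) ^ k * y = y * (x * y) ^ k := by
  set r := x * y with hr
  have hxr : x * r * x = r⁻¹ := by
    rw [hr, mul_inv_rev, inv_eq_of_mul_eq_one_right hx, inv_eq_of_mul_eq_one_right hy, ← mul_assoc, hx, one_mul]
  have hpow : ∀ k : ℕ, x * r ^ k * x = (r ^ k)⁻¹ := fun k => by
    have h : (x * r * x⁻¹) ^ k = x * r ^ k * x⁻¹ := conj_pow
    rw [inv_eq_of_mul_eq_one_right hx] at h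
    rw [← inv_pow, ← hxr, h]
  have hm := pow_orderOf_eq_one r
  rcases Nat.even_or_odd' (orderOf r) with ⟨k, hk | hk⟩
  · refine Or.inr ⟨k, ?_, ?_⟩
    · intro h
      have h1 := orderOf_dvd_of_pow_eq_one h
      have h0 := orderOf_pos r
      have := Nat.le_of_dvd (by omega) h1
      omega
    have h2 : r ^ k * r ^ k = 1 := by rw [← pow_add, ← two_mul, ← hk, hm]
    have hx' : r ^ k * x = x * r ^ k := by
      calc r ^ k * x = (r ^ k)⁻¹ * x := by rw [inv_eq_of_mul_eq_one_right h2]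
        _ = x * r ^ k * (x * x) := by rw [← hpow]; group
        _ = x * r ^ k := by rw [hx, mul_one]
    have hy' : y = x * r := by rw [hr, ← mul_assoc, hx, one_mul]
    exact ⟨h2, hx', by rw [hy']; exact ((show Commute (r ^ k) x from hx').mul_right (Commute.pow_self r k)).eq⟩
  · refine Or.inl ⟨k, ?_⟩
    rw [← hpow, show r ^ k * x * (x * r ^ k * x) = r ^ k * (x * x) * r ^ k * x by group, hx, mul_one,
      ← pow_add, ← two_mul]
    have h1 : r ^ (2 * k) = r⁻¹ := eq_inv_of_mul_eq_one_left (by rw [← pow_succ, ← hk, hm])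
    rw [h1, hr, mul_inv_rev, inv_eq_of_mul_eq_one_right hx, mul_assoc, hx, mul_one,
      inv_eq_of_mul_eq_one_right hy]

namespace Data

variable {G : Type*} [Group G] (d : Data G) [Finite G] (hB : d.β = β0)

/-- the abelian Sylow two-subgroup -/
def S : Subgroup G := ((F4.prod F4).subgroupOf PAR).map (d.Φ hB)

theorem mem_S {x : G} : x ∈ d.S hB ↔ ∃ (π π' : Perm (Fin 5)) (h : Perm.sign π = Perm.sign π'),
    π ∈ F4 ∧ π' ∈ F4 ∧ d.Φ hB (pr π π' h) = x := by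
  constructor
  · rintro ⟨⟨⟨π, π'⟩, h⟩, hp, rfl⟩
    exact ⟨π, π', h, hp.1, hp.2, rfl⟩
  · rintro ⟨π, π', h, h1, h2, rfl⟩
    exact ⟨pr π π' h, mem_subgroupOf.2 (mem_prod.2 ⟨h1, h2⟩), rfl⟩

theorem S_le_N : d.S hB ≤ d.N hB := fun x hx => by
  obtain ⟨π, π', h, h1, -, rfl⟩ := (d.mem_S hB).1 hx
  exact (d.mem_N hB).2 ⟨π, π', h, F4_sign h1, rfl⟩

theorem S_le_M : d.S hB ≤ d.M hB := (d.S_le_N hB).trans (d.N_le_M hB)

theorem card_S : Nat.card (d.S hB) = 16 := by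
  have hle : F4.prod F4 ≤ PAR := fun p hp => mem_PAR.2 ((F4_sign hp.1).trans (F4_sign hp.2).symm)
  rw [S, card_map_of_injective (d.Φ_inj hB), Nat.card_congr (subgroupOfEquivOfLe hle).toEquiv,
    Nat.card_congr (Subgroup.prodEquiv _ _).toEquiv, Nat.card_prod, card_F4]

theorem S_comm {x y : G} (hx : x ∈ d.S hB) (hy : y ∈ d.S hB) : x * y = y * x := by
  obtain ⟨π, π', h, h1, h2, rfl⟩ := (d.mem_S hB).1 hx
  obtain ⟨ρ, ρ', h', h3, h4, rfl⟩ := (d.mem_S hB).1 hy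
  have k : ∀ a ∈ F4, ∀ c ∈ F4, a * c = c * a := fun a ha c hc => by
    have hcomm : β0 * f0 = f0 * β0 := by decide +kernel
    have h1 := mem_centralizer_iff.1 ha β0 (Set.mem_insert _ _)
    have h2 := mem_centralizer_iff.1 ha f0 (Set.mem_insert_of_mem _ rfl)
    rcases mem_F4.1 hc with rfl | rfl | rfl | rfl
    · group
    · exact h1.symm
    · exact h2.symm
    · exact ((show Commute a β0 from h1.symm).mul_right h2.symm).eq
  exact ((d.commute_Φ hB).2 ⟨k _ h1 _ h3, k _ h2 _ h4⟩).eq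

/-- left pairs -/
abbrev L (π : Perm (Fin 5)) (h : π ∈ F4) : G := d.Φ hB (pr π 1 ((F4_sign h).trans (map_one _).symm))
/-- right pairs -/
abbrev R (π : Perm (Fin 5)) (h : π ∈ F4) : G := d.Φ hB (pr 1 π ((map_one _).trans (F4_sign h).symm))

theorem β0_F4 : β0 ∈ F4 := mem_F4.2 (Or.inr (Or.inl rfl))
theorem f0_F4 : f0 ∈ F4 := mem_F4.2 (Or.inr (Or.inr (Or.inl rfl)))

theorem L_β0 : d.L hB β0 β0_F4 = d.v := (d.v_eq hB).symm
theorem R_β0 : d.R hB β0 β0_F4 = d.v' := (d.v'_eq hB).symm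
theorem L_f0 : d.L hB f0 f0_F4 = d.f := d.Φ_left hB f0 _

theorem bLb {π : Perm (Fin 5)} (h : π ∈ F4) : d.b * d.L hB π h * d.b = d.R hB π h := d.bΦ hB _

theorem L_mem {π : Perm (Fin 5)} (h : π ∈ F4) : d.L hB π h ∈ d.S hB :=
  (d.mem_S hB).2 ⟨π, 1, _, h, one_mem _, rfl⟩

theorem R_mem {π : Perm (Fin 5)} (h : π ∈ F4) : d.R hB π h ∈ d.S hB :=
  (d.mem_S hB).2 ⟨1, π, _, one_mem _, h, rfl⟩

theorem L_inj {π ρ : Perm (Fin 5)} {h : π ∈ F4} {h' : ρ ∈ F4} (e : d.L hB π h = d.L hB ρ h') : π = ρ :=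
  congrArg (fun p : PAR => p.1.1) (d.Φ_inj hB e)

theorem L_mul {a c : Perm (Fin 5)} (ha : a ∈ F4) (hc : c ∈ F4) :
    d.L hB (a * c) (mul_mem ha hc) = d.L hB a ha * d.L hB c hc := by
  refine (congrArg (d.Φ hB) ?_).trans (map_mul _ _ _)
  exact Subtype.ext (Prod.ext rfl (one_mul (1 : Perm (Fin 5))).symm)

theorem v_even_conj {π : Perm (Fin 5)} (h : π ∈ F4) (h1 : π ≠ 1) :
    ∃ g, ∃ (hg : Perm.sign g = Perm.sign g), d.Φ hB (pr g g hg) * d.v * (d.Φ hB (pr g g hg))⁻¹ = d.L hB π h ∧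
      d.Φ hB (pr g g hg) ∈ d.N hB := by
  obtain ⟨g, hg, e⟩ := even_invol π (F4_sq h) (F4_sign h) h1
  refine ⟨g, rfl, ?_, (d.mem_N hB).2 ⟨g, g, rfl, hg, rfl⟩⟩
  rw [d.v_eq hB, ← map_inv, ← map_mul, ← map_mul]
  exact congrArg _ (Subtype.ext (Prod.ext e (show g * 1 * g⁻¹ = 1 by group)))

theorem N_conj_H {k x : G} (hk : k ∈ d.H hB) (hx : x ∈ d.N hB) : k * x * k⁻¹ ∈ d.N hB := by
  rw [← d.H_inf_M hB] at hx ⊢
  obtain ⟨h1, h2⟩ := hx
  refine ⟨(mul_mem (mul_mem hk h1) (inv_mem hk) : k * x * k⁻¹ ∈ d.H hB), ?_⟩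
  change d.V hB _ = 1 at h2
  show d.V hB (k * x * k⁻¹) = 1
  rw [map_mul, map_mul, h2, mul_one, map_inv, mul_inv_cancel]

theorem M_conj {k x : G} (hx : x ∈ d.M hB) : k * x * k⁻¹ ∈ d.M hB := by
  change d.V hB x = 1 at hx
  show d.V hB (k * x * k⁻¹) = 1
  rw [map_mul, map_mul, hx, mul_one, map_inv, mul_inv_cancel]

/-- an element normalising `S` sends a left element to a left or right element -/
theorem one_sided {n : G} (hn : ∀ s ∈ d.S hB, n * s * n⁻¹ ∈ d.S hB) {π : Perm (Fin 5)} (h : π ∈ F4) (h1 : π ≠ 1) :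
    (∃ ρ, ∃ hρ : ρ ∈ F4, ρ ≠ 1 ∧ n * d.L hB π h * n⁻¹ = d.L hB ρ hρ) ∨
      ∃ ρ, ∃ hρ : ρ ∈ F4, ρ ≠ 1 ∧ n * d.L hB π h * n⁻¹ = d.R hB ρ hρ := by
  obtain ⟨ρ, ρ', hs, hρ, hρ', e⟩ := (d.mem_S hB).1 (hn _ (d.L_mem hB h))
  by_cases hρ'1 : ρ' = 1
  · subst hρ'1
    refine Or.inl ⟨ρ, hρ, fun hρ1 => ?_, e.symm⟩
    subst hρ1
    have e' : n * d.L hB π h * n⁻¹ = 1 := e.symm.trans (map_one (d.Φ hB))
    have := d.Φ_inj hB ((conj_eq_one_iff.1 e').trans (map_one (d.Φ hB)).symm)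
    exact h1 (congrArg (fun p : PAR => p.1.1) this)
  by_cases hρ1 : ρ = 1
  · subst hρ1
    exact Or.inr ⟨ρ', hρ', hρ'1, e.symm⟩
  exfalso
  obtain ⟨a, ha, ea⟩ := even_invol ρ (F4_sq hρ) (F4_sign hρ) hρ1
  obtain ⟨a', ha', ea'⟩ := even_invol ρ' (F4_sq hρ') (F4_sign hρ') hρ'1
  obtain ⟨g, hg, eg, -⟩ := d.v_even_conj hB h h1
  set k := d.Φ hB (pr a a' (ha.trans ha'.symm)) with hk
  set m := d.Φ hB (pr g g hg) with hm
  have e2 : k * (d.v * d.v') * k⁻¹ = n * d.L hB π h * n⁻¹ := by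
    rw [← e, hk, d.vv'_eq hB, ← map_inv, ← map_mul, ← map_mul]
    exact congrArg _ (Subtype.ext (Prod.ext ea ea'))
  refine d.v_ne_vv' hB (k⁻¹ * n * m) ?_
  calc k⁻¹ * n * m * d.v * (k⁻¹ * n * m)⁻¹ = k⁻¹ * (n * (m * d.v * m⁻¹) * n⁻¹) * k := by group
    _ = k⁻¹ * (k * (d.v * d.v') * k⁻¹) * k := by rw [eg, e2]
    _ = d.v * d.v' := by group

/-- powers of a normalising element of `M` -/
theorem odd_pow_S {n : G} (hnM : n ∈ d.M hB) (hn : ∀ s ∈ d.S hB, n * s * n⁻¹ ∈ d.S hB) :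
    ∃ k : ℕ, n ^ (2 * k + 1) ∈ d.S hB := by
  classical
  haveI : Fact (Nat.Prime 2) := ⟨Nat.prime_two⟩
  set Q := d.M hB ⊓ normalizer (d.S hB : Set G) with hQ
  have hSQ : d.S hB ≤ Q := le_inf (d.S_le_M hB) le_normalizer
  have hnQ : n ∈ Q := by
    refine ⟨hnM, ?_⟩
    show n ∈ normalizer (d.S hB : Set G)
    rw [mem_normalizer_iff_map_conj_eq]
    refine eq_of_le_of_card_ge ?_ (by rw [card_map_of_injective (MulAut.conj n).injective])
    rintro _ ⟨s, hs, rfl⟩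
    exact hn s hs
  haveI : ((d.S hB).subgroupOf Q).Normal := ⟨fun s hs g => by
    rw [mem_subgroupOf] at hs ⊢
    exact (mem_normalizer_iff.1 g.2.2 _).1 hs⟩
  have hidx : Odd ((d.S hB).subgroupOf Q).index := by
    have h1 : (d.S hB).relIndex Q ∣ (d.S hB).relIndex (d.M hB) := by
      rw [← relIndex_mul_relIndex (d.S hB) Q (d.M hB) hSQ inf_le_left]
      exact dvd_mul_right _ _
    refine Odd.of_dvd_nat ?_ h1
    rw [← relIndex_mul_relIndex (d.S hB) (d.N hB) (d.M hB) (d.S_le_N hB) (d.N_le_M hB)]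
    refine Odd.mul ?_ (d.N_odd hB)
    have := relIndex_mul_relIndex ⊥ (d.S hB) (d.N hB) bot_le (d.S_le_N hB)
    rw [relIndex_bot_left, relIndex_bot_left, d.card_S hB, d.card_N hB] at this
    exact ⟨112, by omega⟩
  obtain ⟨k, hk⟩ := hidx
  exact ⟨k, by
    have := pow_index_mem ((d.S hB).subgroupOf Q) ⟨n, hnQ⟩
    rw [hk, mem_subgroupOf] at this
    exact this⟩

/-- the normaliser of `S` in `M` preserves the two sides -/
theorem preserve {n : G} (hnM : n ∈ d.M hB) (hn : ∀ s ∈ d.S hB, n * s * n⁻¹ ∈ d.S hB) {π : Perm (Fin 5)}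
    (h : π ∈ F4) : ∃ ρ, ∃ hρ : ρ ∈ F4, n * d.L hB π h * n⁻¹ = d.L hB ρ hρ := by
  by_cases h1 : π = 1
  · subst h1
    refine ⟨1, h, ?_⟩
    rw [show d.L hB 1 h = 1 from map_one (d.Φ hB), mul_one, mul_inv_cancel]
  refine (d.one_sided hB hn h h1).elim (fun ⟨ρ, hρ, _, e⟩ => ⟨ρ, hρ, e⟩) fun ⟨ρ, hρ, hρ1, e⟩ => ?_
  exfalso
  -- all of the left side goes to the right side
  have hall : ∀ σ, ∀ hσ : σ ∈ F4, σ ≠ 1 → ∃ ν, ∃ hν : ν ∈ F4, ν ≠ 1 ∧ n * d.L hB σ hσ * n⁻¹ = d.R hB ν hν := by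
    intro σ hσ hσ1
    refine (d.one_sided hB hn hσ hσ1).resolve_left fun ⟨ν, hν, hν1, e'⟩ => ?_
    have hne : π * σ ≠ 1 := fun hps => by
      have hsp : σ = π := by
        rw [← one_mul σ, ← F4_sq h, mul_assoc, hps, mul_one]
      subst hsp
      have := d.Φ_inj hB (e.symm.trans e')
      exact hν1 (congrArg (fun p : PAR => p.1.1) this).symm
    have hmix : n * d.L hB (π * σ) (mul_mem h hσ) * n⁻¹ = d.Φ hB (pr ν ρ ((F4_sign hν).trans (F4_sign hρ).symm)) := by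
      rw [d.L_mul hB h hσ,
        ← conj_mul, e, e', ← map_mul]
      exact congrArg _ (Subtype.ext (Prod.ext (one_mul ν) (mul_one ρ)))
    rcases d.one_sided hB hn (mul_mem h hσ) hne with ⟨a, ha, -, ea⟩ | ⟨a, ha, -, ea⟩ <;> rw [hmix] at ea
    · exact hρ1 (congrArg (fun p : PAR => p.1.2) (d.Φ_inj hB ea))
    · exact hν1 (congrArg (fun p : PAR => p.1.1) (d.Φ_inj hB ea))
  -- the right side does not stay
  have hsurj : ∀ ν, ∀ hν : ν ∈ F4, ν ≠ 1 → ∃ σ, ∃ hσ : σ ∈ F4, σ ≠ 1 ∧ n * d.L hB σ hσ * n⁻¹ = d.R hB ν hν := by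
    let F : {σ : F4 // σ ≠ 1} → {σ : F4 // σ ≠ 1} := fun σ =>
      ⟨⟨(hall σ.1 σ.1.2 (fun e => σ.2 (Subtype.ext e))).choose,
        (hall σ.1 σ.1.2 (fun e => σ.2 (Subtype.ext e))).choose_spec.choose⟩,
        fun e => (hall σ.1 σ.1.2 (fun e => σ.2 (Subtype.ext e))).choose_spec.choose_spec.1 (congrArg Subtype.val e)⟩
    have hF : ∀ σ, n * d.L hB σ.1 σ.1.2 * n⁻¹ = d.R hB (F σ).1 (F σ).1.2 := fun σ =>
      (hall σ.1 σ.1.2 (fun e => σ.2 (Subtype.ext e))).choose_spec.choose_spec.2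
    have hinj : Function.Injective F := fun σ σ' e' => by
      have h2 := hF σ
      rw [e', ← hF σ'] at h2
      exact Subtype.ext (Subtype.ext (d.L_inj hB (mul_left_cancel (mul_right_cancel h2))))
    intro ν hν hν1
    obtain ⟨σ, hσ⟩ := (Finite.injective_iff_surjective.1 hinj) ⟨⟨ν, hν⟩, fun e => hν1 (congrArg Subtype.val e)⟩
    refine ⟨σ.1, σ.1.2, fun e => σ.2 (Subtype.ext e), ?_⟩
    rw [hF σ, hσ]
  obtain ⟨k, hk⟩ := d.odd_pow_S hB hnM hn
  have hsq : ∀ j : ℕ, ∀ σ, ∀ hσ : σ ∈ F4, σ ≠ 1 → ∃ ν, ∃ hν : ν ∈ F4, ν ≠ 1 ∧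
      n ^ (2 * j) * d.L hB σ hσ * (n ^ (2 * j))⁻¹ = d.L hB ν hν := by
    intro j
    induction j with
    | zero => exact fun σ hσ hσ1 => ⟨σ, hσ, hσ1, by simp⟩
    | succ j ih =>
      intro σ hσ hσ1
      obtain ⟨ν, hν, hν1, eν⟩ := ih σ hσ hσ1
      obtain ⟨α, hα, hα1, eα⟩ := hall ν hν hν1
      -- the image of the right element
      obtain ⟨s, s', hs, hs1, hs2, es⟩ := (d.mem_S hB).1 (hn _ (d.R_mem hB hα))
      have hs' : s' = 1 := by
        by_contra hne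
        obtain ⟨γ, hγ, hγ1, eγ⟩ := hsurj s' hs2 hne
        by_cases hs0 : s = 1
        · subst hs0
          have := mul_left_cancel (mul_right_cancel (eγ.trans es))
          exact hγ1 (congrArg (fun p : PAR => p.1.1) (d.Φ_inj hB this))
        · -- mixed
          obtain ⟨a, ha, ea⟩ := even_invol s (F4_sq hs1) (F4_sign hs1) hs0
          obtain ⟨a', ha', ea'⟩ := even_invol s' (F4_sq hs2) (F4_sign hs2) hne
          obtain ⟨g, hg, eg, -⟩ := d.v_even_conj hB hα hα1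
          set K := d.Φ hB (pr a a' (ha.trans ha'.symm)) with hK
          set m := d.Φ hB (pr g g hg) with hm
          have e2 : K * (d.v * d.v') * K⁻¹ = n * d.R hB α hα * n⁻¹ := by
            rw [← es, hK, d.vv'_eq hB, ← map_inv, ← map_mul, ← map_mul]
            exact congrArg _ (Subtype.ext (Prod.ext ea ea'))
          refine d.v_ne_vv' hB (K⁻¹ * n * d.b * m) ?_
          calc K⁻¹ * n * d.b * m * d.v * (K⁻¹ * n * d.b * m)⁻¹
              = K⁻¹ * (n * (d.b * (m * d.v * m⁻¹) * d.b⁻¹) * n⁻¹) * K := by group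
            _ = K⁻¹ * (K * (d.v * d.v') * K⁻¹) * K := by rw [eg, d.bi, d.bLb hB, e2]
            _ = d.v * d.v' := by group
      subst hs'
      refine ⟨s, hs1, fun hs0 => ?_, ?_⟩
      · subst hs0
        have e' : n * d.R hB α hα * n⁻¹ = 1 := es.symm.trans (map_one (d.Φ hB))
        have := d.Φ_inj hB ((conj_eq_one_iff.1 e').trans (map_one (d.Φ hB)).symm)
        exact hα1 (congrArg (fun p : PAR => p.1.2) this)
      rw [show 2 * (j + 1) = 1 + 1 + 2 * j by ring, pow_add, pow_add, pow_one,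
        show n * n * n ^ (2 * j) * d.L hB σ hσ * (n * n * n ^ (2 * j))⁻¹ =
          n * (n * (n ^ (2 * j) * d.L hB σ hσ * (n ^ (2 * j))⁻¹) * n⁻¹) * n⁻¹ by group, eν, eα]
      exact es.symm
  obtain ⟨ν, hν, hν1, eν⟩ := hsq k π h h1
  obtain ⟨α, hα, hα1, eα⟩ := hall ν hν hν1
  have h2 : n ^ (2 * k + 1) * d.L hB π h * (n ^ (2 * k + 1))⁻¹ = d.L hB π h := by
    rw [d.S_comm hB hk (d.L_mem hB h), mul_inv_cancel_right]
  rw [pow_succ', show n * n ^ (2 * k) * d.L hB π h * (n * n ^ (2 * k))⁻¹ =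
    n * (n ^ (2 * k) * d.L hB π h * (n ^ (2 * k))⁻¹) * n⁻¹ by group, eν, eα] at h2
  exact h1 (congrArg (fun p : PAR => p.1.1) (d.Φ_inj hB h2)).symm

theorem preserve_R {n : G} (hnM : n ∈ d.M hB) (hn : ∀ s ∈ d.S hB, n * s * n⁻¹ ∈ d.S hB) {π : Perm (Fin 5)}
    (h : π ∈ F4) : ∃ ρ, ∃ hρ : ρ ∈ F4, n * d.R hB π h * n⁻¹ = d.R hB ρ hρ := by
  have hbS : ∀ s ∈ d.S hB, d.b * s * d.b ∈ d.S hB := fun s hs => by
    obtain ⟨a, c, hh, h1, h2, rfl⟩ := (d.mem_S hB).1 hs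
    exact (d.mem_S hB).2 ⟨c, a, hh.symm, h2, h1, (d.bΦ hB hh).symm⟩
  have hn' : ∀ s ∈ d.S hB, d.b * n * d.b * s * (d.b * n * d.b)⁻¹ ∈ d.S hB := fun s hs => by
    rw [show d.b * n * d.b * s * (d.b * n * d.b)⁻¹ = d.b * (n * (d.b * s * d.b⁻¹) * n⁻¹) * d.b⁻¹ by group, d.bi]
    exact hbS _ (hn _ (hbS s hs))
  obtain ⟨ρ, hρ, e⟩ := d.preserve hB (n := d.b * n * d.b) (by
    have := d.M_conj hB (k := d.b) hnM; rwa [d.bi] at this) hn' h
  refine ⟨ρ, hρ, ?_⟩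
  rw [← d.bLb hB h, ← d.bLb hB hρ, ← e]
  calc n * (d.b * d.L hB π h * d.b) * n⁻¹
      = (d.b * d.b) * n * (d.b * d.L hB π h * d.b) * n⁻¹ * (d.b * d.b) := by rw [d.hb]; group
    _ = _ := by simp [d.bi, mul_assoc]

/-- fixing one element of the left side fixes all -/
theorem fix_left {n : G} (hnM : n ∈ d.M hB) (hn : ∀ s ∈ d.S hB, n * s * n⁻¹ ∈ d.S hB) (hv : n * d.v * n⁻¹ = d.v)
    {π : Perm (Fin 5)} (h : π ∈ F4) : n * d.L hB π h * n⁻¹ = d.L hB π h := by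
  have hv' : n * d.L hB β0 β0_F4 * n⁻¹ = d.L hB β0 β0_F4 := by rw [d.L_β0 hB]; exact hv
  have hLmul : ∀ a c, ∀ ha : a ∈ F4, ∀ hc : c ∈ F4, d.L hB (a * c) (mul_mem ha hc) = d.L hB a ha * d.L hB c hc := by
    exact fun a c ha hc => d.L_mul hB ha hc
  obtain ⟨ρ, hρ, e⟩ := d.preserve hB hnM hn f0_F4
  have hf : n * d.L hB f0 f0_F4 * n⁻¹ = d.L hB f0 f0_F4 := by
    rcases mem_F4.1 hρ with r | r | r | r <;> subst r
    · exfalso
      have := d.Φ_inj hB ((conj_eq_one_iff.1 (e.trans (map_one (d.Φ hB)))).trans (map_one (d.Φ hB)).symm)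
      exact absurd (congrArg (fun p : PAR => p.1.1) this) (by decide +kernel)
    · exfalso
      exact absurd (d.L_inj hB (mul_left_cancel (mul_right_cancel (e.trans hv'.symm)))) (by decide +kernel)
    · exact e
    · exfalso
      obtain ⟨k, hk⟩ := d.odd_pow_S hB hnM hn
      have h2 : n ^ 2 * d.L hB f0 f0_F4 * (n ^ 2)⁻¹ = d.L hB f0 f0_F4 := by
        rw [pow_two, show n * n * d.L hB f0 f0_F4 * (n * n)⁻¹ = n * (n * d.L hB f0 f0_F4 * n⁻¹) * n⁻¹ by group, e,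
          hLmul β0 f0 β0_F4 f0_F4, ← conj_mul, hv', e, hLmul β0 f0 β0_F4 f0_F4, ← mul_assoc]
        have hvv : d.L hB β0 β0_F4 * d.L hB β0 β0_F4 = 1 := by rw [d.L_β0 hB, d.vv]
        rw [hvv, one_mul]
      have hc : Commute (n ^ 2) (d.L hB f0 f0_F4) := mul_inv_eq_iff_eq_mul.1 h2
      have hck : Commute ((n ^ 2) ^ k) (d.L hB f0 f0_F4) := hc.pow_left k
      have h3 : n ^ (2 * k + 1) * d.L hB f0 f0_F4 * (n ^ (2 * k + 1))⁻¹ = d.L hB f0 f0_F4 := by
        rw [d.S_comm hB hk (d.L_mem hB f0_F4), mul_inv_cancel_right]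
      rw [pow_succ', pow_mul, show n * (n ^ 2) ^ k * d.L hB f0 f0_F4 * (n * (n ^ 2) ^ k)⁻¹ =
        n * ((n ^ 2) ^ k * d.L hB f0 f0_F4 * ((n ^ 2) ^ k)⁻¹) * n⁻¹ by group, hck.eq, mul_inv_cancel_right, e] at h3
      exact absurd (d.L_inj hB h3) (by decide +kernel)
  rcases mem_F4.1 h with r | r | r | r <;> subst r
  · rw [show d.L hB 1 h = 1 from map_one (d.Φ hB), mul_one, mul_inv_cancel]
  · exact hv'
  · exact hf
  · rw [hLmul β0 f0 β0_F4 f0_F4, ← conj_mul, hv', hf]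

theorem sylIn_S {Y : Subgroup G} (hSY : d.S hB ≤ Y) (hYM : Y ≤ d.M hB) :
    Fusion.SylIn 2 ((d.S hB).subgroupOf Y) (⊤ : Subgroup Y) := by
  refine ⟨le_top, ?_, ?_⟩
  · exact IsPGroup.of_card (n := 4) (by rw [Nat.card_congr (subgroupOfEquivOfLe hSY).toEquiv, d.card_S hB]; rfl)
  · rw [relIndex_top_right]
    intro h2
    have h1 : (d.S hB).relIndex Y ∣ (d.S hB).relIndex (d.M hB) := by
      rw [← relIndex_mul_relIndex (d.S hB) Y (d.M hB) hSY hYM]
      exact dvd_mul_right _ _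
    have hodd : Odd ((d.S hB).relIndex (d.M hB)) := by
      rw [← relIndex_mul_relIndex (d.S hB) (d.N hB) (d.M hB) (d.S_le_N hB) (d.N_le_M hB)]
      refine Odd.mul ?_ (d.N_odd hB)
      have := relIndex_mul_relIndex ⊥ (d.S hB) (d.N hB) bot_le (d.S_le_N hB)
      rw [relIndex_bot_left, relIndex_bot_left, d.card_S hB, d.card_N hB] at this
      exact ⟨112, by omega⟩
    have := h2.trans h1
    rw [Nat.odd_iff] at hodd
    omega

theorem S_fusion {Y : Subgroup G} (hSY : d.S hB ≤ Y) (hYM : Y ≤ d.M hB) {x g : G} (hx : x ∈ d.S hB) (hg : g ∈ Y)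
    (hxg : g * x * g⁻¹ ∈ d.S hB) :
    ∃ n ∈ Y, (∀ s ∈ d.S hB, n * s * n⁻¹ ∈ d.S hB) ∧ n * x * n⁻¹ = g * x * g⁻¹ := by
  haveI : Fact (Nat.Prime 2) := ⟨Nat.prime_two⟩
  have hab : (d.S hB).subgroupOf Y ≤ centralizer ((d.S hB).subgroupOf Y : Set Y) := fun a ha =>
    mem_centralizer_iff.2 fun c hc => Subtype.ext (d.S_comm hB hc ha)
  obtain ⟨n, hn, e⟩ := Fusion.fusion_of_abelian (d.sylIn_S hB hSY hYM) hab (x := ⟨x, hSY hx⟩) (g := ⟨g, hg⟩) hx hxg
  exact ⟨n, n.2, fun s hs => (mem_normalizer_iff.1 hn ⟨s, hSY hs⟩).1 hs, congrArg Subtype.val e⟩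

include hB in
theorem v_ne_v'_M {g : G} (hg : g ∈ d.M hB) : g * d.v * g⁻¹ ≠ d.v' := by
  intro e
  obtain ⟨n, hnM, hn, en⟩ := d.S_fusion hB (d.S_le_M hB) le_rfl (x := d.v) (g := g)
    (d.L_β0 hB ▸ d.L_mem hB β0_F4) hg (by rw [e]; exact d.R_β0 hB ▸ d.R_mem hB β0_F4)
  obtain ⟨ρ, hρ, eρ⟩ := d.preserve hB hnM hn β0_F4
  rw [d.L_β0 hB, en, e, ← d.R_β0 hB] at eρ
  have h2 := congrArg (fun p : PAR => p.1.2) (d.Φ_inj hB eρ)
  change β0 = (1 : Perm (Fin 5)) at h2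
  exact absurd h2 (by decide +kernel)

theorem cent_v_le {g : G} (hgM : g ∈ d.M hB) (hgv : g * d.v = d.v * g) : g ∈ d.N hB := by
  classical
  haveI : Fact (Nat.Prime 2) := ⟨Nat.prime_two⟩
  haveI : Fact (Nat.Prime 3) := ⟨Nat.prime_three⟩
  haveI : Fact (Nat.Prime 5) := ⟨Nat.prime_five⟩
  set Y := d.M hB ⊓ centralizer ({d.v} : Set G) with hY
  have hSY : d.S hB ≤ Y := le_inf (d.S_le_M hB) fun s hs =>
    mem_centralizer_singleton_iff.2 (by rw [← d.L_β0 hB]; exact d.S_comm hB hs (d.L_mem hB β0_F4))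
  have hsyl := d.sylIn_S hB hSY inf_le_left
  set SY := (d.S hB).subgroupOf Y with hSYdef
  letI : CommGroup F4 := { (inferInstance : Group F4) with
    mul_comm := fun a c => Subtype.ext (by
      have := d.S_comm hB (d.L_mem hB a.2) (d.L_mem hB c.2)
      exact congrArg (fun p : PAR => p.1.1) (d.Φ_inj hB ((map_mul _ _ _).trans (this.trans (map_mul _ _ _).symm)))) }
  let p1 : d.KH hB →* Perm (Fin 5) :=
    ((MonoidHom.fst _ _).comp PAR.subtype).comp (MonoidHom.ofInjective (d.Φ_inj hB)).symm.toMonoidHom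
  have hp1 : ∀ (p : PAR) (h : d.Φ hB p ∈ d.KH hB), p1 ⟨_, h⟩ = p.1.1 := fun p h => by
    show ((MonoidHom.ofInjective (d.Φ_inj hB)).symm ⟨d.Φ hB p, h⟩).1.1 = p.1.1
    congr
    rw [MulEquiv.symm_apply_eq]
    rfl
  have hSK : d.S hB ≤ d.KH hB := fun x hx => by
    obtain ⟨π, π', h, -, -, rfl⟩ := (d.mem_S hB).1 hx
    exact ⟨_, rfl⟩
  let ϕ : SY →* F4 := ((p1.comp ((Subgroup.inclusion hSK).comp
    (subgroupOfEquivOfLe hSY).toMonoidHom))).codRestrict F4 fun s => by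
      obtain ⟨π, π', h, h1, -, e⟩ := (d.mem_S hB).1 (mem_subgroupOf.1 s.2)
      exact ((congrArg p1 (show (⟨((s : Y) : G), hSK (mem_subgroupOf.1 s.2)⟩ : d.KH hB) =
        ⟨d.Φ hB (pr π π' h), ⟨_, rfl⟩⟩ from Subtype.ext e.symm)).trans (hp1 _ _)).symm ▸ h1
  have hϕ : ∀ (π π' : Perm (Fin 5)) (h : Perm.sign π = Perm.sign π') (hm : (d.Φ hB (pr π π' h)) ∈ Y)
      (hs : (⟨_, hm⟩ : Y) ∈ SY), (ϕ ⟨⟨_, hm⟩, hs⟩ : Perm (Fin 5)) = π := fun π π' h hm hs => hp1 _ _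
  have hctrl : ∀ s : Y, ∀ hs : s ∈ SY, ∀ (a : Y) (ha : a⁻¹ * s * a ∈ SY), ϕ ⟨_, ha⟩ = ϕ ⟨s, hs⟩ := by
    intro s hs a ha
    obtain ⟨n, hnY, hn, e⟩ := d.S_fusion hB hSY inf_le_left (x := (s : G)) (g := ((a⁻¹ : Y) : G))
      (mem_subgroupOf.1 hs) (a⁻¹).2 (by
        have := mem_subgroupOf.1 ha
        simpa using this)
    have e : n * (s : G) * n⁻¹ = (a : G)⁻¹ * s * a := by simpa using e
    obtain ⟨π, π', h, h1, h2, es⟩ := (d.mem_S hB).1 (mem_subgroupOf.1 hs)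
    have hnv : n * d.v * n⁻¹ = d.v := by
      rw [mem_centralizer_singleton_iff.1 hnY.2, mul_inv_cancel_right]
    have hfix := d.fix_left hB hnY.1 hn hnv h1
    obtain ⟨ρ, hρ, hR⟩ := d.preserve_R hB hnY.1 hn h2
    have hsplit : ∀ a c, ∀ ha : a ∈ F4, ∀ hc : c ∈ F4, d.Φ hB (pr a c ((F4_sign ha).trans (F4_sign hc).symm)) =
        d.L hB a ha * d.R hB c hc := fun a c ha hc => by
      rw [← map_mul]; exact congrArg _ (Subtype.ext (Prod.ext (mul_one a).symm (one_mul c).symm))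
    have e' : ((a⁻¹ * s * a : Y) : G) = d.Φ hB (pr π ρ ((F4_sign h1).trans (F4_sign hρ).symm)) := by
      show (a : G)⁻¹ * s * a = _
      rw [← e, hsplit π ρ h1 hρ, ← es, show d.Φ hB (pr π π' h) = d.L hB π h1 * d.R hB π' h2 from
        (hsplit π π' h1 h2), ← conj_mul, hfix, hR]
    apply Subtype.ext
    show p1 _ = p1 _
    rw [show ((Subgroup.inclusion hSK).comp (subgroupOfEquivOfLe hSY).toMonoidHom) ⟨a⁻¹ * s * a, ha⟩ =
      ⟨d.Φ hB (pr π ρ ((F4_sign h1).trans (F4_sign hρ).symm)), ⟨_, rfl⟩⟩ from Subtype.ext e',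
      show ((Subgroup.inclusion hSK).comp (subgroupOfEquivOfLe hSY).toMonoidHom) ⟨s, hs⟩ =
        ⟨d.Φ hB (pr π π' h), ⟨_, rfl⟩⟩ from Subtype.ext es.symm]
    exact (hp1 (pr π ρ ((F4_sign h1).trans (F4_sign hρ).symm)) ⟨_, rfl⟩).trans (hp1 (pr π π' h) ⟨_, rfl⟩).symm
  have hidx : Odd SY.index := by
    have h := hsyl.not_dvd
    rw [relIndex_top_right] at h
    rw [Nat.odd_iff]; omega
  set T := MonoidHom.transfer ϕ with hT
  have hT2 : ∀ u : F4, u * u = 1 := fun u => Subtype.ext (F4_sq u.2)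
  have hTS : ∀ s : Y, ∀ hs : s ∈ SY, T s = ϕ ⟨s, hs⟩ := by
    intro s hs
    rw [hT, Fusion.transfer_eq_map_pow ϕ s hs]
    · obtain ⟨k, hk⟩ := hidx
      rw [hk, pow_succ, pow_mul, pow_two, hT2, one_pow, one_mul]
    · intro m a ha
      have hsm : s ^ m ∈ SY := pow_mem hs m
      rw [hctrl (s ^ m) hsm a ha, ← map_pow]
      rfl
  set Y2 := T.ker with hY2
  have hYdec : ∀ y : Y, ∃ s ∈ SY, y * s⁻¹ ∈ Y2 := by
    intro y
    have hm : d.L hB (T y : Perm (Fin 5)) (T y).2 ∈ Y := hSY (d.L_mem hB (T y).2)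
    have hs : (⟨_, hm⟩ : Y) ∈ SY := d.L_mem hB (T y).2
    refine ⟨⟨_, hm⟩, hs, ?_⟩
    rw [hY2, MonoidHom.mem_ker, map_mul, map_inv, hTS _ hs,
      show ϕ ⟨⟨_, hm⟩, hs⟩ = T y from Subtype.ext (hϕ _ _ _ hm hs), mul_inv_cancel]
  -- the second factor
  have hψY : ∀ a, Perm.sign a = 1 → d.ψ a ∈ Y := fun a ha => by
    have h1 : Perm.sign (1 : Perm (Fin 5)) = Perm.sign a := by rw [map_one, ha]
    refine ⟨?_, mem_centralizer_singleton_iff.2 (d.commute_alt hB β0_sign.1 ha).symm.eq⟩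
    rw [← d.Φ_right hB a h1]
    exact d.N_le_M hB ((d.mem_N hB).2 ⟨1, a, h1, map_one _, rfl⟩)
  let ι : alternatingGroup (Fin 5) →* Y :=
    (d.ψ.comp (alternatingGroup (Fin 5)).subtype).codRestrict Y fun a => hψY a (Perm.mem_alternatingGroup.1 a.2)
  have hι : ∀ a, ι a ∈ Y2 := by
    intro a
    have h3 : ∀ c : alternatingGroup (Fin 5), c * c * c = 1 → T (ι c) = 1 := fun c hc => by
      have h := congrArg (fun q => T (ι q)) hc
      simp only [map_mul, map_one] at h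
      rwa [hT2, one_mul] at h
    set K := (T.comp ι).ker.map (alternatingGroup (Fin 5)).subtype with hK
    have hmem : ∀ (c : Perm (Fin 5)) (hc : Perm.sign c = 1), c * c * c = 1 → c ∈ K := fun c hc hc3 =>
      ⟨⟨c, Perm.mem_alternatingGroup.2 hc⟩, h3 _ (Subtype.ext hc3), rfl⟩
    obtain ⟨e, he, he3, hef⟩ := alt_f0
    have hf : f0 ∈ K := by
      have := mul_mem (inv_mem (hmem e he he3)) (hmem (e * f0) (by rw [map_mul, he, β0_sign.2.1, mul_one]) hef)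
      rwa [inv_mul_cancel_left] at this
    obtain ⟨q, hq, hqe⟩ := alt_gen (K := K) (hmem c5 β0_sign.2.2.2 (by decide +kernel)) hf
      (Perm.mem_alternatingGroup.1 a.2)
    rw [show a = q from Subtype.ext hqe.symm]
    exact hq
  have hιinj : Function.Injective ι := fun a c e =>
    Subtype.ext (d.ψ_inj (congrArg Subtype.val e))
  let ι2 : alternatingGroup (Fin 5) →* Y2 := ι.codRestrict Y2 hι
  have hι2inj : Function.Injective ι2 := fun a c e => hιinj (congrArg Subtype.val e)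
  let Z : Y2 := ι2 ⟨c5, Perm.mem_alternatingGroup.2 β0_sign.2.2.2⟩
  have hZv : ((Z : Y) : G) = d.z := d.ψ_c5
  have hZ1 : Z ≠ 1 := fun e => absurd (congrArg Subtype.val (hι2inj (e.trans (map_one ι2).symm))) (by decide +kernel)
  set X := zpowers Z with hX
  have hXc : Nat.card X = 3 := by
    rw [hX, Nat.card_zpowers]
    refine orderOf_eq_prime ?_ hZ1
    rw [← map_pow, show (⟨c5, Perm.mem_alternatingGroup.2 β0_sign.2.2.2⟩ : alternatingGroup (Fin 5)) ^ 3 = 1 from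
      Subtype.ext (by rw [SubmonoidClass.coe_pow]; exact c5_pow), map_one]
  have hXC : centralizer (X : Set Y2) = X := by
    refine le_antisymm (fun q hq => ?_) fun q hq => ?_
    · have hz : Commute ((q : Y) : G) d.z := by
        have := mem_centralizer_iff.1 hq Z (mem_zpowers _)
        rw [← hZv]
        exact (congrArg (fun w : Y2 => ((w : Y) : G)) this).symm
      obtain ⟨⟨σ, π⟩, e, hσ⟩ := d.cent_z hz.eq
      have hN : ((q : Y) : G) ∈ d.N hB := by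
        rw [← d.H_inf_M hB]; exact ⟨e ▸ le_extInv (d.φ_KH hB ⟨_, rfl⟩), (q : Y).2.1⟩
      have hπβ : π * β0 = β0 * π := congrArg Prod.snd (d.inj (show d.φ ((σ, π) * (1, β0)) = d.φ ((1, β0) * (σ, π)) by
        rw [map_mul, map_mul, e]; exact mem_centralizer_singleton_iff.1 (q : Y).2.2))
      -- write the element as a power of `z` times a left element
      obtain ⟨i, hi⟩ : ∃ i : Fin 3, σ = c3 ^ i.val := by
        rcases cent_c3 σ (congrArg Prod.fst hσ) with h | h | h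
        exacts [⟨0, by rw [h]; rfl⟩, ⟨1, by rw [h]; rfl⟩, ⟨2, by rw [h, show ((2 : Fin 3) : ℕ) = 2 from rfl, pow_two]⟩]
      obtain ⟨a, a', ha, has, ea⟩ := (d.mem_N hB).1 hN
      have hsg : (1 : ℤˣ) = Perm.sign π := by
        have e1 : d.φ (σ, π) = d.z ^ i.val * d.φ (1, π) := by
          rw [z, ← map_pow, ← map_mul]; exact congrArg d.φ (Prod.ext (by simp [hi]) (by simp))
        have hzp : d.z = d.Φ hB (pr 1 c5 ((map_one _).trans β0_sign.2.2.2.symm)) := by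
          rw [pr, d.Φ_right hB, ψ_c5]
        rw [← e, e1, hzp, ← d.Φ_sec hB π (mem_PAR.2 (sign_sg π).symm), ← map_pow, ← map_mul] at ea
        have := congrArg (fun p : PAR => p.1.1) (d.Φ_inj hB ea)
        change a = ((1 : Perm (Fin 5)) ^ i.val) * π at this
        rw [one_pow, one_mul] at this
        rw [← this, has]
      have hπF : π ∈ F4 := mem_F4.2 (alt_cent_beta π hsg.symm hπβ)
      have hm : d.L hB π hπF ∈ Y := hSY (d.L_mem hB hπF)
      have hL : d.L hB π hπF = d.φ (1, π) := d.Φ_left hB π _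
      have eY : (q : Y) = (Z : Y) ^ i.val * ⟨_, hm⟩ := Subtype.ext (by
        rw [Subgroup.coe_mul, SubgroupClass.coe_pow, hZv]
        show ((q : Y) : G) = d.z ^ i.val * d.L hB π hπF
        rw [hL, ← e, z, ← map_pow, ← map_mul]
        exact congrArg d.φ (Prod.ext (by simp [hi]) (by simp)))
      have hs : (⟨_, hm⟩ : Y) ∈ SY := d.L_mem hB hπF
      have h1 : T (q : Y) = 1 := q.2
      rw [eY, map_mul, map_pow, show T (Z : Y) = 1 from Z.2, one_pow, one_mul, hTS _ hs] at h1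
      have hπ1 : π = 1 := (hϕ π 1 _ hm hs).symm.trans (congrArg Subtype.val h1)
      have hq' : q = Z ^ i.val := by
        refine Subtype.ext (eY.trans ?_)
        rw [show (⟨_, hm⟩ : Y) = 1 from Subtype.ext (by
          show d.L hB π hπF = 1
          rw [hL, hπ1]; exact map_one d.φ), mul_one]
        rfl
      rw [hq']
      exact pow_mem (mem_zpowers _) _
    · obtain ⟨k, rfl⟩ := mem_zpowers_iff.1 hq
      refine mem_centralizer_iff.2 fun w hw => ?_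
      obtain ⟨l, rfl⟩ := mem_zpowers_iff.1 hw
      exact (Commute.zpow_zpow (Commute.refl _) _ _).eq
  have hcard60 : Nat.card (alternatingGroup (Fin 5)) = 60 := by
    rw [nat_card_alternatingGroup, Nat.card_fin]; rfl
  have h60 : 60 ∣ Nat.card Y2 := by
    rw [← hcard60]
    exact card_dvd_of_injective ι2 hι2inj
  have h8 : ¬ 8 ∣ Nat.card Y2 := by
    intro h8
    have hTsurj : Function.Surjective T := fun u => by
      have hm : d.L hB (u : Perm (Fin 5)) u.2 ∈ Y := hSY (d.L_mem hB u.2)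
      have hs : (⟨_, hm⟩ : Y) ∈ SY := d.L_mem hB u.2
      exact ⟨⟨_, hm⟩, (hTS _ hs).trans (Subtype.ext (hϕ (u : Perm (Fin 5)) 1 _ hm hs))⟩
    have h1 := Y2.card_mul_index
    rw [hY2, index_ker, MonoidHom.range_eq_top.2 hTsurj, card_top, card_F4] at h1
    have h32 : 2 ^ 5 ∣ Nat.card SY * SY.index := by
      rw [Subgroup.card_mul_index, ← h1, show (2 : ℕ) ^ 5 = 8 * 4 from rfl]
      exact mul_dvd_mul_right h8 4
    rw [hSYdef, Nat.card_congr (subgroupOfEquivOfLe hSY).toEquiv, d.card_S hB] at h32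
    obtain ⟨k, hk⟩ := hidx
    rw [hSYdef] at hk
    rw [hk] at h32
    omega
  rcases S3331.result X hXc hXC with ⟨N', hN', -, hco, hq⟩ | ⟨N', hN', -, hN2, ⟨e⟩⟩ | ⟨⟨e⟩⟩
  · exfalso
    haveI := hN'
    have h6 : Nat.card (Y2 ⧸ N') ∣ 6 := by
      rcases hq with h | ⟨⟨e⟩⟩
      · rw [h]; norm_num
      · rw [Nat.card_congr e.toEquiv, Nat.card_perm, Nat.card_fin]; rfl
    have hkill : ∀ a : Y2, a ^ 5 = 1 → a ∈ N' := fun a ha => by
      rw [← QuotientGroup.eq_one_iff, ← orderOf_eq_one_iff]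
      exact Nat.eq_one_of_dvd_coprimes (show Nat.Coprime 5 6 by decide)
        (orderOf_dvd_of_pow_eq_one (by rw [← QuotientGroup.mk_pow, ha]; rfl)) ((_root_.orderOf_dvd_natCard _).trans h6)
    obtain ⟨a, ha, ha5, hac⟩ := c5_five
    have h1 := hkill (ι2 ⟨a, Perm.mem_alternatingGroup.2 ha⟩) (by rw [← map_pow, ← map_one ι2]; congr 1; exact Subtype.ext ha5)
    have h2 := hkill (ι2 ⟨a * c5, Perm.mem_alternatingGroup.2 (by rw [map_mul, ha, β0_sign.2.2.2, mul_one])⟩)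
      (by rw [← map_pow, ← map_one ι2]; congr 1; exact Subtype.ext hac)
    have hZN : Z ∈ N' := by
      have := mul_mem (inv_mem h1) h2
      rw [← map_inv, ← map_mul] at this
      convert this using 2
      exact Subtype.ext (inv_mul_cancel_left a c5).symm
    have h3 := _root_.orderOf_dvd_natCard (⟨Z, hZN⟩ : N')
    rw [Subgroup.orderOf_mk, ← Nat.card_zpowers, ← hX, hXc] at h3
    exact absurd (Nat.eq_one_of_dvd_coprimes hco h3 (dvd_refl 3)) (by norm_num)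
  · haveI := hN'
    obtain ⟨k, hk⟩ := IsPGroup.iff_card.1
      (fun x => ⟨1, Subtype.ext (by rw [SubgroupClass.coe_pow, pow_one]; exact hN2 x x.2)⟩ : IsPGroup 2 N')
    have hc : Nat.card Y2 = 2 ^ k * 60 := by
      rw [← hk, ← N'.card_mul_index, index_eq_card, Nat.card_congr e.toEquiv, hcard60]
    have hk0 : k = 0 := by
      by_contra hk0
      apply h8
      rw [hc]
      obtain ⟨j, rfl⟩ := Nat.exists_eq_succ_of_ne_zero hk0
      exact ⟨2 ^ j * 15, by rw [pow_succ]; ring⟩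
    rw [hk0, pow_zero, one_mul] at hc
    have hsurj : Function.Surjective ι2 :=
      (hι2inj.bijective_of_nat_card_le (by rw [hc, hcard60])).2
    have hgY : g ∈ Y := ⟨hgM, mem_centralizer_singleton_iff.2 hgv⟩
    obtain ⟨s, hs, hys⟩ := hYdec ⟨g, hgY⟩
    obtain ⟨a, ha⟩ := hsurj ⟨_, hys⟩
    have e' : g = d.ψ a * (s : G) := by
      have h := congrArg (fun q : Y2 => ((q : Y) : G)) ha
      change d.ψ a = g * (s : G)⁻¹ at h
      rw [h, inv_mul_cancel_right]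
    rw [e']
    have h1 : Perm.sign (1 : Perm (Fin 5)) = Perm.sign (a : Perm (Fin 5)) := by
      rw [map_one, Perm.mem_alternatingGroup.1 a.2]
    refine mul_mem ?_ (d.S_le_N hB (mem_subgroupOf.1 hs))
    rw [← d.Φ_right hB _ h1]
    exact (d.mem_N hB).2 ⟨1, a, h1, map_one _, rfl⟩
  · exfalso
    have : Nat.card Y2 = 168 := (Nat.card_congr e.toEquiv).trans PSpFourThreeAmalgam.card_psl_seven
    rw [this] at h60
    norm_num at h60

theorem cent_vv'_le {g : G} (hgM : g ∈ d.M hB) (hgv : g * (d.v * d.v') = d.v * d.v' * g) : g ∈ d.N hB := by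
  classical
  haveI : Fact (Nat.Prime 2) := ⟨Nat.prime_two⟩
  set Y := d.M hB ⊓ centralizer ({d.v * d.v'} : Set G) with hY
  have hw : d.v * d.v' ∈ d.S hB := by
    rw [d.vv'_eq hB]; exact (d.mem_S hB).2 ⟨β0, β0, rfl, β0_F4, β0_F4, rfl⟩
  have hSY : d.S hB ≤ Y := le_inf (d.S_le_M hB) fun s hs => mem_centralizer_singleton_iff.2 (d.S_comm hB hs hw)
  obtain ⟨P, hP⟩ := (d.sylIn_S hB hSY inf_le_left).exists_sylow
  have hNC : normalizer ((P : Subgroup Y) : Set Y) ≤ centralizer ((P : Subgroup Y) : Set Y) := by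
    rw [hP]
    intro n hn
    have hn' : ∀ s ∈ d.S hB, (n : G) * s * (n : G)⁻¹ ∈ d.S hB := fun s hs =>
      (mem_normalizer_iff.1 hn ⟨s, hSY hs⟩).1 hs
    have hnw : (n : G) * (d.v * d.v') * (n : G)⁻¹ = d.v * d.v' := by
      rw [mem_centralizer_singleton_iff.1 n.2.2, mul_inv_cancel_right]
    obtain ⟨ρ, hρ, e1⟩ := d.preserve hB n.2.1 hn' β0_F4
    obtain ⟨ρ', hρ', e2⟩ := d.preserve_R hB n.2.1 hn' β0_F4
    rw [d.L_β0 hB] at e1
    rw [d.R_β0 hB] at e2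
    rw [← conj_mul, e1, e2, d.vv'_eq hB, ← map_mul] at hnw
    have hp := d.Φ_inj hB hnw
    have r1 : ρ * 1 = β0 := congrArg (fun p : PAR => p.1.1) hp
    have r2 : 1 * ρ' = β0 := congrArg (fun p : PAR => p.1.2) hp
    rw [mul_one] at r1
    rw [one_mul] at r2
    subst r1; subst r2
    rw [d.L_β0 hB] at e1
    rw [d.R_β0 hB] at e2
    have hbS : ∀ s ∈ d.S hB, d.b * s * d.b ∈ d.S hB := fun s hs => by
      obtain ⟨a, c, hh, h1, h2, rfl⟩ := (d.mem_S hB).1 hs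
      exact (d.mem_S hB).2 ⟨c, a, hh.symm, h2, h1, (d.bΦ hB hh).symm⟩
    have hnb : ∀ s ∈ d.S hB, d.b * n * d.b * s * (d.b * n * d.b)⁻¹ ∈ d.S hB := fun s hs => by
      rw [show d.b * n * d.b * s * (d.b * n * d.b)⁻¹ = d.b * ((n : G) * (d.b * s * d.b⁻¹) * (n : G)⁻¹) * d.b⁻¹ by group,
        d.bi]
      exact hbS _ (hn' _ (hbS s hs))
    have hR : ∀ π, ∀ h : π ∈ F4, (n : G) * d.R hB π h * (n : G)⁻¹ = d.R hB π h := by
      intro π h
      have hb1 : d.b * (n : G) * d.b ∈ d.M hB := by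
        have := d.M_conj hB (k := d.b) n.2.1; rwa [d.bi] at this
      have hb2 : d.b * (n : G) * d.b * d.v * (d.b * (n : G) * d.b)⁻¹ = d.v := by
        rw [show d.b * (n : G) * d.b * d.v * (d.b * (n : G) * d.b)⁻¹ =
          d.b * ((n : G) * (d.b * d.v * d.b⁻¹) * (n : G)⁻¹) * d.b⁻¹ by group, d.bi, d.ext_b (d.bvb hB), e2, d.bvb hB]
      have := d.fix_left hB hb1 hnb hb2 h
      rw [← d.bLb hB h]
      conv_rhs => rw [← this]
      calc (n : G) * (d.b * d.L hB π h * d.b) * (n : G)⁻¹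
          = (d.b * d.b) * n * (d.b * d.L hB π h * d.b) * (n : G)⁻¹ * (d.b * d.b) := by rw [d.hb]; group
        _ = _ := by simp [d.bi, mul_assoc]
    refine mem_centralizer_iff.2 fun s hs => Subtype.ext ?_
    obtain ⟨π, π', h, h1, h2, es⟩ := (d.mem_S hB).1 (mem_subgroupOf.1 hs)
    have hsplit : d.Φ hB (pr π π' h) = d.L hB π h1 * d.R hB π' h2 := by
      rw [← map_mul]; exact congrArg _ (Subtype.ext (Prod.ext (mul_one π).symm (one_mul π').symm))
    show (s : G) * n = n * s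
    refine (mul_inv_eq_iff_eq_mul.1 ?_).symm
    rw [← es, hsplit, ← conj_mul, d.fix_left hB n.2.1 hn' e1 h1, hR π' h2]
  set K := (MonoidHom.transferSylow P hNC).ker with hK
  have hcompl := MonoidHom.ker_transferSylow_isComplement' P hNC
  have hdisj : ∀ k : Y, k ∈ K → (k : G) ∈ d.S hB → k = 1 := fun k hk hks =>
    Subgroup.mem_bot.1 (hcompl.disjoint.le_bot ⟨hk, (SetLike.ext_iff.1 hP k).2 hks⟩)
  have hfix : ∀ π, ∀ h : π ∈ F4, π ≠ 1 → ∀ k : Y, k ∈ K → (k : G) * d.L hB π h = d.L hB π h * k → k = 1 := by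
    intro π h h1 k hk hc
    obtain ⟨a, ha, e, hN⟩ := d.v_even_conj hB h h1
    set m := d.Φ hB (pr a a ha) with hm
    have hkN : (k : G) ∈ d.N hB := by
      have hmM : m ∈ d.M hB := d.N_le_M hB hN
      have h2 := d.cent_v_le hB (g := m⁻¹ * k * m) (mul_mem (mul_mem (inv_mem hmM) k.2.1) hmM) (by
        rw [← e] at hc
        calc m⁻¹ * k * m * d.v = m⁻¹ * ((k : G) * (m * d.v * m⁻¹)) * m := by group
          _ = m⁻¹ * (m * d.v * m⁻¹ * k) * m := by rw [hc]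
          _ = _ := by group)
      have := mul_mem (mul_mem hN h2) (inv_mem hN)
      rwa [show m * (m⁻¹ * k * m) * m⁻¹ = (k : G) by group] at this
    obtain ⟨c, c', hcc, hcs, ek⟩ := (d.mem_N hB).1 hkN
    refine hdisj k hk ?_
    have hcomm : Commute (d.Φ hB (pr c c' hcc)) (d.Φ hB (pr β0 β0 rfl)) := by
      rw [ek, ← d.vv'_eq hB]; exact mem_centralizer_singleton_iff.1 k.2.2
    obtain ⟨c1, c2⟩ := (d.commute_Φ hB).1 hcomm
    rw [← ek]
    exact (d.mem_S hB).2 ⟨c, c', hcc, mem_F4.2 (alt_cent_beta c hcs c1),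
      mem_F4.2 (alt_cent_beta c' (hcc ▸ hcs) c2), rfl⟩
  have hbot : K = ⊥ := by
    let a : Y := ⟨_, hSY (d.L_mem hB β0_F4)⟩
    let c : Y := ⟨_, hSY (d.L_mem hB f0_F4)⟩
    have sq : ∀ π, ∀ h : π ∈ F4, d.L hB π h * d.L hB π h = 1 := fun π h => by
      rw [← map_mul, ← map_one (d.Φ hB)]
      exact congrArg _ (Subtype.ext (Prod.ext (F4_sq h) (one_mul 1)))
    have hac : d.L hB β0 β0_F4 * d.L hB f0 f0_F4 = d.L hB (β0 * f0) (mul_mem β0_F4 f0_F4) := by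
      rw [← map_mul]; exact congrArg _ (Subtype.ext (Prod.ext rfl (one_mul 1)))
    refine Lead.JankoTwoAlt.eq_bot_of_four_fixed (a := a) (b := c) (Subtype.ext (sq β0 β0_F4)) (Subtype.ext (sq f0 f0_F4))
      (Subtype.ext (d.S_comm hB (d.L_mem hB β0_F4) (d.L_mem hB f0_F4))) (fun x hx => ?_) (fun x hx => ?_)
      (fun x hx h => hfix β0 β0_F4 (by decide +kernel) x hx (congrArg Subtype.val h))
      (fun x hx h => hfix f0 f0_F4 (by decide +kernel) x hx (congrArg Subtype.val h))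
      (fun x hx h => hfix (β0 * f0) (mul_mem β0_F4 f0_F4) (by decide +kernel) x hx (by
        rw [← hac]; exact congrArg Subtype.val h))
    · exact (MonoidHom.normal_ker _).conj_mem x hx a
    · exact (MonoidHom.normal_ker _).conj_mem x hx c
  have hcompl' : IsComplement' (⊥ : Subgroup Y) (P : Subgroup Y) := hbot ▸ hcompl
  have hPtop : (P : Subgroup Y) = ⊤ := Subgroup.isComplement'_bot_left.1 hcompl'
  have hgY : g ∈ Y := ⟨hgM, mem_centralizer_singleton_iff.2 hgv⟩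
  exact d.S_le_N hB ((SetLike.ext_iff.1 hP ⟨g, hgY⟩).1 (hPtop.ge (mem_top _)))

theorem cent_invol_le {x : G} (hx : x ∈ d.N hB) (hxx : x * x = 1) (hx1 : x ≠ 1) {g : G} (hgM : g ∈ d.M hB)
    (hg : g * x = x * g) : g ∈ d.N hB := by
  have key : ∀ k ∈ d.H hB, ∀ y, k * x * k⁻¹ = y → (∀ a ∈ d.M hB, a * y = y * a → a ∈ d.N hB) → g ∈ d.N hB := by
    intro k hk y e hy
    have h1 := hy (k * g * k⁻¹) (d.M_conj hB hgM) (by
      rw [← e]
      calc k * g * k⁻¹ * (k * x * k⁻¹) = k * (g * x) * k⁻¹ := by group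
        _ = k * (x * g) * k⁻¹ := by rw [hg]
        _ = _ := by group)
    have := d.N_conj_H hB (inv_mem hk) h1
    rwa [show k⁻¹ * (k * g * k⁻¹) * k⁻¹⁻¹ = g by group] at this
  have hv' : ∀ a ∈ d.M hB, a * d.v' = d.v' * a → a ∈ d.N hB := fun a ha hav => by
    have hba : d.b * a * d.b ∈ d.M hB := by
      have := d.M_conj hB (k := d.b) ha; rwa [d.bi] at this
    have h1 := d.cent_v_le hB hba (by
      rw [← d.bvb hB, conj_invol_mul d.hb, conj_invol_mul d.hb, hav])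
    have := d.N_conj_H hB (d.b_mem_H hB) h1
    rwa [d.bi, show d.b * (d.b * a * d.b) * d.b = (d.b * d.b) * a * (d.b * d.b) by group, d.hb, one_mul, mul_one] at this
  obtain ⟨π, π', h, hs, e⟩ := (d.mem_N hB).1 hx
  rcases d.invol_cases hB (d.N_le_H hB hx) hxx hx1 with ⟨a, a', ha, -, -, has, ea⟩ | ⟨-, k, hk, hk'⟩ | ⟨hn, -⟩
  · exfalso
    have := congrArg (fun p : PAR => p.1.1) (d.Φ_inj hB (ea.trans e.symm))
    change a = π at this
    rw [this, hs] at has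
    exact absurd has (by decide)
  · rcases hk' with h1 | h1 | h1
    · exact key k hk _ h1 (fun a ha hav => d.cent_v_le hB ha hav)
    · exact key k hk _ h1 hv'
    · exact key k hk _ h1 (fun a ha hav => d.cent_vv'_le hB ha hav)
  · exact absurd ⟨_, e⟩ hn

theorem v_ne_one : d.v ≠ 1 := fun h =>
  absurd (congrArg Prod.snd (d.inj (h.trans (map_one d.φ).symm))) (by decide +kernel)

theorem conj_v_mem {m : G} (hm : m ∈ d.M hB) :
    ∃ a, ∃ ha : Perm.sign a = Perm.sign (1 : Perm (Fin 5)), d.Φ hB (pr a 1 ha) = m * d.v * m⁻¹ := by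
  set x := m * d.v * m⁻¹ with hx
  have hxx : x * x = 1 := by
    rw [hx, show m * d.v * m⁻¹ * (m * d.v * m⁻¹) = m * (d.v * d.v) * m⁻¹ by group, d.vv, mul_one, mul_inv_cancel]
  have hvM : d.v ∈ d.M hB := d.S_le_M hB (d.L_β0 hB ▸ d.L_mem hB β0_F4)
  have hv'N : d.v' ∈ d.N hB := d.S_le_N hB (d.R_β0 hB ▸ d.R_mem hB β0_F4)
  have hv'M : d.v' ∈ d.M hB := d.N_le_M hB hv'N
  have hv'1 : d.v' ≠ 1 := fun h =>
    absurd (congrArg Prod.fst (d.inj (h.trans (map_one d.φ).symm))) (by decide)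
  have hxM : x ∈ d.M hB := d.M_conj hB hvM
  have hx1 : x ≠ 1 := ne_one_conj d.v_ne_one
  have hxN : x ∈ d.N hB := by
    rcases dihedral_cases hxx d.v'v' with ⟨k, hk⟩ | ⟨k, hk1, hk2, hkx, hky⟩
    · exfalso
      refine d.v_ne_v'_M hB (g := (x * d.v') ^ k * m) (mul_mem (pow_mem (mul_mem hxM hv'M) k) hm) ?_
      rw [show (x * d.v') ^ k * m * d.v * ((x * d.v') ^ k * m)⁻¹ = (x * d.v') ^ k * x * ((x * d.v') ^ k)⁻¹ by
        generalize (x * d.v') ^ k = r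
        rw [hx]; group]
      exact hk
    · have hzN : (x * d.v') ^ k ∈ d.N hB :=
        d.cent_invol_le hB hv'N d.v'v' hv'1 (pow_mem (mul_mem hxM hv'M) k) hky
      exact d.cent_invol_le hB hzN hk2 hk1 hxM hkx.symm
  obtain ⟨π, π', h, hs, e⟩ := (d.mem_N hB).1 hxN
  have hsq : π * π = 1 ∧ π' * π' = 1 := by
    have h' : d.Φ hB (pr π π' h * pr π π' h) = d.Φ hB 1 := by rw [map_mul, e, hxx, map_one]
    exact ⟨congrArg (fun p : PAR => p.1.1) (d.Φ_inj hB h'), congrArg (fun p : PAR => p.1.2) (d.Φ_inj hB h')⟩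
  by_cases hπ' : π' = 1
  · subst hπ'
    exact ⟨π, h, e⟩
  exfalso
  obtain ⟨a', ha', ea'⟩ := even_invol π' hsq.2 (h ▸ hs) hπ'
  by_cases hπ : π = 1
  · set k := d.Φ hB (pr 1 a' (by rw [map_one, ha'])) with hk
    refine d.v_ne_v'_M hB (g := k⁻¹ * m) (mul_mem (inv_mem (d.N_le_M hB ((d.mem_N hB).2 ⟨1, a', _, map_one _, rfl⟩))) hm) ?_
    have e2 : k * d.v' * k⁻¹ = x := by
      rw [← e, hk, d.v'_eq hB, ← map_inv, ← map_mul, ← map_mul]
      exact congrArg _ (Subtype.ext (Prod.ext (show (1 : Perm (Fin 5)) * 1 * 1⁻¹ = π by rw [hπ]; group) ea'))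
    rw [show k⁻¹ * m * d.v * (k⁻¹ * m)⁻¹ = k⁻¹ * x * k by rw [hx]; group, ← e2]
    group
  · obtain ⟨a, ha, ea⟩ := even_invol π hsq.1 hs hπ
    set k := d.Φ hB (pr a a' (ha.trans ha'.symm)) with hk
    refine d.v_ne_vv' hB (k⁻¹ * m) ?_
    have e2 : k * (d.v * d.v') * k⁻¹ = x := by
      rw [← e, hk, d.vv'_eq hB, ← map_inv, ← map_mul, ← map_mul]
      exact congrArg _ (Subtype.ext (Prod.ext ea ea'))
    rw [show k⁻¹ * m * d.v * (k⁻¹ * m)⁻¹ = k⁻¹ * x * k by rw [hx]; group, ← e2]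
    group

theorem M_eq_N : d.M hB = d.N hB := by
  refine le_antisymm (fun m hm => ?_) (d.N_le_M hB)
  -- the first factor is normalised
  let L1 : Subgroup G := ((⊤ : Subgroup (Perm (Fin 5))).prod ⊥).subgroupOf PAR |>.map (d.Φ hB)
  have hconj : ∀ (g : Perm (Fin 5)) (hg : Perm.sign g = 1),
      m * (d.φ (1, g) * d.v * (d.φ (1, g))⁻¹) * m⁻¹ ∈ L1 := by
    intro g hg
    have hgN : d.φ (1, g) ∈ d.M hB := by
      rw [← d.Φ_left hB g (mem_PAR.2 (hg.trans (map_one _).symm))]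
      exact d.N_le_M hB ((d.mem_N hB).2 ⟨g, 1, hg.trans (map_one _).symm, hg, rfl⟩)
    obtain ⟨a, ha, e⟩ := d.conj_v_mem hB (mul_mem hm hgN)
    refine ⟨pr a 1 ha, mem_subgroupOf.2 (mem_prod.2 ⟨mem_top _, one_mem _⟩), ?_⟩
    rw [e]; group
  have hw : m * d.w * m⁻¹ ∈ L1 := by
    obtain ⟨g, hg, eg⟩ := even_invol (β0 * c5) (by decide +kernel) (by decide +kernel) (by decide +kernel)
    have h1 := hconj g hg
    have h2 := hconj 1 (map_one _)
    rw [show d.φ ((1 : Perm (Fin 3)), (1 : Perm (Fin 5))) = 1 from map_one d.φ, one_mul, inv_one, mul_one] at h2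
    rw [v, d.φ_conj, eg] at h1
    have e : d.w = d.v * d.φ (1, β0 * c5) := by
      rw [v, d.φ_one, ← mul_assoc, show β0 * β0 = 1 by decide +kernel, one_mul]
    rw [e, ← conj_mul]
    exact mul_mem h2 h1
  obtain ⟨⟨⟨a, a'⟩, hp⟩, hmem, he⟩ := hw
  obtain rfl : a' = 1 := Subgroup.mem_bot.1 (mem_prod.1 (mem_subgroupOf.1 hmem)).2
  rw [d.Φ_left hB a hp] at he
  have has : Perm.sign a = 1 := (mem_PAR.1 hp).trans (map_one _)
  have ha3 : a * a * a = 1 := by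
    have h : d.φ (1, a * a * a) = 1 := by
      rw [← d.φ_one, ← d.φ_one, he, show m * d.w * m⁻¹ * (m * d.w * m⁻¹) * (m * d.w * m⁻¹) =
        m * (d.w * d.w * d.w) * m⁻¹ by group, show d.w * d.w * d.w = 1 by rw [← d.w3, pow_three, mul_assoc],
        mul_one, mul_inv_cancel]
    exact congrArg Prod.snd (d.inj (h.trans (map_one d.φ).symm))
  have ha1 : a ≠ 1 := fun e => by
    rw [e, show d.φ ((1 : Perm (Fin 3)), (1 : Perm (Fin 5))) = 1 from map_one d.φ] at he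
    exact absurd (congrArg Prod.snd (d.inj ((conj_eq_one_iff.1 he.symm).trans (map_one d.φ).symm))) (by decide +kernel)
  obtain ⟨g, hgs, hg⟩ := alt_three_conj a ha3 ha1
  have hgN : d.φ (1, g) ∈ d.N hB := by
    rw [← d.Φ_left hB g (mem_PAR.2 (hgs.trans (map_one _).symm))]
    exact (d.mem_N hB).2 ⟨g, 1, hgs.trans (map_one _).symm, hgs, rfl⟩
  set q := d.φ (1, g) * m with hq
  have hqw : q * d.w * q⁻¹ = d.w := by
    rw [show q * d.w * q⁻¹ = d.φ (1, g) * (m * d.w * m⁻¹) * (d.φ (1, g))⁻¹ by rw [hq]; group, ← he, d.φ_conj, hg]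
  obtain ⟨u, hu, -⟩ := d.cent_w (mul_inv_eq_iff_eq_mul.1 hqw)
  have hqH : q ∈ d.H hB := by
    rw [← hu]
    exact mul_mem (mul_mem (d.b_mem_H hB) (le_extInv (d.φ_KH hB ⟨u, rfl⟩))) (d.b_mem_H hB)
  have hqN : q ∈ d.N hB := by
    rw [← d.H_inf_M hB]; exact ⟨hqH, mul_mem (d.N_le_M hB hgN) hm⟩
  have := mul_mem (inv_mem hgN) hqN
  rwa [hq, inv_mul_cancel_left] at this

end Data

end Cfsg.Agent.Lie.SymEightLocal
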