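import Mathlib

/-!
Extension of a subgroup by an involution normalising it.
-/

set_option autoImplicit false

namespace Cfsg.Agent.Lie.SymEightLocal

variable {G : Type*} [Group G]

/-- a subgroup extended by a normalising involution -/
def extInv (K : Subgroup G) (b : G) (hb : b * b = 1) (hK : ∀ x ∈ K, b * x * b ∈ K) : Subgroup G where
  carrier := {x | x ∈ K ∨ b * x ∈ K}
  one_mem' := Or.inl (one_mem K)
  mul_mem' := by
    rintro x y (hx | hx) (hy | hy)
    · exact Or.inl (mul_mem hx hy)
    · refine Or.inr ?_
      have e : b * (x * y) = b * x * b * (b * y) := by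
        rw [show b * x * b * (b * y) = b * x * (b * b) * y by group, hb]; group
      rw [e]
      exact mul_mem (hK x hx) hy
    · refine Or.inr ?_
      rw [show b * (x * y) = b * x * y by group]
      exact mul_mem hx hy
    · refine Or.inl ?_
      have e : x * y = b * (b * x) * b * (b * y) := by
        rw [show b * (b * x) * b * (b * y) = (b * b) * x * (b * b) * y by group, hb]; group
      rw [e]
      exact mul_mem (hK _ hx) hy
  inv_mem' := by
    rintro x (hx | hx)
    · exact Or.inl (inv_mem hx)
    · refine Or.inr ?_
      have e : b * x⁻¹ = b * (b * x)⁻¹ * b := by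
        rw [mul_inv_rev, inv_eq_of_mul_eq_one_right hb, show b * (x⁻¹ * b) * b = b * x⁻¹ * (b * b) by group, hb,
          mul_one]
      rw [e]
      exact hK _ (inv_mem hx)

variable {K : Subgroup G} {b : G} {hb : b * b = 1} {hK : ∀ x ∈ K, b * x * b ∈ K}

theorem mem_extInv {x : G} : x ∈ extInv K b hb hK ↔ x ∈ K ∨ b * x ∈ K := Iff.rfl

theorem le_extInv : K ≤ extInv K b hb hK := fun _ hx => Or.inl hx

theorem self_mem_extInv : b ∈ extInv K b hb hK := Or.inr (by rw [hb]; exact one_mem K)

theorem card_extInv (hbK : b ∉ K) : Nat.card (extInv K b hb hK) = 2 * Nat.card K := by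
  classical
  let F : Bool × K → extInv K b hb hK := fun p =>
    if p.1 then ⟨b * p.2, mul_mem self_mem_extInv (le_extInv p.2.2)⟩ else ⟨p.2, le_extInv p.2.2⟩
  have hF : Function.Bijective F := by
    constructor
    · rintro ⟨i, x⟩ ⟨j, y⟩ h
      have h' := congrArg Subtype.val h
      cases i <;> cases j <;> simp only [F, Bool.false_eq_true, if_false, if_true] at h'
      · rw [Subtype.ext h']
      · exact absurd (show b ∈ K by
          have := mul_mem x.2 (inv_mem y.2)
          rwa [h', mul_inv_cancel_right] at this) hbK
      · exact absurd (show b ∈ K by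
          have := mul_mem y.2 (inv_mem x.2)
          rwa [← h', mul_inv_cancel_right] at this) hbK
      · rw [Subtype.ext (mul_left_cancel h')]
    · rintro ⟨x, hx | hx⟩
      · exact ⟨(false, ⟨x, hx⟩), rfl⟩
      · exact ⟨(true, ⟨_, hx⟩), Subtype.ext (by
          simp only [F, if_true]; rw [← mul_assoc, hb, one_mul])⟩
  rw [← Nat.card_congr (Equiv.ofBijective F hF), Nat.card_prod, Nat.card_eq_fintype_card, Fintype.card_bool]

theorem card_extInv_dvd [Finite G] : Nat.card (extInv K b hb hK) ∣ 2 * Nat.card K := by
  by_cases hbK : b ∈ K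
  · have : extInv K b hb hK = K := le_antisymm (fun x hx => hx.elim id fun h => by
      have := mul_mem hbK h
      rwa [← mul_assoc, hb, one_mul] at this) le_extInv
    rw [this]
    exact Dvd.intro_left _ rfl
  · rw [card_extInv hbK]

end Cfsg.Agent.Lie.SymEightLocal
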