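import Cfsg.Agent.Lib.Lie.SymEightLocal.CaseBNorm
import Cfsg.Agent.Lib.Lie.SymEightLocal.Extend

/-!
The two alternating groups of degree five commute; the overgroup `H` of the three-local subgroups.
-/

set_option autoImplicit false
set_option linter.unusedSectionVars false

namespace Cfsg.Agent.Lie.SymEightLocal

open Subgroup Equiv

set_option maxHeartbeats 1600000

theorem cent_01 : ∀ σ : Perm (Fin 3), σ * swap 0 1 = swap 0 1 * σ → σ = 1 ∨ σ = swap 0 1 := by decide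

theorem cent_alt : ∀ c : Perm (Fin 5), c * c5 = c5 * c → c * f0 = f0 * c → c = 1 := by decide +kernel

/-- the sign section -/
def sg (π : Perm (Fin 5)) : Perm (Fin 5) := if Perm.sign π = 1 then 1 else swap 3 4

theorem sg_cases (π : Perm (Fin 5)) :
    (Perm.sign π = 1 ∧ sg π = 1) ∨ (Perm.sign π = -1 ∧ sg π = swap 3 4) := by
  rcases Int.units_eq_one_or (Perm.sign π) with h | h
  · exact Or.inl ⟨h, if_pos h⟩
  · exact Or.inr ⟨h, if_neg (by rw [h]; decide)⟩

theorem sg_sq (π : Perm (Fin 5)) : sg π * sg π = 1 := by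
  rcases sg_cases π with ⟨-, h⟩ | ⟨-, h⟩ <;> simp [h]

theorem sign_sg (π : Perm (Fin 5)) : Perm.sign (sg π) = Perm.sign π := by
  rcases sg_cases π with ⟨h', h⟩ | ⟨h', h⟩ <;> rw [h', h]
  · exact map_one _
  · exact Perm.sign_swap (by decide)

theorem sg_congr {π π' : Perm (Fin 5)} (h : Perm.sign π = Perm.sign π') : sg π = sg π' := by
  unfold sg; rw [h]

theorem sg_mul (π ρ : Perm (Fin 5)) : sg (π * ρ) = sg π * sg ρ ∧ sg π * sg ρ = sg ρ * sg π := by
  rcases sg_cases π with ⟨a, ha⟩ | ⟨a, ha⟩ <;> rcases sg_cases ρ with ⟨c, hc⟩ | ⟨c, hc⟩ <;>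
    simp [sg, map_mul, a, c]

/-- pairs of equal sign -/
def PAR : Subgroup (Perm (Fin 5) × Perm (Fin 5)) where
  carrier := {p | Perm.sign p.1 = Perm.sign p.2}
  one_mem' := rfl
  mul_mem' := fun {p q} (hp : Perm.sign p.1 = _) (hq : Perm.sign q.1 = _) => by
    show Perm.sign (p.1 * q.1) = Perm.sign (p.2 * q.2)
    rw [map_mul, map_mul, hp, hq]
  inv_mem' := fun {p} (hp : Perm.sign p.1 = _) => by
    show Perm.sign p.1⁻¹ = Perm.sign p.2⁻¹
    rw [map_inv, map_inv, hp]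

theorem mem_PAR {p : Perm (Fin 5) × Perm (Fin 5)} : p ∈ PAR ↔ Perm.sign p.1 = Perm.sign p.2 := Iff.rfl

namespace Data

variable {G : Type*} [Group G] (d : Data G)

theorem bψb (π : Perm (Fin 5)) : d.b * d.ψ π * d.b = d.φ (1, π) := by
  rw [ψ_apply]; exact d.ext_b rfl

theorem bφb (π : Perm (Fin 5)) : d.b * d.φ (1, π) * d.b = d.ψ π := (d.ψ_apply π).symm

theorem ψ_inj : Function.Injective d.ψ := fun x y h => by
  have e : d.φ (1, x) = d.φ (1, y) := by rw [← d.bψb, ← d.bψb, h]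
  exact congrArg Prod.snd (d.inj e)

theorem f'v' (hB : d.β = β0) : d.f' * d.v' = d.v' * d.f' := by
  rw [← d.ψ_β0 hB, f', ← map_mul, ← map_mul, show f0 * β0 = β0 * f0 by decide +kernel]

theorem f'v (hB : d.β = β0) : d.f' * d.v = d.v * d.f' := by
  rw [← d.bvb hB, f', ψ_apply, conj_invol_mul d.hb, conj_invol_mul d.hb, ← d.fv']

theorem f'tf' (hB : d.β = β0) : d.f' * d.t * d.f' = d.t * d.v' := by
  have h := congrArg (fun a => d.b * a * d.b) d.ftf
  simp only [← conj_invol_mul d.hb] at h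
  rwa [bφb, show d.b * d.t * d.b = d.t from d.hbt, d.ext_b (d.bvb hB)] at h

theorem ff'f'f' : d.f' * d.f' = 1 := by
  rw [f', ← map_mul, show f0 * f0 = 1 by decide +kernel, map_one]

theorem cent_tvv [Finite G] (hB : d.β = β0) {g : G} (ht : g * d.t = d.t * g) (hv : g * d.v = d.v * g)
    (hv' : g * d.v' = d.v' * g) : ∃ (σ : Perm (Fin 3)) (π : Perm (Fin 5)), g = d.φ (σ, π) ∧
      (σ = 1 ∨ σ = swap 0 1) ∧ π * swap 3 4 = swap 3 4 * π ∧ π * β0 = β0 * π := by
  rcases d.norm_cases (d.caseB_norm hB g ht) with ⟨⟨σ, π⟩, h⟩ | ⟨u, h⟩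
  · have k : ∀ x : PQ, g * d.φ x = d.φ x * g → (σ, π) * x = x * (σ, π) := fun x hx =>
      d.inj (by rw [map_mul, map_mul, h, hx])
    exact ⟨σ, π, h.symm, cent_01 σ (congrArg Prod.fst (k _ hv')), congrArg Prod.snd (k _ ht),
      congrArg Prod.snd (k _ hv)⟩
  · exfalso
    have e : d.φ u * d.v = d.v' * d.φ u := by
      rw [h, mul_assoc, hv, ← mul_assoc]
      calc d.b * d.v * g = d.b * d.v * (d.b * d.b) * g := by rw [d.hb, mul_one]
        _ = d.b * d.v * d.b * (d.b * g) := by group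
        _ = d.v' * (d.b * g) := by rw [d.ext_b (d.bvb hB)]
    have e' := congrArg Prod.fst (d.inj ((map_mul d.φ _ _).trans (e.trans (map_mul d.φ _ _).symm)))
    simp at e'

theorem ff' [Finite G] (hB : d.β = β0) : d.f * d.f' = d.f' * d.f := by
  set c := d.f * d.f' * d.f * d.f' with hc
  have h1 : d.f * d.t = d.t * d.v * d.f := by rw [← d.ftf, mul_assoc, d.ff, mul_one]
  have h1' : d.f' * d.t = d.t * d.v' * d.f' := by rw [← d.f'tf' hB, mul_assoc, d.ff'f'f', mul_one]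
  have hct : c * d.t = d.t * c := by
    calc d.f * d.f' * d.f * d.f' * d.t = d.f * d.f' * d.f * (d.f' * d.t) := by group
      _ = d.f * d.f' * (d.f * d.t) * d.v' * d.f' := by rw [h1']; group
      _ = d.f * d.f' * d.t * d.v * (d.f * d.v') * d.f' := by rw [h1]; group
      _ = d.f * (d.f' * d.t) * d.v * d.v' * d.f * d.f' := by rw [d.fv']; group
      _ = d.f * d.t * d.v' * ((d.f' * d.v) * d.v') * d.f * d.f' := by rw [h1']; group
      _ = d.f * d.t * d.v' * (d.v * (d.f' * d.v')) * d.f * d.f' := by rw [d.f'v hB]; group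
      _ = d.f * d.t * d.v' * (d.v * d.v') * d.f' * d.f * d.f' := by rw [d.f'v' hB]; group
      _ = (d.f * d.t) * (d.v' * d.v') * d.v * d.f' * d.f * d.f' := by rw [d.vv']; group
      _ = d.t * d.v * (d.f * d.v) * d.f' * d.f * d.f' := by rw [d.v'v', h1]; group
      _ = d.t * (d.v * d.v) * d.f * d.f' * d.f * d.f' := by rw [d.fv]; group
      _ = d.t * (d.f * d.f' * d.f * d.f') := by rw [d.vv]; group
  have hcomm : ∀ a : G, d.f * a = a * d.f → d.f' * a = a * d.f' → c * a = a * c := fun a h h' =>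
    ((((show Commute d.f a from h).mul_left (show Commute d.f' a from h')).mul_left h).mul_left h').eq
  obtain ⟨σ, π, e, hσ, h34, hβ⟩ := d.cent_tvv hB hct (hcomm _ d.fv (d.f'v hB)) (hcomm _ d.fv' (d.f'v' hB))
  have hinv : d.f' * d.f * d.f' * d.f = c := by
    have hcc : c * c = 1 := by
      rw [e, ← map_mul]
      have k : ∀ π : Perm (Fin 5), π * swap 3 4 = swap 3 4 * π → π * β0 = β0 * π → π * π = 1 := fun π a b => by
        rcases cent_pair π a b with rfl | rfl | rfl | rfl <;> decide +kernel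
      rw [show ((σ, π) : PQ) * (σ, π) = 1 from Prod.ext (by rcases hσ with rfl | rfl <;> simp) (k π h34 hβ), map_one]
    calc d.f' * d.f * d.f' * d.f = c⁻¹ := by
          rw [hc, mul_inv_rev, mul_inv_rev, mul_inv_rev, inv_eq_of_mul_eq_one_right d.ff'f'f', d.fi]
          group
      _ = c := inv_eq_of_mul_eq_one_right hcc
  have hcf : c * d.f = d.f * c := by
    calc c * d.f = d.f * (d.f' * d.f * d.f' * d.f) := by rw [hc]; group
      _ = d.f * c := by rw [hinv]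
  have hcb : d.b * c * d.b = c := by
    rw [hc]
    simp only [← conj_invol_mul d.hb]
    rw [show d.b * d.f * d.b = d.f' from d.bφb f0, show d.b * d.f' * d.b = d.f from d.bψb f0]
    exact hinv
  have hπf : π * f0 = f0 * π := congrArg Prod.snd (d.inj (show d.φ ((σ, π) * (1, f0)) = d.φ ((1, f0) * (σ, π)) by
    rw [map_mul, map_mul, ← e]; exact hcf))
  have hone : d.φ ((1 : Perm (Fin 3)), (1 : Perm (Fin 5))) = 1 := map_one d.φ
  rcases cent_f0 π h34 hβ hπf with rfl | rfl <;> rcases hσ with rfl | rfl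
  · rw [e, hone] at hc
    calc d.f * d.f' = (d.f * d.f' * d.f * d.f') * d.f' * d.f := by
          rw [mul_assoc _ d.f' d.f', d.ff'f'f', mul_one, mul_assoc _ d.f d.f, d.ff, mul_one]
      _ = d.f' * d.f := by rw [← hc, one_mul]
  · exfalso
    rw [e, d.bvb hB] at hcb
    exact absurd (congrArg Prod.fst (d.inj hcb)) (by decide)
  · exfalso
    rw [e, d.ext_b (d.bvb hB)] at hcb
    exact absurd (congrArg Prod.fst (d.inj hcb)) (by decide)
  · exfalso
    have ec : c = d.v * d.v' := by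
      rw [e, v, v', ← map_mul]
      exact congrArg d.φ (Prod.ext (by simp) (by simp))
    have h3 : d.f * d.f' * d.f = d.v * d.v' * d.f' := by
      rw [← ec, hc, mul_assoc _ d.f' d.f', d.ff'f'f', mul_one]
    set q := d.z * d.v' * d.f' with hq
    have hqψ : q = d.ψ (c5 * β0 * f0) := by rw [map_mul, map_mul, d.ψ_c5, d.ψ_β0 hB]
    have hvq : Commute d.v q :=
      ((show Commute d.v d.z from d.zv.symm).mul_right d.vv').mul_right (d.f'v hB).symm
    have h5 : (d.v * q) ^ 5 = 1 := by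
      have hy : d.v * q = d.f * d.ψ (c5 * f0) * d.f⁻¹ := by
        rw [map_mul, d.ψ_c5, d.fi, hq]
        calc d.v * (d.z * d.v' * d.f') = d.z * (d.v * d.v' * d.f') := by
              rw [← mul_assoc, ← mul_assoc, ← d.zv]; group
          _ = d.z * (d.f * d.f' * d.f) := by rw [h3]
          _ = (d.z * d.f) * d.f' * d.f := by group
          _ = d.f * (d.z * d.ψ f0) * d.f := by rw [d.zf]; group
      rw [hy, conj_pow, ← map_pow, five_cycle.1, map_one, mul_one, mul_inv_cancel]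
    rw [hvq.mul_pow, show (5 : ℕ) = 2 * 2 + 1 from rfl, pow_succ, pow_mul d.v, pow_two d.v, d.vv, one_pow, one_mul,
      hqψ, ← map_pow] at h5
    have h6 : d.φ (1, ((c5 * β0 * f0) ^ (2 * 2 + 1))⁻¹) = d.v' := by
      rw [← d.bψb, map_inv, ← eq_inv_of_mul_eq_one_left h5]
      exact d.ext_b (d.bvb hB)
    exact absurd (congrArg Prod.fst (d.inj h6)) (by decide)

/-- The two alternating groups commute. -/
theorem commute_alt [Finite G] (hB : d.β = β0) {a a' : Perm (Fin 5)} (ha : Perm.sign a = 1)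
    (ha' : Perm.sign a' = 1) : Commute (d.φ (1, a)) (d.ψ a') := by
  have hfz : Commute d.z d.f := d.zf
  have hwf' : Commute d.w d.f' := by
    show d.w * d.f' = d.f' * d.w
    rw [show d.w = d.b * d.z * d.b from d.hbz.symm, f', ψ_apply, conj_invol_mul d.hb, conj_invol_mul d.hb, d.zf]
  have hwz : Commute d.w d.z := (ZW_comm.map d.φ).symm
  let C : Perm (Fin 5) → Subgroup (Perm (Fin 5)) := fun x =>
    (centralizer ({d.φ (1, x)} : Set G)).comap d.ψ
  have hC : ∀ x, Commute (d.φ (1, x)) d.z → Commute (d.φ (1, x)) d.f' → ∀ a', Perm.sign a' = 1 →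
      Commute (d.φ (1, x)) (d.ψ a') := fun x h1 h2 a' ha' =>
    (show Commute (d.ψ a') (d.φ (1, x)) from mem_centralizer_singleton_iff.1 (alt_gen (K := C x)
      (mem_comap.2 (mem_centralizer_singleton_iff.2 (by rw [d.ψ_c5]; exact h1.symm.eq)))
      (mem_comap.2 (mem_centralizer_singleton_iff.2 h2.symm.eq)) ha')).symm
  exact mem_centralizer_singleton_iff.1 (alt_gen
    (K := (centralizer ({d.ψ a'} : Set G)).comap (d.φ.comp (MonoidHom.inr _ _)))
    (mem_comap.2 (mem_centralizer_singleton_iff.2 (hC c5 hwz hwf' a' ha').eq))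
    (mem_comap.2 (mem_centralizer_singleton_iff.2 (hC f0 hfz.symm (d.ff' hB) a' ha').eq)) ha)

theorem φ_sg (π : Perm (Fin 5)) : d.φ (1, sg π) = d.ψ (sg π) := by
  rcases sg_cases π with ⟨-, h⟩ | ⟨-, h⟩ <;> rw [h]
  · rw [map_one]; exact map_one d.φ
  · rw [ψ_t]

theorem conj_ψ [Finite G] (hB : d.β = β0) (π : Perm (Fin 5)) {a : Perm (Fin 5)} (ha : Perm.sign a = 1) :
    d.φ (1, π) * d.ψ a = d.ψ (sg π * a * sg π) * d.φ (1, π) := by
  have e : d.φ (1, π) = d.φ (1, π * sg π) * d.ψ (sg π) := by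
    rw [← d.φ_sg, d.φ_one, mul_assoc, sg_sq, mul_one]
  have h1 : Perm.sign (π * sg π) = 1 := by rw [map_mul, sign_sg, Int.units_mul_self]
  have h2 : Perm.sign (sg π * a * sg π) = 1 := by
    rw [map_mul, map_mul, ha, mul_one, Int.units_mul_self]
  rw [e, mul_assoc, ← mul_assoc (d.ψ (sg π * a * sg π)), ← (d.commute_alt hB h1 h2).eq, mul_assoc]
  congr 1
  rw [← map_mul, ← map_mul, mul_assoc _ (sg π) (sg π), sg_sq, mul_one]

/-- the map from pairs of equal sign -/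
def Φ [Finite G] (hB : d.β = β0) : PAR →* G :=
  MonoidHom.mk' (fun p => d.ψ (p.1.2 * sg p.1.1) * d.φ (1, p.1.1)) (by
    rintro ⟨⟨p, p'⟩, hp⟩ ⟨⟨q, q'⟩, hq⟩
    show d.ψ (p' * q' * sg (p * q)) * d.φ (1, p * q) = d.ψ (p' * sg p) * d.φ (1, p) * (d.ψ (q' * sg q) * d.φ (1, q))
    have hq1 : Perm.sign (q' * sg q) = 1 := by
      rw [map_mul, sign_sg, ← (mem_PAR.1 hq), Int.units_mul_self]
    rw [mul_assoc (d.ψ (p' * sg p)), ← mul_assoc (d.φ (1, p)), d.conj_ψ hB p hq1, mul_assoc (d.ψ _) (d.φ (1, p)),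
      d.φ_one, ← mul_assoc, ← map_mul d.ψ]
    congr 2
    rw [(sg_mul p q).1, (sg_mul p q).2]
    calc p' * q' * (sg q * sg p) = p' * (sg p * sg p) * q' * sg q * sg p := by rw [sg_sq]; group
      _ = _ := by group)

variable [Finite G] (hB : d.β = β0)

theorem Φ_apply (π π' : Perm (Fin 5)) (h : (π, π') ∈ PAR) :
    d.Φ hB ⟨(π, π'), h⟩ = d.ψ (π' * sg π) * d.φ (1, π) := rfl

theorem Φ_right (π' : Perm (Fin 5)) (h : ((1 : Perm (Fin 5)), π') ∈ PAR) : d.Φ hB ⟨(1, π'), h⟩ = d.ψ π' := by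
  rw [Φ_apply, show sg 1 = 1 from if_pos (map_one _), mul_one,
    show d.φ ((1 : Perm (Fin 3)), (1 : Perm (Fin 5))) = 1 from map_one d.φ, mul_one]

theorem Φ_sec (π : Perm (Fin 5)) (h : (π, sg π) ∈ PAR) : d.Φ hB ⟨(π, sg π), h⟩ = d.φ (1, π) := by
  rw [Φ_apply, sg_sq, map_one, one_mul]

theorem Φ_left (π : Perm (Fin 5)) (h : (π, (1 : Perm (Fin 5))) ∈ PAR) : d.Φ hB ⟨(π, 1), h⟩ = d.φ (1, π) := by
  have hs : sg π = 1 := if_pos ((mem_PAR.1 h).trans (map_one _))
  rw [Φ_apply, hs, mul_one, map_one, one_mul]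

theorem Φ_inj : Function.Injective (d.Φ hB) := by
  rw [injective_iff_map_eq_one]
  rintro ⟨⟨π, π'⟩, hp⟩ h
  rw [Φ_apply] at h
  have hπ : d.φ (1, π) = (d.ψ (π' * sg π))⁻¹ := eq_inv_of_mul_eq_one_right h
  obtain ⟨c, hc⟩ : ∃ c, c = (π' * sg π)⁻¹ * sg π := ⟨_, rfl⟩
  have ha : d.φ (1, π * sg π) = d.ψ c := by
    rw [← d.φ_one, d.φ_sg, hπ, hc, map_mul d.ψ (π' * sg π)⁻¹, map_inv]
  have hs : Perm.sign (π * sg π) = 1 := by rw [map_mul, sign_sg, Int.units_mul_self]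
  have hcx : ∀ x, Perm.sign x = 1 → c * x = x * c := fun x hx => d.ψ_inj (by
    rw [map_mul, map_mul, ← ha]; exact (d.commute_alt hB hs hx).eq)
  have hc1 : c = 1 := cent_alt c (hcx c5 (by decide +kernel)) (hcx f0 (by decide +kernel))
  have hπ' : π' = 1 := by
    rw [hc, inv_mul_eq_one] at hc1
    exact mul_eq_right.1 hc1
  have hπ1 : π = 1 := by
    have hs1 : sg π = 1 := if_pos ((mem_PAR.1 hp).trans (by
      show Perm.sign π' = 1
      rw [hπ', map_one]))
    rw [hc1, map_one, hs1, mul_one] at ha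
    exact congrArg Prod.snd (d.inj (ha.trans (map_one d.φ).symm))
  exact Subtype.ext (Prod.ext hπ1 hπ')

theorem bΦb (π π' : Perm (Fin 5)) (h : (π, π') ∈ PAR) :
    d.b * d.Φ hB ⟨(π, π'), h⟩ * d.b = d.Φ hB ⟨(π', π), mem_PAR.2 (mem_PAR.1 h).symm⟩ := by
  have hs : sg π' = sg π := sg_congr (mem_PAR.1 h).symm
  rw [Φ_apply, Φ_apply, ← conj_invol_mul d.hb, bψb, bφb, ← d.φ_one, d.φ_sg, mul_assoc, ← map_mul]
  have h1 : Perm.sign (sg π * π) = 1 := by rw [map_mul, sign_sg, Int.units_mul_self]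
  rw [d.conj_ψ hB π' h1, hs]
  congr 2
  rw [← mul_assoc, sg_sq, one_mul]

/-- the image of the pairs -/
def KH : Subgroup G := (d.Φ hB).range

theorem b_KH (x : G) (hx : x ∈ d.KH hB) : d.b * x * d.b ∈ d.KH hB := by
  obtain ⟨⟨⟨π, π'⟩, h⟩, rfl⟩ := hx
  exact ⟨_, (d.bΦb hB π π' h).symm⟩

/-- the overgroup of the three-local subgroups -/
def H : Subgroup G := extInv (d.KH hB) d.b d.hb (d.b_KH hB)

theorem mem_H {x : G} : x ∈ d.H hB ↔ x ∈ d.KH hB ∨ d.b * x ∈ d.KH hB := Iff.rfl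

theorem φ_KH : d.φ.range ≤ d.KH hB := by
  have hβ : ((1 : Perm (Fin 5)), β0) ∈ PAR := mem_PAR.2 (by decide +kernel)
  have hc : ((1 : Perm (Fin 5)), c5) ∈ PAR := mem_PAR.2 (by decide +kernel)
  have hv : d.v' ∈ d.KH hB := ⟨⟨_, hβ⟩, (d.Φ_right hB β0 hβ).trans (d.ψ_β0 hB)⟩
  have hz : d.z ∈ d.KH hB := ⟨⟨_, hc⟩, (d.Φ_right hB c5 hc).trans d.ψ_c5⟩
  have h12 : d.φ (swap 1 2, 1) ∈ d.KH hB := by
    have := mul_mem (mul_mem hz hv) (inv_mem hz)
    rw [z, v', ← map_inv, ← map_mul, ← map_mul] at this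
    convert this using 2
    exact Prod.ext (by decide) (by simp)
  have h3 := three_gen ((d.KH hB).comap (d.φ.comp (MonoidHom.inl _ _))) hv h12
  rintro _ ⟨⟨σ, π⟩, rfl⟩
  rw [show ((σ, π) : PQ) = (σ, 1) * (1, π) from Prod.ext (by simp) (by simp), map_mul]
  exact mul_mem (h3.ge (mem_top σ) : σ ∈ _)
    ⟨⟨(π, sg π), mem_PAR.2 (sign_sg π).symm⟩, d.Φ_sec hB π _⟩

theorem b_not_KH : d.b ∉ d.KH hB := by
  rintro ⟨⟨⟨π, π'⟩, h⟩, e⟩
  have hc : (c5, (1 : Perm (Fin 5))) ∈ PAR := mem_PAR.2 (by decide +kernel)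
  have hc' : ((1 : Perm (Fin 5)), c5) ∈ PAR := mem_PAR.2 (by decide +kernel)
  have h1 : (⟨(π, π'), h⟩ : PAR) * ⟨_, hc'⟩ * ⟨(π, π'), h⟩ = ⟨_, hc⟩ := d.Φ_inj hB (by
    rw [map_mul, map_mul, e, d.Φ_right hB, d.ψ_c5, d.Φ_left hB]; exact d.hbz)
  have h2 : (⟨(π, π'), h⟩ : PAR) * ⟨(π, π'), h⟩ = 1 := d.Φ_inj hB (by rw [map_mul, e, d.hb, map_one])
  have e1 : π * 1 * π = c5 := congrArg (fun p : PAR => p.1.1) h1
  have e2 : π * π = 1 := congrArg (fun p : PAR => p.1.1) h2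
  rw [mul_one, e2] at e1
  exact absurd e1 (by decide +kernel)

theorem Ct_le_H : d.Ct ≤ d.H hB := fun g hg => by
  rcases d.norm_cases (d.caseB_norm hB g (d.mem_Ct.1 hg)) with h | h
  · exact Or.inl (d.φ_KH hB h)
  · exact Or.inr (d.φ_KH hB h)

omit hB in
theorem card_Ct (hB : d.β = β0) : Nat.card d.Ct = 144 := by
  set S := (centralizer ({T0} : Set PQ)).map d.φ with hS
  have hn : ∀ x ∈ S, x ∈ d.φ.range ∧ x * d.t = d.t * x := by
    rintro _ ⟨u, hu, rfl⟩
    exact ⟨⟨u, rfl⟩, by rw [t, ← map_mul, ← map_mul, mem_centralizer_singleton_iff.1 hu]⟩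
  have hmem : ∀ x, x ∈ d.φ.range → x * d.t = d.t * x → x ∈ S := by
    rintro _ ⟨u, rfl⟩ hx
    exact ⟨u, mem_centralizer_singleton_iff.2 (d.inj (by rw [map_mul, map_mul]; exact hx)), rfl⟩
  have hbS : ∀ x ∈ S, d.b * x * d.b ∈ S := by
    rintro _ ⟨⟨σ, π⟩, hu, rfl⟩
    have hu' : π * swap 3 4 = swap 3 4 * π := congrArg Prod.snd (mem_centralizer_singleton_iff.1 hu)
    have hbt : Commute d.b d.t := d.t_comm_b
    refine hmem _ ?_ ((hbt.mul_left (hn _ ⟨(σ, π), hu, rfl⟩).2).mul_left hbt).eq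
    have hN : d.NormD (d.b * d.φ (σ, π) * d.b) := d.normD_mul (d.normD_mul d.b_norm (d.norm_φ hu')) d.b_norm
    rcases d.norm_cases hN with h | h
    · exact h
    exfalso
    apply d.b_not_KH hB
    have h1 := mul_mem (inv_mem (d.φ_KH hB ⟨(σ, π), rfl⟩)) (d.φ_KH hB h)
    rwa [show d.b * (d.b * d.φ (σ, π) * d.b) = (d.b * d.b) * d.φ (σ, π) * d.b by group, d.hb, one_mul,
      inv_mul_cancel_left] at h1
  have hCS : d.Ct = extInv S d.b d.hb hbS := by
    refine le_antisymm (fun g hg => ?_) (fun g hg => ?_)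
    · have hgt := d.mem_Ct.1 hg
      rcases d.norm_cases (d.caseB_norm hB g hgt) with h | h
      · exact Or.inl (hmem g h hgt)
      · exact Or.inr (hmem _ h ((show Commute d.b d.t from d.t_comm_b).mul_left hgt).eq)
    · rcases hg with h | h
      · exact d.mem_Ct.2 (hn g h).2
      · refine d.mem_Ct.2 ?_
        have := ((show Commute d.b d.t from d.t_comm_b).mul_left (hn _ h).2).eq
        rwa [← mul_assoc, d.hb, one_mul] at this
  rw [hCS, card_extInv (fun hb' => d.b_not_KH hB (d.φ_KH hB (hn _ hb').1)), hS, card_map_of_injective d.inj]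
  have hc : centralizer ({T0} : Set PQ) = (⊤ : Subgroup (Perm (Fin 3))).prod (centralizer ({swap 3 4} : Set (Perm (Fin 5)))) := by
    ext ⟨σ, π⟩
    simp only [mem_centralizer_singleton_iff, Subgroup.mem_prod, mem_top, true_and]
    exact ⟨fun h => congrArg Prod.snd h, fun h => Prod.ext (by simp) h⟩
  have hcy : (swap (3 : Fin 5) 4).cycleType = {2} := Perm.isSwap_iff_cycleType.1 ⟨3, 4, by decide, rfl⟩
  rw [hc, Nat.card_congr (Subgroup.prodEquiv _ _).toEquiv, Nat.card_prod, card_top, Nat.card_perm, Nat.card_fin,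
    Perm.nat_card_centralizer, hcy, Fintype.card_fin]
  simp [Nat.factorial]

end Data

end Cfsg.Agent.Lie.SymEightLocal
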