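import Mathlib

/-!
Facts on `Sym(6)`: an inverted element of order three and a commuting pair of involutions.
The finite checks run on lists of images.
-/

set_option autoImplicit false
set_option maxRecDepth 100000
set_option maxHeartbeats 1000000

namespace Cfsg.Agent.Lie.SymEightLocal

open Equiv

/-- `g` is an involution commuting with `x`, moved by `z`, with trivial product of the three conjugates -/
abbrev Tri {M : Type*} [Monoid M] (z x g : M) : Prop :=
  g * g = 1 ∧ g * x = x * g ∧ g * z ≠ z * g ∧ g * (z * g * (z * z)) * (z * z * g * z) = 1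

namespace SixList

/-- list of images -/
def enc (g : Perm (Fin 6)) : List (Fin 6) := List.ofFn g

/-- composition of lists of images -/
def cmp (l m : List (Fin 6)) : List (Fin 6) := m.map fun i => l.getD i.val 0

/-- arrangements without repetition -/
def arr : ℕ → List (List (Fin 6))
  | 0 => [[]]
  | k + 1 => (arr k).flatMap fun l => ((List.finRange 6).filter fun i => !l.contains i).map (· :: l)

def idl : List (Fin 6) := [0, 1, 2, 3, 4, 5]

theorem mem_arr : ∀ l : List (Fin 6), l.Nodup → l ∈ arr l.length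
  | [], _ => List.mem_singleton.2 rfl
  | i :: l, h => by
    obtain ⟨hi, hl⟩ := List.nodup_cons.1 h
    refine List.mem_flatMap.2 ⟨l, mem_arr l hl, List.mem_map.2 ⟨i, List.mem_filter.2 ⟨List.mem_finRange i, ?_⟩, rfl⟩⟩
    simpa using hi

theorem enc_mem (g : Perm (Fin 6)) : enc g ∈ arr 6 := by
  have h := mem_arr (enc g) (List.nodup_ofFn.2 g.injective)
  rwa [enc, List.length_ofFn] at h

theorem getD_enc (g : Perm (Fin 6)) (i : Fin 6) : (enc g).getD i.val 0 = g i := by
  rw [enc, List.getD_eq_getElem _ _ (by rw [List.length_ofFn]; exact i.isLt), List.getElem_ofFn]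

theorem enc_mul (g h : Perm (Fin 6)) : cmp (enc g) (enc h) = enc (g * h) := by
  simp only [cmp, getD_enc]
  rw [enc, enc, List.map_ofFn, Perm.coe_mul]

theorem enc_one : enc 1 = idl := by decide +kernel

theorem enc_inj {g h : Perm (Fin 6)} : enc g = enc h ↔ g = h :=
  ⟨fun e => Equiv.ext (congrFun (List.ofFn_injective e)), fun e => e ▸ rfl⟩

/-- Boolean form of `Tri` -/
def triB (z x g : List (Fin 6)) : Bool :=
  cmp g g == idl && (cmp g x == cmp x g && (!(cmp g z == cmp z g) &&
    cmp (cmp g (cmp (cmp z g) (cmp z z))) (cmp (cmp (cmp z z) g) z) == idl))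

theorem triB_iff (z x g : Perm (Fin 6)) : triB (enc z) (enc x) (enc g) = true ↔ Tri z x g := by
  simp only [triB, Tri, enc_mul, ← enc_one, Bool.and_eq_true, Bool.not_eq_true', beq_iff_eq,
    beq_eq_false_iff_ne, ne_eq, enc_inj]

/-- the hypotheses on the first involution -/
def invB (z x : List (Fin 6)) : Bool :=
  cmp z x == cmp x z && (cmp x x == idl && !(x == idl))

/-- existence check -/
def existsB (z : List (Fin 6)) (ks : List (Perm (Fin 6))) : Bool :=
  (arr 6).all fun x => !invB z x || (arr 6).all fun y =>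
    !(cmp y y == idl && (cmp x y == cmp y x && cmp (cmp y z) y == cmp z z)) ||
      ks.any fun k =>
        triB z x (cmp (cmp (enc k) (cmp x y)) (enc k⁻¹)) || triB z x (cmp (cmp (enc k) y) (enc k⁻¹))

/-- uniqueness check -/
def orbitB (z : List (Fin 6)) : Bool :=
  (arr 6).all fun x => !invB z x || (arr 6).all fun g => !triB z x g || (arr 6).all fun h => !triB z x h ||
    (h == g || (h == cmp (cmp z g) (cmp z z) || h == cmp (cmp (cmp z z) g) z))

def za : List (Fin 6) := [1, 2, 0, 3, 4, 5]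
def zb : List (Fin 6) := [1, 2, 0, 4, 5, 3]
def ka : List (Perm (Fin 6)) :=
  [swap 2 3 * swap 4 5, swap 1 3 * swap 3 2 * swap 4 5, swap 0 3 * swap 3 2 * swap 2 1 * swap 4 5, swap 2 4 * swap 3 5, swap 1 4 * swap 4 2 * swap 3 5, swap 0 4 * swap 4 2 * swap 2 1 * swap 3 5]

def kb : List (Perm (Fin 6)) :=
  [swap 2 3, swap 2 4, swap 2 5, swap 1 3 * swap 3 2 * swap 4 5, swap 1 4 * swap 4 2 * swap 3 5, swap 1 5 * swap 5 4 * swap 4 3 * swap 3 2]

theorem existsB_za : existsB za ka = true := by decide +kernel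
theorem existsB_zb : existsB zb kb = true := by decide +kernel
theorem orbitB_za : orbitB za = true := by decide +kernel
theorem orbitB_zb : orbitB zb = true := by decide +kernel

abbrev z6 : Perm (Fin 6) := swap 0 1 * swap 1 2
abbrev z6' : Perm (Fin 6) := swap 0 1 * swap 1 2 * (swap 3 4 * swap 4 5)

theorem enc_z6 : enc z6 = za ∧ enc z6' = zb := by decide +kernel

theorem six_three (z : Perm (Fin 6)) (h3 : z * z * z = 1) (h1 : z ≠ 1) :
    ∃ k : Perm (Fin 6), k * z * k⁻¹ = z6 ∨ k * z * k⁻¹ = z6' := by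
  have ho : orderOf z = 3 := orderOf_eq_prime (hp := ⟨Nat.prime_three⟩)
    (by rw [pow_three, ← mul_assoc, h3]) h1
  obtain ⟨n, hn⟩ := Perm.cycleType_prime_order (σ := z) (by rw [ho]; exact Nat.prime_three)
  rw [ho] at hn
  have hle := z.support.card_le_univ
  rw [← Perm.sum_cycleType, hn, Multiset.sum_replicate, smul_eq_mul, Fintype.card_fin] at hle
  rcases (show n = 0 ∨ n = 1 by omega) with rfl | rfl
  · obtain ⟨k, hk⟩ := isConj_iff.1 (Perm.isConj_iff_cycleType_eq.2
      (show z.cycleType = z6.cycleType by rw [hn]; decide +kernel))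
    exact ⟨k, Or.inl hk⟩
  · obtain ⟨k, hk⟩ := isConj_iff.1 (Perm.isConj_iff_cycleType_eq.2
      (show z.cycleType = z6'.cycleType by rw [hn]; decide +kernel))
    exact ⟨k, Or.inr hk⟩

theorem std {z x y : Perm (Fin 6)} {zl : List (Fin 6)} {ks : List (Perm (Fin 6))}
    (hz : enc z = zl) (hE : existsB zl ks = true) (hO : orbitB zl = true) (hxz : z * x = x * z) (hxx : x * x = 1)
    (hx1 : x ≠ 1) (hy : y * z * y = z * z) (hyy : y * y = 1) (hxy : x * y = y * x) :
    (∃ k : Perm (Fin 6), Tri z x (k * (x * y) * k⁻¹) ∨ Tri z x (k * y * k⁻¹)) ∧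
      ∀ g h : Perm (Fin 6), Tri z x g → Tri z x h → h = g ∨ h = z * g * (z * z) ∨ h = z * z * g * z := by
  subst hz
  have hinv : invB (enc z) (enc x) = true := by
    simp only [invB, enc_mul, ← enc_one, Bool.and_eq_true, Bool.not_eq_true', beq_iff_eq,
      beq_eq_false_iff_ne, ne_eq, enc_inj]
    exact ⟨hxz, hxx, hx1⟩
  constructor
  · have h := List.all_eq_true.1 hE _ (enc_mem x)
    rw [hinv, Bool.not_true, Bool.false_or] at h
    have h' := List.all_eq_true.1 h _ (enc_mem y)
    rw [show cmp (enc y) (enc y) = idl by rw [enc_mul, hyy, enc_one],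
      show cmp (enc x) (enc y) = cmp (enc y) (enc x) by rw [enc_mul, enc_mul, hxy],
      show cmp (cmp (enc y) (enc z)) (enc y) = cmp (enc z) (enc z) by rw [enc_mul, enc_mul, enc_mul, hy]] at h'
    simp only [beq_self_eq_true, Bool.and_self, Bool.not_true, Bool.false_or, List.any_eq_true, Bool.or_eq_true,
      enc_mul, triB_iff] at h'
    obtain ⟨k, -, hk⟩ := h'
    rw [← hxy] at hk
    exact ⟨k, hk⟩
  · intro g h hg hh
    have e := List.all_eq_true.1 hO _ (enc_mem x)
    rw [hinv, Bool.not_true, Bool.false_or] at e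
    have e' := List.all_eq_true.1 e _ (enc_mem g)
    rw [(triB_iff z x g).2 hg, Bool.not_true, Bool.false_or] at e'
    have e'' := List.all_eq_true.1 e' _ (enc_mem h)
    rw [(triB_iff z x h).2 hh, Bool.not_true, Bool.false_or] at e''
    simpa only [enc_mul, Bool.or_eq_true, beq_iff_eq, enc_inj] using e''

end SixList

open SixList in
/-- existence and uniqueness of the triple -/
theorem six_tri {z x y : Perm (Fin 6)} (h3 : z * z * z = 1) (h1 : z ≠ 1) (hxz : z * x = x * z) (hxx : x * x = 1)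
    (hx1 : x ≠ 1) (hy : y * z * y = z * z) (hyy : y * y = 1) (hxy : x * y = y * x) :
    (∃ k : Perm (Fin 6), Tri z x (k * (x * y) * k⁻¹) ∨ Tri z x (k * y * k⁻¹)) ∧
      ∀ g h : Perm (Fin 6), Tri z x g → Tri z x h → h = g ∨ h = z * g * (z * z) ∨ h = z * z * g * z := by
  obtain ⟨c, hc⟩ := six_three z h3 h1
  set κ := MulAut.conj c with hκ
  have hk : κ z = z6 ∨ κ z = z6' := hc
  have hκe : ∀ a e : Perm (Fin 6), κ a = κ e ↔ a = e := fun a e => κ.injective.eq_iff
  have tri : ∀ g : Perm (Fin 6), Tri z x g ↔ Tri (κ z) (κ x) (κ g) := by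
    intro g
    simp only [Tri, ← map_mul, hκe, EmbeddingLike.map_eq_one_iff, ne_eq]
  have hxz' : κ z * κ x = κ x * κ z := by rw [← map_mul, hxz, map_mul]
  have hxx' : κ x * κ x = 1 := by rw [← map_mul, hxx, map_one]
  have hx1' : κ x ≠ 1 := fun e => hx1 (κ.injective (e.trans (map_one κ).symm))
  have hy' : κ y * κ z * κ y = κ z * κ z := by rw [← map_mul, ← map_mul, hy, map_mul]
  have hyy' : κ y * κ y = 1 := by rw [← map_mul, hyy, map_one]
  have hxy' : κ x * κ y = κ y * κ x := by rw [← map_mul, hxy, map_mul]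
  obtain ⟨⟨k, hk'⟩, horb⟩ : (∃ k : Perm (Fin 6), Tri (κ z) (κ x) (k * (κ x * κ y) * k⁻¹) ∨
      Tri (κ z) (κ x) (k * κ y * k⁻¹)) ∧ ∀ g h : Perm (Fin 6), Tri (κ z) (κ x) g → Tri (κ z) (κ x) h →
        h = g ∨ h = κ z * g * (κ z * κ z) ∨ h = κ z * κ z * g * κ z := by
    rcases hk with e | e
    · exact std (by rw [e]; exact enc_z6.1) existsB_za orbitB_za hxz' hxx' hx1' hy' hyy' hxy'
    · exact std (by rw [e]; exact enc_z6.2) existsB_zb orbitB_zb hxz' hxx' hx1' hy' hyy' hxy'
  obtain ⟨k, rfl⟩ := κ.surjective k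
  refine ⟨⟨k, hk'.imp (fun h => (tri _).2 ?_) (fun h => (tri _).2 ?_)⟩, fun g h hg hh => ?_⟩
  · simpa only [map_mul, map_inv] using h
  · simpa only [map_mul, map_inv] using h
  · simpa only [← map_mul, hκe] using horb _ _ ((tri g).1 hg) ((tri h).1 hh)

end Cfsg.Agent.Lie.SymEightLocal
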