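import Cfsg.Agent.Lib.Lie.SymEightLocal.CaseBBase
import Cfsg.Agent.Lib.Lie.SymEightLocal.SixPair

/-!
If the centraliser of `t` were `Sym(6)` modulo `t`, it would contain an involution centralising the four group
and moved by `z`.
-/

set_option autoImplicit false

namespace Cfsg.Agent.Lie.SymEightLocal

open Subgroup Equiv

set_option maxHeartbeats 1600000

theorem conj_invol_mul {M : Type*} [Group M] {s : M} (hs : s * s = 1) (a c : M) :
    s * a * s * (s * c * s) = s * (a * c) * s := by
  calc s * a * s * (s * c * s) = s * a * (s * s) * c * s := by group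
    _ = _ := by rw [hs]; group

/-- an involution with `s z s = z` or `z²` maps triples to triples -/
theorem tri_conj {M : Type*} [Group M] {s z x g : M} (hs : s * s = 1) (hx : s * x * s = x)
    (hz : s * z * s = z ∨ s * z * s = z * z) (h3 : z * z * z = 1) (hg : Tri z x g) :
    Tri z x (s * g * s) := by
  obtain ⟨gg, gx, gz, g3⟩ := hg
  set κ : M → M := fun a => s * a * s
  have km : ∀ a c, κ a * κ c = κ (a * c) := conj_invol_mul hs
  have k1 : κ 1 = 1 := by simp [κ, hs]
  have kk : ∀ a, κ (κ a) = a := fun a => by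
    show s * (s * a * s) * s = a
    calc s * (s * a * s) * s = (s * s) * a * (s * s) := by group
      _ = a := by rw [hs, one_mul, mul_one]
  show Tri z x (κ g)
  refine ⟨by rw [km, gg, k1], ?_, ?_, ?_⟩
  · rw [← show κ x = x from hx, km, km, gx]
  · intro h
    rcases hz with e | e
    · rw [← show κ z = z from e, km, km] at h
      exact gz (by rw [← kk (g * z), h, kk])
    · have h2 : κ g * (z * z) = z * z * κ g := ((show Commute (κ g) z from h).mul_right h).eq
      rw [← show κ z = z * z from e, km, km] at h2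
      exact gz (by rw [← kk (g * z), h2, kk])
  · rcases hz with e | e
    · rw [← show κ z = z from e]
      simp only [km]
      rw [g3, k1]
    · have ez : z = κ (z * z) := by rw [← show κ z = z * z from e, kk]
      have g3' : g * (z * z * g * z) * (z * g * (z * z)) = 1 := by
        have ha : z * g * (z * z) * (z * g * (z * z)) = 1 := by
          calc z * g * (z * z) * (z * g * (z * z)) = z * g * (z * z * z) * g * (z * z) := by group
            _ = z * (g * g) * (z * z) := by rw [h3]; group
            _ = 1 := by rw [gg, mul_one, ← mul_assoc, h3]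
        have hc : z * z * g * z * (z * z * g * z) = 1 := by
          calc z * z * g * z * (z * z * g * z) = z * z * g * (z * z * z) * g * z := by group
            _ = z * z * (g * g) * z := by rw [h3]; group
            _ = 1 := by rw [gg, mul_one, h3]
        generalize z * g * (z * z) = a at g3 ha ⊢
        generalize z * z * g * z = c at g3 hc ⊢
        have hga : g * a = c := by
          calc g * a = g * a * (c * c) := by rw [hc, mul_one]
            _ = g * a * c * c := by group
            _ = c := by rw [g3, one_mul]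
        have hag : a * g = c := by
          calc a * g = (g * a)⁻¹ := by
                rw [mul_inv_rev, inv_eq_of_mul_eq_one_right gg, inv_eq_of_mul_eq_one_right ha]
            _ = c := by rw [hga, inv_eq_of_mul_eq_one_right hc]
        calc g * c * a = g * (g * a) * a := by rw [hga]
          _ = (g * g) * (a * a) := by group
          _ = 1 := by rw [gg, ha, one_mul]
      calc κ g * (z * κ g * (z * z)) * (z * z * κ g * z)
          = κ g * (κ (z * z) * κ g * κ z) * (κ z * κ g * κ (z * z)) := by
            rw [← ez, show κ z = z * z from e]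
        _ = κ (g * (z * z * g * z) * (z * g * (z * z))) := by simp only [km]
        _ = 1 := by rw [g3', k1]

namespace Data

variable {G : Type*} [Group G] (d : Data G)

/-- the triples -/
def Trip (g : G) : Prop := g * d.t = d.t * g ∧ Tri d.z d.v g

theorem z_cube : d.z * d.z * d.z = 1 := by rw [← d.z3, pow_three, mul_assoc]

theorem exists_triple [Finite G] (hB : d.β = β0) (e : d.Ct ⧸ d.Tc ≃* Perm (Fin 6)) :
    ∃ u : G, u * d.t = d.t * u ∧ u * d.v = d.v * u ∧ u * d.f = d.f * u ∧ Tri d.z d.v u ∧
      (d.v' * u * d.v' = u ∨ d.v' * u * d.v' = d.z * u * (d.z * d.z) ∨ d.v' * u * d.v' = d.z * d.z * u * d.z) := by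
  let π : d.Ct →* Perm (Fin 6) := e.toMonoidHom.comp (QuotientGroup.mk' d.Tc)
  have hker : ∀ g : d.Ct, π g = 1 → (g : G) = 1 ∨ (g : G) = d.t := fun g hg =>
    d.mem_Tc.1 ((QuotientGroup.eq_one_iff _).1 (e.injective (hg.trans (map_one e).symm)))
  have heq : ∀ g h : d.Ct, π g = π h → (g : G) = h ∨ (g : G) = h * d.t := by
    intro g h hgh
    rcases hker (h⁻¹ * g) (by rw [map_mul, map_inv, hgh, inv_mul_cancel]) with k | k
    · left
      simp only [Subgroup.coe_mul, Subgroup.coe_inv] at k
      exact (inv_mul_eq_one.1 k).symm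
    · right
      simp only [Subgroup.coe_mul, Subgroup.coe_inv] at k
      rw [← k, mul_inv_cancel_left]
  let Z : d.Ct := ⟨d.z, d.mem_Ct.2 d.zt⟩
  let X : d.Ct := ⟨d.v, d.mem_Ct.2 d.vt⟩
  let Y : d.Ct := ⟨d.v', d.mem_Ct.2 d.v't⟩
  have hZ3 : Z * Z * Z = 1 := Subtype.ext d.z_cube
  have hz1 : d.z ≠ 1 := fun h => absurd (congrArg Prod.fst (d.inj (h.trans (map_one d.φ).symm))) (by decide)
  have hzne : π Z ≠ 1 := by
    intro h
    rcases hker Z h with k | k
    · exact hz1 k
    · exact absurd (congrArg Prod.fst (d.inj (show d.φ Z0 = d.φ T0 from k))) (by decide)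
  have hXne : π X ≠ 1 := by
    intro h
    rcases hker X h with k | k
    · exact absurd (congrArg Prod.snd (d.inj (k.trans (map_one d.φ).symm))) (by decide +kernel)
    · exact absurd (congrArg Prod.snd (d.inj (show d.φ (1, β0) = d.φ T0 from k))) (by decide +kernel)
  obtain ⟨⟨k, hk⟩, horb⟩ := six_tri (z := π Z) (x := π X) (y := π Y)
    (by rw [← map_mul, ← map_mul, hZ3, map_one]) hzne
    (by rw [← map_mul, ← map_mul]; exact congrArg π (Subtype.ext d.zv))
    (by rw [← map_mul, ← map_one π]; exact congrArg π (Subtype.ext d.vv)) hXne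
    (by rw [← map_mul, ← map_mul, ← map_mul]; exact congrArg π (Subtype.ext d.v'zv'))
    (by rw [← map_mul, ← map_one π]; exact congrArg π (Subtype.ext d.v'v'))
    (by rw [← map_mul, ← map_mul]; exact congrArg π (Subtype.ext d.vv'))
  obtain ⟨K, rfl⟩ : ∃ K : d.Ct, π K = k := by
    obtain ⟨q, hq⟩ := e.surjective k
    obtain ⟨K, rfl⟩ := QuotientGroup.mk'_surjective d.Tc q
    exact ⟨K, hq⟩
  obtain ⟨a, ha2, hatri⟩ : ∃ a : d.Ct, (a : G) * a = 1 ∧ Tri (π Z) (π X) (π (K * a * K⁻¹)) := by
    rcases hk with hk | hk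
    · refine ⟨X * Y, ?_, by rw [map_mul π, map_mul π, map_inv, map_mul π]; exact hk⟩
      show d.v * d.v' * (d.v * d.v') = 1
      rw [(show Commute d.v' d.v from d.vv'.symm).mul_mul_mul_comm, d.vv, d.v'v', one_mul]
    · exact ⟨Y, d.v'v', by rw [map_mul π, map_mul π, map_inv]; exact hk⟩
  -- adjust by `t`
  set u₀ : d.Ct := K * a * K⁻¹ with hu₀
  have hu₀2 : (u₀ : G) * u₀ = 1 := by
    show (K : G) * a * (K : G)⁻¹ * ((K : G) * a * (K : G)⁻¹) = 1
    rw [show (K : G) * a * (K : G)⁻¹ * ((K : G) * a * (K : G)⁻¹) = K * ((a : G) * a) * (K : G)⁻¹ by group, ha2,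
      mul_one, mul_inv_cancel]
  have htc : ∀ g : d.Ct, Commute (g : G) d.t := fun g => d.mem_Ct.1 g.2
  obtain ⟨u, hu2, huπ, hu3⟩ : ∃ u : d.Ct, (u : G) * u = 1 ∧ π u = π u₀ ∧
      (u : G) * (d.z * u * (d.z * d.z)) * (d.z * d.z * u * d.z) = 1 := by
    have h := hatri.2.2.2
    rw [show π u₀ * (π Z * π u₀ * (π Z * π Z)) * (π Z * π Z * π u₀ * π Z) =
      π (u₀ * (Z * u₀ * (Z * Z)) * (Z * Z * u₀ * Z)) by simp only [map_mul]] at h
    rcases hker _ h with k' | k'
    · exact ⟨u₀, hu₀2, rfl, k'⟩
    · refine ⟨u₀ * ⟨d.t, d.mem_Ct.2 rfl⟩, ?_, ?_, ?_⟩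
      · show (u₀ : G) * d.t * ((u₀ : G) * d.t) = 1
        rw [(htc u₀).symm.mul_mul_mul_comm, hu₀2, d.ttt, one_mul]
      · rw [map_mul, show π (⟨d.t, d.mem_Ct.2 rfl⟩ : d.Ct) = 1 from by
          show e (QuotientGroup.mk _) = 1
          rw [(QuotientGroup.eq_one_iff _).2 (d.mem_Tc.2 (Or.inr rfl)), map_one], mul_one]
      · change (u₀ : G) * (d.z * u₀ * (d.z * d.z)) * (d.z * d.z * u₀ * d.z) = d.t at k'
        show (u₀ : G) * d.t * (d.z * ((u₀ : G) * d.t) * (d.z * d.z)) * (d.z * d.z * ((u₀ : G) * d.t) * d.z) = 1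
        have e1 : d.z * ((u₀ : G) * d.t) * (d.z * d.z) = d.z * u₀ * (d.z * d.z) * d.t := by
          rw [← mul_assoc d.z, mul_assoc _ d.t,
            ((show Commute d.t d.z from d.zt.symm).mul_right d.zt.symm).eq, ← mul_assoc]
        have e2 : d.z * d.z * ((u₀ : G) * d.t) * d.z = d.z * d.z * u₀ * d.z * d.t := by
          rw [← mul_assoc _ (u₀ : G), mul_assoc _ d.t, ← d.zt, ← mul_assoc]
        rw [e1, e2]
        have c1 : Commute d.t (d.z * (u₀ : G) * (d.z * d.z)) :=
          (((show Commute d.t d.z from d.zt.symm).mul_right (htc u₀).symm).mul_right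
            ((show Commute d.t d.z from d.zt.symm).mul_right d.zt.symm))
        generalize (u₀ : G) = g at k' c1 ⊢
        generalize d.z * g * (d.z * d.z) = A at k' c1 ⊢
        generalize d.z * d.z * g * d.z = B at k' ⊢
        calc g * d.t * (A * d.t) * (B * d.t) = g * (d.t * A) * (d.t * B) * d.t := by group
          _ = g * A * (d.t * d.t) * B * d.t := by rw [c1.eq]; group
          _ = g * A * B * d.t := by rw [d.ttt, mul_one]
          _ = 1 := by rw [k', d.ttt]
  have huz : (u : G) * d.z ≠ d.z * u := fun h => hatri.2.2.1 (by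
    rw [← huπ, ← map_mul, ← map_mul]; exact congrArg π (Subtype.ext h))
  have huv : (u : G) * d.v = d.v * u := by
    have hπ : π (u * X) = π (X * u) := by rw [map_mul, map_mul, huπ]; exact hatri.2.1
    rcases heq _ _ hπ with h | h
    · exact h
    exfalso
    change (u : G) * d.v = d.v * u * d.t at h
    set A := d.z * (u : G) * (d.z * d.z) with hA
    set B := d.z * d.z * (u : G) * d.z with hBdef
    have hconj : ∀ g : G, g * g = 1 → Commute g d.t → g * d.v = d.v * g * d.t → g * d.v * g = d.v * d.t := by
      intro g hgg hgt hgv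
      rw [hgv, mul_assoc _ d.t, ← hgt.eq, ← mul_assoc, mul_assoc d.v g g, hgg, mul_one]
    have hu' := hconj _ hu2 (htc u) h
    have hz2 : d.z * d.z * d.z = 1 := d.z_cube
    have hA' : A * d.v * A = d.v * d.t := by
      rw [hA]
      calc d.z * u * (d.z * d.z) * d.v * (d.z * u * (d.z * d.z))
          = d.z * u * ((d.z * d.z) * d.v) * d.z * u * (d.z * d.z) := by group
        _ = d.z * u * (d.v * (d.z * d.z)) * d.z * u * (d.z * d.z) := by
            rw [((show Commute d.z d.v from d.zv).mul_left d.zv).eq]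
        _ = d.z * u * d.v * (d.z * d.z * d.z) * u * (d.z * d.z) := by group
        _ = d.z * ((u : G) * d.v * u) * (d.z * d.z) := by rw [hz2]; group
        _ = d.z * (d.v * d.t) * (d.z * d.z) := by rw [hu']
        _ = d.v * d.t * (d.z * d.z * d.z) := by
            rw [((show Commute d.z d.v from d.zv).mul_right d.zt).eq]; group
        _ = d.v * d.t := by rw [hz2, mul_one]
    have hB' : B * d.v * B = d.v * d.t := by
      rw [hBdef]
      calc d.z * d.z * u * d.z * d.v * (d.z * d.z * u * d.z)
          = d.z * d.z * u * (d.z * d.v) * (d.z * d.z) * u * d.z := by group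
        _ = d.z * d.z * u * (d.v * d.z) * (d.z * d.z) * u * d.z := by rw [d.zv]
        _ = d.z * d.z * u * d.v * (d.z * d.z * d.z) * u * d.z := by group
        _ = d.z * d.z * ((u : G) * d.v * u) * d.z := by rw [hz2]; group
        _ = d.z * d.z * (d.v * d.t) * d.z := by rw [hu']
        _ = d.v * d.t * (d.z * d.z * d.z) := by
            rw [(((show Commute d.z d.v from d.zv).mul_left d.zv).mul_right
              ((show Commute d.z d.t from d.zt).mul_left d.zt)).eq]
            group
        _ = d.v * d.t := by rw [hz2, mul_one]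
    have hBB : B * B = 1 := by
      rw [hBdef]
      calc d.z * d.z * u * d.z * (d.z * d.z * u * d.z) = d.z * d.z * u * (d.z * d.z * d.z) * u * d.z := by group
        _ = d.z * d.z * ((u : G) * u) * d.z := by rw [hz2]; group
        _ = 1 := by rw [hu2, mul_one, hz2]
    have hAA : A * A = 1 := by
      rw [hA]
      calc d.z * u * (d.z * d.z) * (d.z * u * (d.z * d.z)) = d.z * u * (d.z * d.z * d.z) * u * (d.z * d.z) := by group
        _ = d.z * ((u : G) * u) * (d.z * d.z) := by rw [hz2]; group
        _ = 1 := by rw [hu2, mul_one, ← mul_assoc, hz2]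
    have hprod : (u : G) * A = B := by
      calc (u : G) * A = (u : G) * A * B * B := by rw [mul_assoc _ B B, hBB, mul_one]
        _ = B := by rw [hu3, one_mul]
    have hprod' : A * (u : G) = B := by
      calc A * (u : G) = ((u : G) * A)⁻¹ := by
            rw [mul_inv_rev, inv_eq_of_mul_eq_one_right hu2, inv_eq_of_mul_eq_one_right hAA]
        _ = B := by rw [hprod, inv_eq_of_mul_eq_one_right hBB]
    apply d.t_ne
    have e' : B * d.v * B = d.v := by
      calc B * d.v * B = (u : G) * A * d.v * (A * u) := by rw [hprod, hprod']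
        _ = (u : G) * (A * d.v * A) * u := by group
        _ = (u : G) * (d.v * d.t) * u := by rw [hA']
        _ = (u : G) * d.v * (d.t * u) := by group
        _ = (u : G) * d.v * (u * d.t) := by rw [(htc u).eq]
        _ = (u : G) * d.v * u * d.t := by group
        _ = d.v * (d.t * d.t) := by rw [hu', mul_assoc]
        _ = d.v := by rw [d.ttt, mul_one]
    rw [hB'] at e'
    exact mul_eq_left.1 e'
  have hutri : Tri d.z d.v (u : G) := ⟨hu2, huv, huz, hu3⟩
  have huniq : ∀ g : G, d.Trip g → g = u ∨ g = d.z * u * (d.z * d.z) ∨ g = d.z * d.z * u * d.z := by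
    intro g ⟨hgt, g2, gv, gz, g3⟩
    let g' : d.Ct := ⟨g, d.mem_Ct.2 hgt⟩
    have hg : Tri (π Z) (π X) (π g') := by
      refine ⟨?_, ?_, fun h => gz ?_, ?_⟩
      · rw [← map_mul, ← map_one π]; exact congrArg π (Subtype.ext g2)
      · rw [← map_mul, ← map_mul]; exact congrArg π (Subtype.ext gv)
      · rw [← map_mul, ← map_mul] at h
        have h' : π (g' * Z * g'⁻¹) = π Z := by
          rw [map_mul π, h, map_inv, map_mul π, mul_inv_cancel_right]
        have := d.sep (x := g' * Z * g'⁻¹) (y := Z) (by
          show (g * d.z * g⁻¹) ^ 3 = 1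
          rw [conj_pow, d.z3, mul_one, mul_inv_cancel]) d.zD (e.injective h')
        exact mul_inv_eq_iff_eq_mul.1 this
      · simp only [← map_mul, ← map_one π]; exact congrArg π (Subtype.ext g3)
    have hu : Tri (π Z) (π X) (π u) := huπ ▸ hatri
    have hfix : ∀ h : d.Ct, π g' = π h → (h : G) * (d.z * h * (d.z * d.z)) * (d.z * d.z * h * d.z) = 1 → g = h := by
      intro h hh h3'
      rcases heq _ _ hh with k' | k'
      · exact k'
      exfalso
      change g = h * d.t at k'
      apply d.t_ne
      have ct : ∀ a : G, Commute d.t a → Commute d.t (d.z * a * (d.z * d.z)) := fun a ha =>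
        (((show Commute d.t d.z from d.zt.symm).mul_right ha).mul_right
          ((show Commute d.t d.z from d.zt.symm).mul_right d.zt.symm))
      have e1 : d.z * ((h : G) * d.t) * (d.z * d.z) = d.z * h * (d.z * d.z) * d.t := by
        rw [← mul_assoc d.z, mul_assoc _ d.t,
          ((show Commute d.t d.z from d.zt.symm).mul_right d.zt.symm).eq, ← mul_assoc]
      have e2 : d.z * d.z * ((h : G) * d.t) * d.z = d.z * d.z * h * d.z * d.t := by
        rw [← mul_assoc _ (h : G), mul_assoc _ d.t, ← d.zt, ← mul_assoc]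
      rw [k', e1, e2] at g3
      have c1 := ct h (htc h).symm
      generalize (h : G) = a at h3' g3 c1
      generalize d.z * a * (d.z * d.z) = A at h3' g3 c1
      generalize d.z * d.z * a * d.z = B at h3' g3
      rw [← g3]
      calc d.t = a * A * B * d.t := by rw [h3', one_mul]
        _ = a * A * (d.t * d.t) * B * d.t := by rw [d.ttt, mul_one]
        _ = a * (d.t * A) * d.t * B * d.t := by rw [c1.eq]; group
        _ = _ := by group
    have hz2 : d.z * d.z * d.z = 1 := d.z_cube
    rcases horb _ _ hu hg with h | h | h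
    · exact Or.inl (hfix u h hu3)
    · refine Or.inr (Or.inl (hfix (Z * u * (Z * Z)) (by rw [h]; simp only [map_mul]) ?_))
      show d.z * u * (d.z * d.z) * (d.z * (d.z * u * (d.z * d.z)) * (d.z * d.z)) *
        (d.z * d.z * (d.z * u * (d.z * d.z)) * d.z) = 1
      calc _ = d.z * ((u : G) * ((d.z * d.z * d.z) * d.z * u * (d.z * d.z)) *
            (d.z * d.z * (d.z * d.z * d.z) * u * (d.z * d.z * d.z))) := by group
        _ = d.z * ((u : G) * (d.z * u * (d.z * d.z)) * (d.z * d.z * u * d.z) * (d.z * d.z)) := by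
            rw [hz2, one_mul, mul_one, mul_one]
            have : d.z * (d.z * d.z) = 1 := by rw [← mul_assoc, hz2]
            calc d.z * ((u : G) * (d.z * u * (d.z * d.z)) * (d.z * d.z * u))
                = d.z * ((u : G) * (d.z * u * (d.z * d.z)) * (d.z * d.z * u * (d.z * (d.z * d.z)))) := by
                  rw [this, mul_one]
              _ = _ := by group
        _ = 1 := by rw [hu3, one_mul, ← mul_assoc, hz2]
    · refine Or.inr (Or.inr (hfix (Z * Z * u * Z) (by rw [h]; simp only [map_mul]) ?_))
      show d.z * d.z * u * d.z * (d.z * (d.z * d.z * u * d.z) * (d.z * d.z)) *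
        (d.z * d.z * (d.z * d.z * u * d.z) * d.z) = 1
      calc _ = d.z * d.z * ((u : G) * (d.z * (d.z * d.z * d.z) * u * (d.z * d.z)) *
            (d.z * (d.z * d.z * d.z) * d.z * u * d.z)) * d.z := by group
        _ = 1 := by rw [hz2, mul_one, hu3, mul_one, hz2]
  -- the second generator of the four group
  have hftrip : d.Trip (d.f * u * d.f) := by
    refine ⟨?_, tri_conj d.ff ?_ (Or.inl ?_) d.z_cube hutri⟩
    · have h1 : d.f * d.t * d.f = d.t * d.v := d.ftf
      have hc : Commute (u : G) (d.t * d.v) := (htc u).mul_right huv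
      have h2 : d.t = d.f * (d.t * d.v) * d.f := by
        rw [← h1, show d.f * (d.f * d.t * d.f) * d.f = (d.f * d.f) * d.t * (d.f * d.f) by group, d.ff, one_mul,
          mul_one]
      calc d.f * u * d.f * d.t = d.f * u * d.f * (d.f * (d.t * d.v) * d.f) := by rw [← h2]
        _ = d.f * ((u : G) * (d.t * d.v)) * d.f := by rw [conj_invol_mul d.ff]
        _ = d.f * (d.t * d.v * u) * d.f := by rw [hc.eq]
        _ = d.t * (d.f * u * d.f) := by rw [← conj_invol_mul d.ff, ← h2]
    · rw [d.fv, mul_assoc, d.ff, mul_one]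
    · rw [← d.zf, mul_assoc, d.ff, mul_one]
  have hfu : (u : G) * d.f = d.f * u := by
    have hz2 : d.z * d.z * d.z = 1 := d.z_cube
    have ff' : d.f * (d.f * u * d.f) * d.f = u := by
      rw [show d.f * (d.f * u * d.f) * d.f = (d.f * d.f) * u * (d.f * d.f) by group, d.ff, one_mul, mul_one]
    have hcz : Commute d.f d.z := d.zf.symm
    rcases huniq _ hftrip with h | h | h
    · calc (u : G) * d.f = (d.f * u * d.f) * d.f := by rw [h]
        _ = d.f * u := by rw [mul_assoc, d.ff, mul_one]
    all_goals exfalso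
    · apply huz
      have e1 : (u : G) = d.z * d.z * u * d.z := by
        calc (u : G) = d.f * (d.z * u * (d.z * d.z)) * d.f := by rw [← h, ff']
          _ = (d.f * d.z) * u * ((d.z * d.z) * d.f) := by group
          _ = (d.z * d.f) * u * (d.f * (d.z * d.z)) := by rw [hcz.eq, (hcz.mul_right hcz).eq]
          _ = d.z * (d.f * u * d.f) * (d.z * d.z) := by group
          _ = d.z * d.z * u * ((d.z * d.z * d.z) * d.z) := by rw [h]; group
          _ = _ := by rw [hz2, one_mul]
      calc (u : G) * d.z = (d.z * d.z * d.z) * u * d.z := by rw [hz2, one_mul]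
        _ = d.z * (d.z * d.z * u * d.z) := by group
        _ = d.z * u := by rw [← e1]
    · apply huz
      have e1 : (u : G) = d.z * u * (d.z * d.z) := by
        calc (u : G) = d.f * (d.z * d.z * u * d.z) * d.f := by rw [← h, ff']
          _ = (d.f * (d.z * d.z)) * u * (d.z * d.f) := by group
          _ = (d.z * d.z * d.f) * u * (d.f * d.z) := by rw [(hcz.mul_right hcz).eq, ← hcz.eq]
          _ = d.z * d.z * (d.f * u * d.f) * d.z := by group
          _ = d.z * (d.z * d.z * d.z) * u * (d.z * d.z) := by rw [h]; group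
          _ = _ := by rw [hz2, mul_one]
      calc (u : G) * d.z = d.z * u * (d.z * d.z) * d.z := by rw [← e1]
        _ = d.z * u * (d.z * d.z * d.z) := by group
        _ = d.z * u := by rw [hz2, mul_one]
  refine ⟨u, htc u, huv, hfu, hutri, huniq _ ⟨?_, tri_conj d.v'v' ?_ (Or.inr d.v'zv') d.z_cube hutri⟩⟩
  · exact (((show Commute d.v' d.t from d.v't).mul_left (htc u)).mul_left d.v't).eq
  · rw [← d.vv', mul_assoc, d.v'v', mul_one]

end Data

end Cfsg.Agent.Lie.SymEightLocal
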