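import Cfsg.Agent.Lib.Lie.SymEightLocal.Local

/-!
The centraliser of the central involution: either it normalises the torus or it is an extension of `Sym(6)`.
-/

set_option autoImplicit false

namespace Cfsg.Agent.Lie.SymEightLocal

open Subgroup Equiv

set_option maxHeartbeats 1000000

theorem dih_center : ∀ x : DihedralGroup 4, x ≠ 1 →
    x = DihedralGroup.r 2 ∨ ∃ y, x * y * x⁻¹ * y⁻¹ = DihedralGroup.r 2 := by decide +kernel

namespace Data

variable {G : Type*} [Group G] (d : Data G)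

/-- the centraliser of `t` -/
def Ct : Subgroup G := centralizer ({d.t} : Set G)

theorem mem_Ct {g : G} : g ∈ d.Ct ↔ g * d.t = d.t * g := mem_centralizer_singleton_iff

/-- the central subgroup of order two -/
def Tc : Subgroup d.Ct := zpowers ⟨d.t, d.mem_Ct.2 rfl⟩

instance Tc_normal : d.Tc.Normal := ⟨fun x hx g => by
  obtain ⟨k, rfl⟩ := mem_zpowers_iff.1 hx
  have hc : Commute g (⟨d.t, d.mem_Ct.2 rfl⟩ : d.Ct) := Subtype.ext (d.mem_Ct.1 g.2)
  rw [(hc.zpow_right k).eq, mul_inv_cancel_right]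
  exact zpow_mem (mem_zpowers _) k⟩

theorem mem_Tc [Finite G] {x : d.Ct} : x ∈ d.Tc ↔ (x : G) = 1 ∨ (x : G) = d.t := by
  set τ : d.Ct := ⟨d.t, d.mem_Ct.2 rfl⟩
  have h2 : orderOf τ = 2 := orderOf_eq_prime (hp := ⟨Nat.prime_two⟩)
    (Subtype.ext (by rw [pow_two]; exact d.ttt)) fun e => d.t_ne (congrArg Subtype.val e)
  constructor
  · intro hx
    obtain ⟨k, rfl⟩ := mem_zpowers_iff.1 hx
    rw [← zpow_mod_orderOf, h2]
    rcases Int.emod_two_eq_zero_or_one k with e | e
    · left; rw [show ((2 : ℕ) : ℤ) = 2 from rfl, e, zpow_zero]; rfl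
    · right; rw [show ((2 : ℕ) : ℤ) = 2 from rfl, e, zpow_one]
  · rintro (h | h)
    · rw [show x = 1 from Subtype.ext h]; exact one_mem _
    · rw [show x = τ from Subtype.ext h]; exact mem_zpowers τ

/-- Two elements of the torus are congruent modulo `t` only when equal. -/
theorem sep [Finite G] {x y : d.Ct} (hx : (x : G) ^ 3 = 1) (hy : (y : G) ∈ d.D)
    (h : (x : d.Ct ⧸ d.Tc) = (y : d.Ct ⧸ d.Tc)) : (x : G) = y := by
  rcases d.mem_Tc.1 (QuotientGroup.eq.1 h.symm) with e | e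
  · have e' : (y : G)⁻¹ * x = 1 := by simpa using e
    exact (inv_mul_eq_one.1 e').symm
  · exfalso
    have e' : (x : G) = y * d.t := by
      have e'' : (y : G)⁻¹ * x = d.t := by simpa using e
      rw [← e'', mul_inv_cancel_left]
    rw [e', (show Commute (y : G) d.t from d.D_t hy).mul_pow, d.D_exp hy, one_mul, pow_succ, pow_two,
      d.ttt, one_mul] at hx
    exact d.t_ne hx

theorem sylow_three [Finite G] : ¬ 27 ∣ Nat.card (d.Ct ⧸ d.Tc) := fun h =>
  d.h27 (h.trans ((Subgroup.card_quotient_dvd_card _).trans (Subgroup.card_subgroup_dvd_card _)))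

theorem t_comm_b : d.b * d.t = d.t * d.b := by
  calc d.b * d.t = d.b * d.t * d.b * d.b := by rw [mul_assoc _ d.b d.b, d.hb, mul_one]
    _ = _ := by rw [t, d.hbt]

theorem dichotomy [Finite G] :
    (∀ g : G, g * d.t = d.t * g → d.NormD g) ∨ Nonempty (d.Ct ⧸ d.Tc ≃* Perm (Fin 6)) := by
  classical
  haveI : Fact (Nat.Prime 3) := ⟨Nat.prime_three⟩
  set C := d.Ct with hCdef
  set π := QuotientGroup.mk' d.Tc with hπdef
  have hDC : d.D ≤ C := fun x hx => d.mem_Ct.2 (d.D_t hx)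
  let ι : d.D →* (C ⧸ d.Tc) := π.comp (Subgroup.inclusion hDC)
  have hι : Function.Injective ι := fun x y h =>
    Subtype.ext (d.sep (x := Subgroup.inclusion hDC x) (y := Subgroup.inclusion hDC y) (d.D_exp x.2) y.2 h)
  set S := ι.range with hSdef
  have hS9 : Nat.card S = 9 := by rw [hSdef, ← Nat.card_congr (MonoidHom.ofInjective hι).toEquiv, d.card_D]
  obtain ⟨P, hP⟩ := IsPGroup.exists_le_sylow (P := S) (p := 3) (IsPGroup.of_card (n := 2) (by rw [hS9]; rfl))
  have hSP : S = P := by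
    refine Subgroup.eq_of_le_of_card_ge hP ?_
    obtain ⟨k, hk⟩ := IsPGroup.iff_card.1 P.isPGroup'
    rw [hS9, hk]
    rcases (show k ≤ 2 ∨ 3 ≤ k by omega) with h | h
    · calc 3 ^ k ≤ 3 ^ 2 := Nat.pow_le_pow_right (by norm_num) h
        _ = 9 := rfl
    · exact absurd ((pow_dvd_pow 3 h).trans (hk ▸ Subgroup.card_subgroup_dvd_card _)) d.sylow_three
  -- conjugation in the quotient is conjugation in the centraliser
  have hconj : ∀ (g : C) (x y : d.D), π g * ι x * (π g)⁻¹ = ι y → (g : G) * x * (g : G)⁻¹ = y := by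
    intro g x y h
    refine d.sep (x := g * Subgroup.inclusion hDC x * g⁻¹) (y := Subgroup.inclusion hDC y) ?_ y.2 ?_
    · simp only [Subgroup.coe_mul, Subgroup.coe_inv, conj_pow]
      rw [show ((Subgroup.inclusion hDC x : C) : G) = (x : G) from rfl, d.D_exp x.2, mul_one, mul_inv_cancel]
    · exact h
  have hmemS : ∀ g : C, (g : G) ∈ d.D → π g ∈ S := fun g hg => ⟨⟨g, hg⟩, rfl⟩
  have hcentS : ∀ g : C, (∀ x ∈ d.D, (g : G) * x = x * g) → π g ∈ S := by
    intro g hg
    obtain ⟨x, hx, e | e⟩ := d.cent_D hg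
    · exact hmemS g (e ▸ hx)
    · refine ⟨⟨x, hx⟩, ?_⟩
      show π (Subgroup.inclusion hDC ⟨x, hx⟩) = π g
      refine (QuotientGroup.eq).2 (d.mem_Tc.2 (Or.inr ?_))
      simp only [Subgroup.coe_mul, Subgroup.coe_inv, e]
      show x⁻¹ * (x * d.t) = d.t
      rw [inv_mul_cancel_left]
  have hC : centralizer (S : Set (C ⧸ d.Tc)) = S := by
    refine le_antisymm (fun q hq => ?_) ?_
    · obtain ⟨g, rfl⟩ := QuotientGroup.mk'_surjective _ q
      refine hcentS g fun x hx => mul_inv_eq_iff_eq_mul.1 (hconj g ⟨x, hx⟩ ⟨x, hx⟩ ?_)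
      rw [← mem_centralizer_iff.1 hq (ι ⟨x, hx⟩) ⟨_, rfl⟩, mul_inv_cancel_right]
    · rintro _ ⟨x, rfl⟩
      rw [mem_centralizer_iff]
      rintro _ ⟨y, rfl⟩
      rw [← map_mul, ← map_mul]
      refine congrArg ι (Subtype.ext ?_)
      obtain ⟨i, j, hx'⟩ := d.mem_D.1 x.2
      obtain ⟨k, l, hy'⟩ := d.mem_D.1 y.2
      have hc : Commute d.z d.w := ZW_comm.map d.φ
      show (y : G) * x = x * y
      rw [hx', hy']
      exact ((((Commute.refl _).pow_pow _ _).mul_right (hc.pow_pow _ _)).mul_left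
        ((hc.symm.pow_pow _ _).mul_right ((Commute.refl _).pow_pow _ _))).eq
  -- normalisers
  set N := normalizer (S : Set (C ⧸ d.Tc)) with hNdef
  have hnorm : ∀ g : C, π g ∈ N ↔ d.NormD (g : G) := by
    intro g
    constructor
    · intro h x hx
      obtain ⟨y, hy⟩ := (Subgroup.mem_normalizer_iff.1 h _).1 ⟨⟨x, hx⟩, rfl⟩
      exact (hconj g ⟨x, hx⟩ y hy.symm) ▸ y.2
    · intro h
      rw [hNdef, mem_normalizer_iff_map_conj_eq]
      refine Subgroup.eq_of_le_of_card_ge ?_ (by rw [card_map_of_injective (MulAut.conj _).injective])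
      rintro _ ⟨_, ⟨x, rfl⟩, rfl⟩
      exact ⟨⟨_, h x x.2⟩, rfl⟩
  have hcent : ∀ q ∈ S, q ≠ 1 → centralizer ({q} : Set (C ⧸ d.Tc)) ≤ N := by
    rintro _ ⟨x, rfl⟩ hne q hq
    obtain ⟨g, rfl⟩ := QuotientGroup.mk'_surjective _ q
    refine (hnorm g).2 (d.cent_norm x.2 (fun e => hne ?_) (d.mem_Ct.1 g.2) ?_)
    · rw [show x = 1 from Subtype.ext e, map_one]
    · refine mul_inv_eq_iff_eq_mul.1 (hconj g x x ?_)
      rw [mem_centralizer_singleton_iff.1 hq, mul_inv_cancel_right]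
  -- the dihedral quotient
  have hNC : ∀ g : G, d.NormD g → g ∈ C := fun g hg => d.mem_Ct.2 (d.norm_t hg)
  set U0 : PQ := (1, swap 0 1)
  have hU : d.NormD (d.φ U0) := d.norm_φ (show swap 0 1 * swap 3 4 = swap 3 4 * swap 0 1 by decide +kernel)
  let cls : ∀ g : G, d.NormD g → (↥N ⧸ S.subgroupOf N) := fun g hg =>
    ((⟨π ⟨g, hNC g hg⟩, (hnorm ⟨g, hNC g hg⟩).2 hg⟩ : N) : ↥N ⧸ S.subgroupOf N)
  have hmul : ∀ (g h : G) (hg : d.NormD g) (hh : d.NormD h), cls g hg * cls h hh = cls (g * h) (d.normD_mul hg hh) :=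
    fun g h hg hh => rfl
  have hcls : ∀ (g h : G) (hg : d.NormD g) (hh : d.NormD h), g = h → cls g hg = cls h hh := by
    rintro g _ hg hh rfl; rfl
  have hone : ∀ (g : G) (hg : d.NormD g), g * d.z * g⁻¹ = d.z → g * d.w * g⁻¹ = d.w → cls g hg = 1 := by
    intro g hg h1 h2
    refine (QuotientGroup.eq_one_iff _).2 (Subgroup.mem_subgroupOf.2 (hcentS ⟨g, hNC g hg⟩ fun x hx => ?_))
    obtain ⟨i, j, rfl⟩ := d.mem_D.1 hx
    exact (((show Commute g d.z from mul_inv_eq_iff_eq_mul.1 h1).pow_right _).mul_right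
      ((show Commute g d.w from mul_inv_eq_iff_eq_mul.1 h2).pow_right _)).eq
  have bz : d.b * d.z * d.b⁻¹ = d.w := by rw [d.bi]; exact d.hbz
  have bw : d.b * d.w * d.b⁻¹ = d.z := by rw [d.bi]; exact d.bwz
  have uz : d.φ U0 * d.z * (d.φ U0)⁻¹ = d.z := by
    rw [z, ← map_inv, ← map_mul, ← map_mul]; exact congrArg d.φ (Prod.ext (by decide) (by decide +kernel))
  have uw : d.φ U0 * d.w * (d.φ U0)⁻¹ = d.w⁻¹ := by
    rw [w, ← map_inv, ← map_inv, ← map_mul, ← map_mul]
    exact congrArg d.φ (Prod.ext (by decide) (by decide +kernel))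
  have step : ∀ {s k x y y' : G}, k * x * k⁻¹ = y → s * y * s⁻¹ = y' → (s * k) * x * (s * k)⁻¹ = y' := by
    intro s k x y y' h h'
    rw [← h', ← h]; group
  have inv_step : ∀ {s y y' : G}, s * y * s⁻¹ = y' → s * y⁻¹ * s⁻¹ = y'⁻¹ := fun {s y y'} h => by
    rw [← conj_inv, h]
  set r := d.b * d.φ U0 with hr
  have hrN : d.NormD r := d.normD_mul d.b_norm hU
  have rz : r * d.z * r⁻¹ = d.w := step uz bz
  have rw' : r * d.w * r⁻¹ = d.z⁻¹ := step uw (inv_step bw)
  have r2z : r * r * d.z * (r * r)⁻¹ = d.z⁻¹ := step rz rw'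
  have r2w : r * r * d.w * (r * r)⁻¹ = d.w⁻¹ := step rw' (inv_step rz)
  have ha : cls d.b d.b_norm * cls d.b d.b_norm = 1 := by
    refine (hmul _ _ d.b_norm d.b_norm).trans (hone _ (d.normD_mul d.b_norm d.b_norm) ?_ ?_) <;> rw [d.hb] <;> simp
  have hρ : cls r hrN ^ 4 = 1 := by
    rw [show (4 : ℕ) = 2 + 2 from rfl, pow_add, pow_two, hmul r r hrN hrN,
      hmul (r * r) (r * r) (d.normD_mul hrN hrN) (d.normD_mul hrN hrN)]
    exact hone _ (d.normD_mul (d.normD_mul hrN hrN) (d.normD_mul hrN hrN)) ((step r2z (inv_step r2z)).trans (inv_inv _)) ((step r2w (inv_step r2w)).trans (inv_inv _))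
  have hab : cls d.b d.b_norm * cls r hrN * cls d.b d.b_norm = (cls r hrN)⁻¹ := by
    refine eq_inv_of_mul_eq_one_left ?_
    rw [hmul d.b r d.b_norm hrN, hmul (d.b * r) d.b (d.normD_mul d.b_norm hrN) d.b_norm,
      hmul (d.b * r * d.b) r (d.normD_mul (d.normD_mul d.b_norm hrN) d.b_norm) hrN]
    refine hone _ (d.normD_mul (d.normD_mul (d.normD_mul d.b_norm hrN) d.b_norm) hrN) ?_ ?_
    · rw [mul_assoc (d.b * r) d.b r]
      exact step (step rz bw) (step rz bw)
    · rw [mul_assoc (d.b * r) d.b r]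
      exact (step (step rw' (inv_step bz)) (inv_step (step rw' (inv_step bz)))).trans (inv_inv _)
  let ψ := dihLift (cls d.b d.b_norm) (cls r hrN) ha hρ hab
  have hψinj : Function.Injective ψ := by
    rw [injective_iff_map_eq_one]
    intro x hx
    by_contra hx1
    have hr2 : ψ (DihedralGroup.r 2) = 1 := by
      rcases dih_center x hx1 with rfl | ⟨y, hy⟩
      · exact hx
      · rw [← hy, map_mul, map_mul, map_mul, map_inv, map_inv, hx, one_mul, inv_one, mul_one, mul_inv_cancel]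
    change cls r hrN ^ (2 : ZMod 4).val = 1 at hr2
    rw [show (2 : ZMod 4).val = 2 from rfl, pow_two, hmul r r hrN hrN] at hr2
    have h' := Subgroup.mem_subgroupOf.1 ((QuotientGroup.eq_one_iff _).1 hr2)
    obtain ⟨x', hx'⟩ := h'
    have e := hconj ⟨r * r, hNC _ (d.normD_mul hrN hrN)⟩ ⟨d.z, d.zD⟩ ⟨d.z, d.zD⟩ (by
      rw [show π ⟨r * r, hNC _ (d.normD_mul hrN hrN)⟩ = ι x' from hx'.symm, ← map_inv, ← map_mul, ← map_mul]
      refine congrArg ι (Subtype.ext ?_)
      obtain ⟨i, j, hxij⟩ := d.mem_D.1 x'.2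
      have hc : Commute d.z d.w := ZW_comm.map d.φ
      show (x' : G) * d.z * (x' : G)⁻¹ = d.z
      rw [hxij, (((Commute.refl d.z).pow_left _).mul_left (hc.symm.pow_left _)).eq, mul_inv_cancel_right])
    rw [show ((⟨r * r, hNC _ (d.normD_mul hrN hrN)⟩ : C) : G) = r * r from rfl] at e
    have e2 := r2z.symm.trans e
    change (d.φ Z0)⁻¹ = d.φ Z0 at e2
    rw [← map_inv] at e2
    exact absurd (congrArg Prod.fst (d.inj e2)) (by decide)
  have hψsurj : Function.Surjective ψ := by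
    intro q
    obtain ⟨⟨q', hq'⟩, rfl⟩ := QuotientGroup.mk_surjective q
    obtain ⟨g, rfl⟩ := QuotientGroup.mk'_surjective _ q'
    have hg := (hnorm g).1 hq'
    show cls g hg ∈ Set.range ψ
    have hb : cls d.b d.b_norm ∈ ψ.range := ⟨DihedralGroup.sr 0, by
      show cls d.b d.b_norm * cls r hrN ^ (0 : ZMod 4).val = _
      rw [show (0 : ZMod 4).val = 0 from rfl, pow_zero, mul_one]⟩
    have hρr : cls r hrN ∈ ψ.range := ⟨DihedralGroup.r 1, by
      show cls r hrN ^ (1 : ZMod 4).val = _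
      rw [show (1 : ZMod 4).val = 1 from rfl, pow_one]⟩
    have hu : cls (d.φ U0) hU ∈ ψ.range := by
      have e := mul_mem hb hρr
      rw [hmul d.b r d.b_norm hrN] at e
      rwa [hcls (d.b * r) (d.φ U0) (d.normD_mul d.b_norm hrN) hU (by rw [hr, ← mul_assoc, d.hb, one_mul])] at e
    have hv : cls (d.b * d.φ U0 * d.b) (d.normD_mul (d.normD_mul d.b_norm hU) d.b_norm) ∈ ψ.range := by
      rw [← hmul _ _ (d.normD_mul d.b_norm hU) d.b_norm, ← hmul _ _ d.b_norm hU]; exact mul_mem (mul_mem hb hu) hb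
    -- an element fixing both lines
    have hfix : ∀ (g : G) (hg : d.NormD g), g ∈ d.φ.range → cls g hg ∈ ψ.range := by
      rintro _ hg ⟨u, rfl⟩
      have e1 : d.φ u * d.z * (d.φ u)⁻¹ = d.z ∨ d.φ u * d.z * (d.φ u)⁻¹ = d.z⁻¹ := by
        rw [z, ← map_inv, ← map_mul, ← map_mul, ← map_inv]
        rcases norm_c3 u.1 with h | h
        · exact Or.inl (congrArg d.φ (Prod.ext h (by simp)))
        · refine Or.inr (congrArg d.φ (Prod.ext (h.trans ?_) (by simp)))
          show c3 * c3 = c3⁻¹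
          exact eq_inv_of_mul_eq_one_left (by decide)
      have e2 : d.φ u * d.w * (d.φ u)⁻¹ = d.w ∨ d.φ u * d.w * (d.φ u)⁻¹ = d.w⁻¹ := by
        obtain ⟨i, j, h⟩ := d.mem_D.1 (hg _ d.wD)
        simp only [z, w, ← map_pow, ← map_mul, ← map_inv] at h ⊢
        rcases norm_c5_mem u.2 j (by simpa using congrArg Prod.snd (d.inj h)) with h' | h'
        · exact Or.inl (congrArg d.φ (Prod.ext (by simp) h'))
        · refine Or.inr (congrArg d.φ (Prod.ext (by simp) (h'.trans ?_)))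
          show c5 ^ 2 = c5⁻¹
          exact eq_inv_of_mul_eq_one_left (by decide +kernel)
      have vz : (d.b * d.φ U0 * d.b) * d.z * (d.b * d.φ U0 * d.b)⁻¹ = d.z⁻¹ := step bz (step uw (inv_step bw))
      have vw : (d.b * d.φ U0 * d.b) * d.w * (d.b * d.φ U0 * d.b)⁻¹ = d.w := step bw (step uz bz)
      have key : ∀ (s : G) (hs : d.NormD s), cls s hs ∈ ψ.range →
          (s * d.φ u) * d.z * (s * d.φ u)⁻¹ = d.z → (s * d.φ u) * d.w * (s * d.φ u)⁻¹ = d.w →
          cls (d.φ u) hg ∈ ψ.range := by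
        intro s hs hmem h1 h2
        have e := hone _ (d.normD_mul hs hg) h1 h2
        rw [← hmul _ _ hs hg] at e
        rw [eq_inv_of_mul_eq_one_right e]
        exact inv_mem hmem
      rcases e1 with a | a <;> rcases e2 with c | c
      · rw [hone _ hg a c]; exact one_mem _
      · exact key _ hU hu (step a uz) ((step c (inv_step uw)).trans (inv_inv _))
      · exact key _ (d.normD_mul (d.normD_mul d.b_norm hU) d.b_norm) hv ((step a (inv_step vz)).trans (inv_inv _)) (step c vw)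
      · refine key _ (d.normD_mul (d.normD_mul (d.normD_mul d.b_norm hU) d.b_norm) hU) ?_ ?_ ?_
        · rw [← hmul _ _ (d.normD_mul (d.normD_mul d.b_norm hU) d.b_norm) hU]; exact mul_mem hv hu
        · exact (step a (inv_step (step uz vz))).trans (inv_inv _)
        · exact (step c (inv_step (step uw (inv_step vw)))).trans (inv_inv _)
    rcases d.norm_cases hg with h | h
    · exact hfix g hg h
    · have e := mul_mem hb (hfix _ (d.normD_mul d.b_norm hg) h)
      rw [hmul _ _ d.b_norm (d.normD_mul d.b_norm hg)] at e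
      rwa [hcls (d.b * (d.b * g)) g (d.normD_mul d.b_norm (d.normD_mul d.b_norm hg)) hg (by rw [← mul_assoc, d.hb, one_mul])] at e
  let eN := (MulEquiv.ofBijective ψ ⟨hψinj, hψsurj⟩).symm
  rcases S3333.result P S hSP hS9 hC eN hcent with hn | h
  · refine Or.inl fun g hg => (hnorm ⟨g, d.mem_Ct.2 hg⟩).1 ?_
    rw [hNdef, Subgroup.normalizer_eq_top_iff.2 hn]
    exact mem_top _
  · exact Or.inr h

end Data

end Cfsg.Agent.Lie.SymEightLocal
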