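import Mathlib
import Cfsg.Agent.Lib.Fusion.TransferPow

/-!
Odd index from an involution with a unique fixed point, and transfer into groups of order two.
-/

set_option autoImplicit false

namespace Cfsg.Agent.Lie.SymEightLocal

variable {G : Type*} [Group G] [Finite G]

/-- A subgroup containing the centraliser of an involution and controlling its fusion has odd index. -/
theorem odd_relIndex {X Y : Subgroup G} (hXY : X ≤ Y) {t : G} (htX : t ∈ X) (htt : t * t = 1)
    (hC : ∀ g ∈ Y, g * t = t * g → g ∈ X)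
    (hf : ∀ g ∈ Y, g⁻¹ * t * g ∈ X → ∃ h ∈ X, h * t * h⁻¹ = g⁻¹ * t * g) :
    Odd (X.relIndex Y) := by
  classical
  haveI : Fact (Nat.Prime 2) := ⟨Nat.prime_two⟩
  set t' : Y := ⟨t, hXY htX⟩
  have hpg : IsPGroup 2 (Subgroup.zpowers t') := by
    obtain ⟨j, -, hj⟩ := (Nat.dvd_prime_pow Nat.prime_two (m := 1)).1
      (show orderOf t' ∣ 2 ^ 1 by
        rw [pow_one]; exact orderOf_dvd_of_pow_eq_one (Subtype.ext (by rw [pow_two]; exact htt)))
    exact IsPGroup.of_card (n := j) (by rw [Nat.card_zpowers, hj])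
  have h1 := hpg.card_modEq_card_fixedPoints (Y ⧸ X.subgroupOf Y)
  have hfix : MulAction.fixedPoints (Subgroup.zpowers t') (Y ⧸ X.subgroupOf Y) =
      {((1 : Y) : Y ⧸ X.subgroupOf Y)} := by
    ext p
    induction p using QuotientGroup.induction_on with
    | H g =>
      constructor
      · intro hp
        have h := hp ⟨t', Subgroup.mem_zpowers t'⟩
        change ((t' * g : Y) : Y ⧸ X.subgroupOf Y) = (g : Y ⧸ X.subgroupOf Y) at h
        rw [QuotientGroup.eq, Subgroup.mem_subgroupOf] at h
        have hm : (g : G)⁻¹ * t * g ∈ X := by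
          have e := inv_mem h
          simpa [t', mul_assoc] using e
        obtain ⟨k, hk, hke⟩ := hf g g.2 hm
        have hgk : (g : G) * k ∈ X := hC _ (mul_mem g.2 (hXY hk)) (by
          calc (g : G) * k * t = g * (k * t * k⁻¹) * k := by group
            _ = t * (g * k) := by rw [hke]; group)
        refine Set.mem_singleton_iff.2 ((QuotientGroup.eq).2 ?_)
        rw [Subgroup.mem_subgroupOf]
        simpa [mul_assoc] using mul_mem hk (inv_mem hgk)
      · intro hp
        rw [Set.mem_singleton_iff.1 hp]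
        rintro ⟨s, hs⟩
        change ((s * 1 : Y) : Y ⧸ X.subgroupOf Y) = _
        rw [QuotientGroup.eq, mul_one, mul_one, Subgroup.mem_subgroupOf]
        have : s ∈ X.subgroupOf Y := (Subgroup.zpowers_le.2 (show t' ∈ X.subgroupOf Y from htX)) hs
        exact inv_mem this
  rw [hfix] at h1
  rw [Subgroup.relIndex, Subgroup.index_eq_card, Nat.odd_iff]
  simpa [Nat.ModEq] using h1

theorem odd_index {X : Subgroup G} {t : G} (htX : t ∈ X) (htt : t * t = 1)
    (hC : ∀ g, g * t = t * g → g ∈ X)
    (hf : ∀ g, g⁻¹ * t * g ∈ X → ∃ h ∈ X, h * t * h⁻¹ = g⁻¹ * t * g) : Odd X.index := by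
  have h := odd_relIndex (Y := ⊤) le_top htX htt (fun g _ => hC g) (fun g _ => hf g)
  rwa [Subgroup.relIndex_top_right] at h

/-- The transfer of a sign map of an odd index subgroup does not kill an involution all of whose
conjugates in the subgroup have sign `-1`. -/
theorem transfer_neg {X : Subgroup G} (hodd : Odd X.index) (χ : X →* ℤˣ) {x : G} (hx : x ∈ X)
    (hxx : x * x = 1) (hall : ∀ (a : G) (h : a⁻¹ * x * a ∈ X), χ ⟨_, h⟩ = -1) :
    MonoidHom.transfer χ x = -1 := by
  have hv : χ ⟨x, hx⟩ = -1 := by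
    have h := hall 1 (by simpa using hx)
    simpa using h
  have hpow : ∀ m : ℕ, x ^ m = if Even m then 1 else x := by
    intro m
    rcases Nat.even_or_odd' m with ⟨k, rfl | rfl⟩
    · rw [pow_mul, pow_two, hxx, one_pow, if_pos (even_two_mul k)]
    · rw [pow_succ, pow_mul, pow_two, hxx, one_pow, one_mul,
        if_neg (Nat.not_even_iff_odd.2 ⟨k, rfl⟩)]
  rw [Fusion.transfer_eq_map_pow χ x hx, hv, hodd.neg_one_pow]
  intro m a h
  rw [hv]
  by_cases hm : Even m
  · rw [hm.neg_one_pow]
    exact (congrArg χ (Subtype.ext (by simp [hpow, hm]))).trans (map_one χ)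
  · rw [(Nat.not_even_iff_odd.1 hm).neg_one_pow]
    have h' : a⁻¹ * x * a ∈ X := by simpa [hpow, hm] using h
    exact (congrArg χ (Subtype.ext (by simp [hpow, hm]))).trans (hall a h')

/-- Order of the centraliser of a conjugate. -/
theorem card_cent_conj (g x : G) :
    Nat.card (Subgroup.centralizer ({g * x * g⁻¹} : Set G)) =
      Nat.card (Subgroup.centralizer ({x} : Set G)) := by
  refine (Nat.card_congr (Equiv.subtypeEquiv (MulAut.conj g).toEquiv fun a => ?_)).symm
  simp only [Subgroup.mem_centralizer_singleton_iff]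
  show _ ↔ g * a * g⁻¹ * (g * x * g⁻¹) = g * x * g⁻¹ * (g * a * g⁻¹)
  constructor
  · intro h
    calc g * a * g⁻¹ * (g * x * g⁻¹) = g * (a * x) * g⁻¹ := by group
      _ = g * (x * a) * g⁻¹ := by rw [h]
      _ = _ := by group
  · intro h
    calc a * x = g⁻¹ * (g * a * g⁻¹ * (g * x * g⁻¹)) * g := by group
      _ = g⁻¹ * (g * x * g⁻¹ * (g * a * g⁻¹)) * g := by rw [h]
      _ = x * a := by group

end Cfsg.Agent.Lie.SymEightLocal
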