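import Cfsg.Agent.Lib.Lie.SymEightLocal.Setup
import Cfsg.Agent.S3333

/-!
The normaliser of the torus, the centraliser of the central involution of its centraliser.
-/

set_option autoImplicit false

namespace Cfsg.Agent.Lie.SymEightLocal

open Subgroup Equiv

set_option maxHeartbeats 1000000

/-- a homomorphism out of the dihedral group of order eight -/
def dihLift {H : Type*} [Group H] (a ρ : H) (ha : a * a = 1) (hρ : ρ ^ 4 = 1) (h : a * ρ * a = ρ⁻¹) :
    DihedralGroup 4 →* H :=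
  MonoidHom.mk' (fun x => match x with
    | .r i => ρ ^ i.val
    | .sr i => a * ρ ^ i.val) (by
    have hp : ∀ n : ℕ, ρ ^ n = ρ ^ (n % 4) := fun n => by
      conv_lhs => rw [← Nat.mod_add_div n 4, pow_add, pow_mul, hρ, one_pow, mul_one]
    have hc : ∀ n : ℕ, ρ ^ n * a = a * ρ ^ (3 * n) := fun n => by
      have e : a * ρ * a = ρ ^ 3 := by
        rw [h]; refine inv_eq_of_mul_eq_one_right ?_; rw [← pow_succ', hρ]
      have ei : a⁻¹ = a := inv_eq_of_mul_eq_one_right ha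
      rw [pow_mul, ← e]
      conv_rhs => arg 2; arg 1; rw [show a * ρ * a = a * ρ * a⁻¹ by rw [ei]]
      rw [conj_pow, ← mul_assoc, ← mul_assoc, ha, one_mul, ei]
    have e1 : ∀ i j : ZMod 4, (i + j).val = (i.val + j.val) % 4 := fun i j => ZMod.val_add i j
    have e2 : ∀ i j : ZMod 4, (j - i).val = (3 * i.val + j.val) % 4 := by decide
    rintro (i | i) (j | j)
    · show ρ ^ (i + j).val = ρ ^ i.val * ρ ^ j.val
      rw [← pow_add, hp (i.val + j.val), e1]
    · show a * ρ ^ (j - i).val = ρ ^ i.val * (a * ρ ^ j.val)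
      rw [← mul_assoc, hc, mul_assoc, ← pow_add, hp (3 * i.val + j.val), e2]
    · show a * ρ ^ (i + j).val = a * ρ ^ i.val * ρ ^ j.val
      rw [mul_assoc, ← pow_add, hp (i.val + j.val), e1]
    · show ρ ^ (j - i).val = a * ρ ^ i.val * (a * ρ ^ j.val)
      rw [← mul_assoc, mul_assoc a _ a, hc, ← mul_assoc, ha, one_mul, ← pow_add, hp (3 * i.val + j.val), e2])

theorem D0_cases : ∀ i j : Fin 3, i.val ≠ 0 → j.val ≠ 0 → ∃ k l : Fin 2,
    ((swap 0 1 : Perm (Fin 3)) ^ k.val * c3 * (swap 0 1 ^ k.val)⁻¹ = c3 ^ i.val) ∧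
      ((swap 0 1 : Perm (Fin 5)) ^ l.val * c5 * (swap 0 1 ^ l.val)⁻¹ = c5 ^ j.val) := by decide +kernel

theorem T0_norm : ∀ π : Perm (Fin 5), π * swap 3 4 = swap 3 4 * π →
    (π * c5 * π⁻¹ = c5 ∨ π * c5 * π⁻¹ = c5 ^ 2) := by decide +kernel

theorem norm_T0 : ∀ π : Perm (Fin 5), (π * c5 * π⁻¹ = c5 ∨ π * c5 * π⁻¹ = c5 ^ 2) →
    π * swap 3 4 = swap 3 4 * π := by decide +kernel

theorem norm_c5_mem : ∀ (π : Perm (Fin 5)) (j : Fin 3), π * c5 * π⁻¹ = c5 ^ j.val →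
    π * c5 * π⁻¹ = c5 ∨ π * c5 * π⁻¹ = c5 ^ 2 := by decide +kernel

namespace Data

variable {G : Type*} [Group G] (d : Data G)

/-- the first three-element -/
abbrev z : G := d.φ Z0
/-- the second three-element -/
abbrev w : G := d.φ W0
/-- the involution centralising the torus -/
abbrev t : G := d.φ T0

theorem bi : d.b⁻¹ = d.b := inv_eq_of_mul_eq_one_right d.hb

theorem bwz : d.b * d.w * d.b = d.z := by
  rw [z, w, ← d.hbz, show d.b * (d.b * d.φ Z0 * d.b) * d.b = (d.b * d.b) * d.φ Z0 * (d.b * d.b) by group,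
    d.hb, one_mul, mul_one]

theorem ext_b {x y : G} (h : d.b * x * d.b = y) : d.b * y * d.b = x := by
  rw [← h, show d.b * (d.b * x * d.b) * d.b = (d.b * d.b) * x * (d.b * d.b) by group, d.hb, one_mul, mul_one]

theorem ttt : d.t * d.t = 1 := by
  rw [t, ← map_mul, show T0 * T0 = 1 from Prod.ext (by simp) (by simp), map_one]

theorem t_ne : d.t ≠ 1 := fun h =>
  absurd (congrArg Prod.snd (d.inj (h.trans (map_one d.φ).symm))) (by decide)

theorem z3 : d.z ^ 3 = 1 := by rw [z, ← map_pow, Z0_pow, map_one]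
theorem w3 : d.w ^ 3 = 1 := by rw [w, ← map_pow, W0_pow, map_one]

theorem cent_z {g : G} (h : g * d.z = d.z * g) : ∃ u : PQ, d.φ u = g ∧ u * Z0 = Z0 * u := by
  obtain ⟨u, rfl⟩ := d.hN g (Or.inl (mul_inv_eq_iff_eq_mul.2 h))
  exact ⟨u, rfl, d.inj (by rw [map_mul, map_mul]; exact h)⟩

theorem cent_w {g : G} (h : g * d.w = d.w * g) :
    ∃ u : PQ, d.b * d.φ u * d.b = g ∧ u * Z0 = Z0 * u := by
  have h' : (d.b * g * d.b) * d.z = d.z * (d.b * g * d.b) := by
    rw [← d.bwz]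
    calc d.b * g * d.b * (d.b * d.w * d.b) = d.b * g * (d.b * d.b) * d.w * d.b := by group
      _ = d.b * (g * d.w) * d.b := by rw [d.hb]; group
      _ = d.b * (d.w * g) * d.b := by rw [h]
      _ = d.b * d.w * (d.b * d.b) * g * d.b := by rw [d.hb]; group
      _ = _ := by group
  obtain ⟨u, hu, hu'⟩ := d.cent_z h'
  exact ⟨u, d.ext_b hu.symm, hu'⟩

/-- the torus -/
def D : Subgroup G := D0.map d.φ

theorem mem_D {g : G} : g ∈ d.D ↔ ∃ i j : Fin 3, g = d.z ^ i.val * d.w ^ j.val := by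
  constructor
  · rintro ⟨p, hp, rfl⟩
    obtain ⟨i, j, rfl⟩ := mem_D0.1 hp
    exact ⟨i, j, by rw [map_mul, map_pow, map_pow]⟩
  · rintro ⟨i, j, rfl⟩
    exact ⟨_, mem_D0.2 ⟨i, j, rfl⟩, by rw [map_mul, map_pow, map_pow]⟩

theorem zD : d.z ∈ d.D := d.mem_D.2 ⟨1, 0, by simp⟩
theorem wD : d.w ∈ d.D := d.mem_D.2 ⟨0, 1, by simp⟩

theorem card_D : Nat.card d.D = 9 := by
  rw [D, card_map_of_injective d.inj, card_D0]

theorem D_exp {g : G} (hg : g ∈ d.D) : g ^ 3 = 1 := by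
  obtain ⟨i, j, rfl⟩ := d.mem_D.1 hg
  rw [(Commute.pow_pow (ZW_comm.map d.φ) _ _).mul_pow, ← pow_mul, ← pow_mul, mul_comm i.val, mul_comm j.val,
    pow_mul, pow_mul, d.z3, d.w3, one_pow, one_pow, one_mul]

/-- `g` normalises the torus -/
def NormD (g : G) : Prop := ∀ x ∈ d.D, g * x * g⁻¹ ∈ d.D

theorem normD_mul {g h : G} (hg : d.NormD g) (hh : d.NormD h) : d.NormD (g * h) := fun x hx => by
  have := hg _ (hh x hx)
  rwa [show g * h * x * (g * h)⁻¹ = g * (h * x * h⁻¹) * g⁻¹ by group]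

theorem b_norm : d.NormD d.b := by
  intro x hx
  obtain ⟨i, j, rfl⟩ := d.mem_D.1 hx
  refine d.mem_D.2 ⟨j, i, ?_⟩
  have hc : Commute d.z d.w := ZW_comm.map d.φ
  rw [← conj_mul, ← conj_pow, ← conj_pow, d.bi, d.hbz, d.bwz, ← (hc.pow_pow j.val i.val).eq]

theorem norm_φ {u : PQ} (hc : u.2 * swap 3 4 = swap 3 4 * u.2) : d.NormD (d.φ u) := by
  intro x hx
  obtain ⟨i, j, rfl⟩ := d.mem_D.1 hx
  have k3 : ∀ (σ : Perm (Fin 3)) (i : Fin 3), ∃ i' : Fin 3, σ * c3 ^ i.val * σ⁻¹ = c3 ^ i'.val := by decide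
  have k5 : ∀ j : Fin 3, ∃ j' : Fin 3, (c5 ^ 2) ^ j.val = c5 ^ j'.val := by decide +kernel
  obtain ⟨i', hi'⟩ := k3 u.1 i
  obtain ⟨j', hj'⟩ : ∃ j' : Fin 3, u.2 * c5 ^ j.val * u.2⁻¹ = c5 ^ j'.val := by
    rw [← conj_pow]
    rcases T0_norm u.2 hc with h | h <;> rw [h]
    exacts [⟨j, rfl⟩, k5 j]
  refine d.mem_D.2 ⟨i', j', ?_⟩
  simp only [z, w, ← map_pow, ← map_mul, ← map_inv]
  congr 1
  exact Prod.ext (by simpa using hi') (by simpa using hj')

theorem z_types [Finite G] : 37 ≤ Nat.card (centralizer ({d.z} : Set G)) ∧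
    37 ≤ Nat.card (centralizer ({d.w} : Set G)) := by
  have h : 37 ≤ Nat.card (centralizer ({d.z} : Set G)) := by
    let K : Subgroup PQ := (⊥ : Subgroup (Perm (Fin 3))).prod ⊤
    have hK : K.map d.φ ≤ centralizer ({d.z} : Set G) := by
      rintro _ ⟨u, ⟨hu, -⟩, rfl⟩
      rw [mem_centralizer_singleton_iff, z, ← map_mul, ← map_mul,
        show u * Z0 = Z0 * u from Prod.ext (by simp [(Subgroup.mem_bot.1 hu)]) (by simp)]
    have := Subgroup.card_le_of_le hK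
    rw [card_map_of_injective d.inj, Nat.card_congr (Subgroup.prodEquiv _ _).toEquiv, Nat.card_prod,
      card_bot, card_top, Nat.card_eq_fintype_card, Fintype.card_perm, Fintype.card_fin] at this
    simp [Nat.factorial] at this
    omega
  refine ⟨h, ?_⟩
  rw [← d.bwz, show d.b * d.w * d.b = d.b * d.w * d.b⁻¹ by rw [d.bi], card_cent_conj] at h
  exact h

/-- the centraliser of a diagonal element normalises the torus -/
theorem cent_diag [Finite G] {p : PQ} {i j : Fin 3} (hp : p = Z0 ^ i.val * W0 ^ j.val) (hi : i.val ≠ 0) (hj : j.val ≠ 0) :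
    Nat.card (centralizer ({d.φ p} : Set G)) = 36 ∧
      ∀ g : G, g * d.φ p = d.φ p * g → d.NormD g := by
  obtain ⟨k, l, hk, hl⟩ := D0_cases i j hi hj
  set s : PQ := (swap 0 1 ^ k.val, swap 0 1 ^ l.val)
  have hs : s * (Z0 * W0) * s⁻¹ = p := by
    rw [hp]
    exact Prod.ext (by simpa [s] using hk) (by simpa [s] using hl)
  have hns : d.NormD (d.φ s) := d.norm_φ (by
    have k : ∀ l : Fin 2, (swap 0 1 : Perm (Fin 5)) ^ l.val * swap 3 4 = swap 3 4 * swap 0 1 ^ l.val := by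
      decide +kernel
    exact k l)
  have hns' : d.NormD (d.φ s⁻¹) := d.norm_φ (by
    have k : ∀ l : Fin 2, ((swap 0 1 : Perm (Fin 5)) ^ l.val)⁻¹ * swap 3 4 = swap 3 4 * (swap 0 1 ^ l.val)⁻¹ := by
      decide +kernel
    exact k l)
  refine ⟨?_, fun g hg => ?_⟩
  · rw [← hs, map_mul d.φ, map_mul d.φ, map_inv, card_cent_conj, d.h36]
  have hmem : (d.φ s)⁻¹ * g * d.φ s ∈ centralizer ({d.φ (Z0 * W0)} : Set G) := by
    rw [mem_centralizer_singleton_iff]
    rw [← hs, map_mul d.φ, map_mul d.φ, map_inv] at hg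
    calc (d.φ s)⁻¹ * g * d.φ s * d.φ (Z0 * W0)
        = (d.φ s)⁻¹ * (g * (d.φ s * d.φ (Z0 * W0) * (d.φ s)⁻¹)) * d.φ s := by group
      _ = (d.φ s)⁻¹ * (d.φ s * d.φ (Z0 * W0) * (d.φ s)⁻¹ * g) * d.φ s := by rw [hg]
      _ = _ := by group
  have hn : d.NormD ((d.φ s)⁻¹ * g * d.φ s) := by
    rintro _ ⟨q, hq, rfl⟩
    obtain ⟨q', hq', e⟩ := d.hnd _ hmem q hq
    exact ⟨q', hq', e.symm⟩
  have := d.normD_mul (d.normD_mul hns hn) hns'
  rwa [map_inv, show d.φ s * ((d.φ s)⁻¹ * g * d.φ s) * (d.φ s)⁻¹ = g by group] at this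

theorem D_types {g : G} (hg : g ∈ d.D) (h1 : g ≠ 1) :
    (g = d.z ∨ g = d.z⁻¹) ∨ (g = d.w ∨ g = d.w⁻¹) ∨
      ∃ i j : Fin 3, i.val ≠ 0 ∧ j.val ≠ 0 ∧ g = d.φ (Z0 ^ i.val * W0 ^ j.val) := by
  obtain ⟨i, j, rfl⟩ := d.mem_D.1 hg
  have eZ : d.z ^ 2 = d.z⁻¹ := eq_inv_of_mul_eq_one_left (by rw [← pow_succ, d.z3])
  have eW : d.w ^ 2 = d.w⁻¹ := eq_inv_of_mul_eq_one_left (by rw [← pow_succ, d.w3])
  rcases (show i.val = 0 ∨ i.val = 1 ∨ i.val = 2 by omega) with ei | ei | ei <;>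
    rcases (show j.val = 0 ∨ j.val = 1 ∨ j.val = 2 by omega) with ej | ej | ej
  on_goal 1 => simp [ei, ej] at h1
  all_goals first
    | (left; simp [ei, ej, eZ]; done)
    | (right; left; simp [ei, ej, eW]; done)
    | exact Or.inr (Or.inr ⟨i, j, by omega, by omega, by rw [map_mul, map_pow, map_pow]⟩)

/-- the normaliser of the torus -/
theorem norm_cases [Finite G] {g : G} (hg : d.NormD g) :
    g ∈ d.φ.range ∨ d.b * g ∈ d.φ.range := by
  have hne : g * d.z * g⁻¹ ≠ 1 := fun h => by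
    rw [conj_eq_one_iff, z] at h
    exact absurd (congrArg Prod.fst (d.inj (h.trans (map_one d.φ).symm))) (by decide)
  rcases d.D_types (hg _ d.zD) hne with h | h | ⟨i, j, hi, hj, h⟩
  · exact Or.inl (d.hN g h)
  · refine Or.inr (d.hN _ ?_)
    rw [show d.b * g * d.φ Z0 * (d.b * g)⁻¹ = d.b * (g * d.z * g⁻¹) * d.b⁻¹ by group, d.bi]
    rcases h with e | e <;> rw [e]
    · exact Or.inl d.bwz
    · refine Or.inr ?_
      rw [show d.φ Z0 = d.z from rfl, ← d.bwz]; simp [d.bi, mul_assoc]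
  · have h36 := (d.cent_diag rfl hi hj).1
    rw [← h, card_cent_conj] at h36
    have := d.z_types.1
    omega

/-- the normaliser centralises `t` -/
theorem norm_t [Finite G] {g : G} (hg : d.NormD g) : g * d.t = d.t * g := by
  have key : ∀ u : PQ, d.NormD (d.φ u) → d.φ u * d.t = d.t * d.φ u := by
    intro u hu
    obtain ⟨i, j, h⟩ := d.mem_D.1 (hu _ d.wD)
    simp only [z, w, ← map_pow, ← map_mul, ← map_inv] at h
    have h2 : u.2 * c5 * u.2⁻¹ = c5 ^ j.val := by simpa using congrArg Prod.snd (d.inj h)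
    have h3 : u.2 * swap 3 4 = swap 3 4 * u.2 := norm_T0 _ (norm_c5_mem _ _ h2)
    rw [t, ← map_mul, ← map_mul, show u * T0 = T0 * u from Prod.ext (by simp) h3]
  have hbc : d.b * d.t = d.t * d.b := by
    calc d.b * d.t = d.b * d.t * d.b * d.b := by rw [mul_assoc _ d.b d.b, d.hb, mul_one]
      _ = _ := by rw [t, d.hbt]
  rcases d.norm_cases hg with ⟨u, rfl⟩ | ⟨u, hu⟩
  · exact key u hg
  · have hu' := key u (hu ▸ d.normD_mul d.b_norm hg)
    have e : g = d.b * d.φ u := by rw [hu, ← mul_assoc, d.hb, one_mul]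
    rw [e]
    exact ((show Commute d.b d.t from hbc).mul_left hu').eq

/-- centralisers of elements of the torus inside the centraliser of `t` -/
theorem cent_norm [Finite G] {x g : G} (hx : x ∈ d.D) (h1 : x ≠ 1) (hgt : g * d.t = d.t * g) (hgx : g * x = x * g) :
    d.NormD g := by
  have hz : ∀ g : G, g * d.t = d.t * g → g * d.z = d.z * g → d.NormD g := by
    intro g hgt hgz
    obtain ⟨u, rfl, -⟩ := d.cent_z hgz
    refine d.norm_φ ?_
    have := d.inj ((map_mul d.φ u T0).trans (hgt.trans (map_mul d.φ T0 u).symm))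
    exact congrArg Prod.snd this
  rcases d.D_types hx h1 with (rfl | rfl) | (rfl | rfl) | ⟨i, j, hi, hj, rfl⟩
  · exact hz g hgt hgx
  · exact hz g hgt (Commute.inv_right_iff.1 hgx).eq
  rotate_left 2
  · exact (d.cent_diag rfl hi hj).2 g hgx
  all_goals
    have hgw : g * d.w = d.w * g := by
      first
        | exact hgx
        | exact (Commute.inv_right_iff.1 hgx).eq
    obtain ⟨u, hu, huz⟩ := d.cent_w hgw
    have huz' : d.φ u * d.z = d.z * d.φ u := by rw [z, ← map_mul, ← map_mul, huz]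
    have hut : d.φ u * d.t = d.t * d.φ u := by
      rw [← d.ext_b hu]
      have hbc : Commute d.b d.t := by
        show d.b * d.t = d.t * d.b
        calc d.b * d.t = d.b * d.t * d.b * d.b := by rw [mul_assoc _ d.b d.b, d.hb, mul_one]
          _ = _ := by rw [t, d.hbt]
      exact ((hbc.mul_left (show Commute g d.t from hgt)).mul_left hbc).eq
    have := d.normD_mul (d.normD_mul d.b_norm (hz _ hut huz')) d.b_norm
    rwa [hu] at this

theorem cent_D {g : G} (hg : ∀ x ∈ d.D, g * x = x * g) : ∃ x ∈ d.D, g = x ∨ g = x * d.t := by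
  obtain ⟨p, hp, h | h⟩ := cent_D0 d.φ d.inj d.hN (mul_inv_eq_iff_eq_mul.2 (hg _ d.zD))
    (mul_inv_eq_iff_eq_mul.2 (hg _ d.wD))
  · exact ⟨_, ⟨p, hp, rfl⟩, Or.inl h⟩
  · exact ⟨_, ⟨p, hp, rfl⟩, Or.inr (by rw [h, map_mul])⟩

theorem D_t {x : G} (hx : x ∈ d.D) : x * d.t = d.t * x := by
  obtain ⟨i, j, rfl⟩ := d.mem_D.1 hx
  have h1 : Commute d.z d.t := by
    show d.φ Z0 * d.φ T0 = d.φ T0 * d.φ Z0
    rw [← map_mul, ← map_mul, show Z0 * T0 = T0 * Z0 from Prod.ext (by simp) (by simp)]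
  have h2 : Commute d.w d.t := by
    show d.φ W0 * d.φ T0 = d.φ T0 * d.φ W0
    rw [← map_mul, ← map_mul, show W0 * T0 = T0 * W0 from Prod.ext (by simp) (by decide +kernel)]
  exact ((h1.pow_left _).mul_left (h2.pow_left _)).eq

end Data

end Cfsg.Agent.Lie.SymEightLocal
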