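import Mathlib

/-!
The model `Sym(3) × Sym(5)` of the normaliser of a subgroup of order three.
-/

set_option autoImplicit false

namespace Cfsg.Agent.Lie.SymEightLocal

open Equiv

/-- the model -/
abbrev PQ : Type := Perm (Fin 3) × Perm (Fin 5)

abbrev c3 : Perm (Fin 3) := swap 0 1 * swap 1 2
abbrev c5 : Perm (Fin 5) := swap 0 1 * swap 1 2
abbrev Z0 : PQ := (c3, 1)
abbrev W0 : PQ := (1, c5)
abbrev T0 : PQ := (1, swap 3 4)
abbrev V0 : PQ := (swap 0 1, 1)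

theorem c3_pow : c3 ^ 3 = 1 := by decide
theorem c5_pow : c5 ^ 3 = 1 := by decide +kernel

theorem Z0_pow : Z0 ^ 3 = 1 := Prod.ext c3_pow (one_pow _)
theorem W0_pow : W0 ^ 3 = 1 := Prod.ext (one_pow _) c5_pow
theorem ZW_comm : Commute Z0 W0 :=
  Prod.ext ((mul_one c3).trans (one_mul c3).symm) ((one_mul c5).trans (mul_one c5).symm)

/-- an element of `S₃` of order dividing three centralising or inverted everywhere -/
theorem three_one : ∀ σ : Perm (Fin 3), σ * σ * σ = 1 → σ = 1 ∨ σ = c3 ∨ σ = c3 * c3 := by decide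

theorem five_normal : ∀ π : Perm (Fin 5),
    (swap 0 1 * π * swap 0 1 = π ∨ swap 0 1 * π * swap 0 1 = π⁻¹) →
    (swap 1 2 * π * swap 1 2 = π ∨ swap 1 2 * π * swap 1 2 = π⁻¹) →
    (swap 2 3 * π * swap 2 3 = π ∨ swap 2 3 * π * swap 2 3 = π⁻¹) →
    (swap 3 4 * π * swap 3 4 = π ∨ swap 3 4 * π * swap 3 4 = π⁻¹) → π = 1 := by decide +kernel

theorem cent_c3 : ∀ σ : Perm (Fin 3), σ * c3 = c3 * σ → σ = 1 ∨ σ = c3 ∨ σ = c3 * c3 := by decide

theorem cent_c5 : ∀ π : Perm (Fin 5), π * c5 = c5 * π →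
    ∃ i : Fin 3, π = c5 ^ i.val ∨ π = c5 ^ i.val * swap 3 4 := by decide +kernel

theorem norm_c3 : ∀ σ : Perm (Fin 3), σ * c3 * σ⁻¹ = c3 ∨ σ * c3 * σ⁻¹ = c3 * c3 := by decide

theorem sq_c3 : ∀ σ : Perm (Fin 3), σ * σ * c3 = c3 * (σ * σ) := by decide

theorem invert_c3 : ∀ σ : Perm (Fin 3), σ * σ = 1 → σ * c3 = c3 * σ → σ = 1 := by decide

theorem invert_c5 : ∀ π : Perm (Fin 5), π * π = 1 → π * c5 * π = c5⁻¹ → π * swap 3 4 = swap 3 4 * π →
    ∃ i : Fin 3, c5 ^ i.val * π * (c5 ^ i.val)⁻¹ = swap 0 1 ∨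
      c5 ^ i.val * π * (c5 ^ i.val)⁻¹ = swap 0 1 * swap 3 4 := by decide +kernel

theorem card_PQ : Nat.card PQ = 720 := by
  simp [Nat.card_eq_fintype_card, Fintype.card_prod, Fintype.card_perm, Nat.factorial]

/-- the torus of order nine -/
def D0 : Subgroup PQ := (Subgroup.zpowers c3).prod (Subgroup.zpowers c5)

theorem mem_D0 {p : PQ} : p ∈ D0 ↔ ∃ i j : Fin 3, p = Z0 ^ i.val * W0 ^ j.val := by
  have key : ∀ {α : Type} [Group α] (c : α), c ^ 3 = 1 → ∀ x, x ∈ Subgroup.zpowers c →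
      ∃ i : Fin 3, x = c ^ i.val := by
    intro α _ c hc x hx
    obtain ⟨k, rfl⟩ := Subgroup.mem_zpowers_iff.1 hx
    refine ⟨⟨(k % 3).toNat, by omega⟩, ?_⟩
    have h3 : c ^ (3 : ℤ) = 1 := by exact_mod_cast hc
    rw [← zpow_natCast, Int.toNat_of_nonneg (Int.emod_nonneg k (by norm_num))]
    conv_lhs => rw [← Int.emod_add_mul_ediv k 3, zpow_add, zpow_mul, h3, one_zpow, mul_one]
  constructor
  · rintro ⟨h1, h2⟩
    obtain ⟨i, hi⟩ := key c3 c3_pow _ h1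
    obtain ⟨j, hj⟩ := key c5 c5_pow _ h2
    exact ⟨i, j, Prod.ext (by simp [hi]) (by simp [hj])⟩
  · rintro ⟨i, j, rfl⟩
    exact ⟨by simpa using Subgroup.pow_mem _ (Subgroup.mem_zpowers c3) i.val,
      by simpa using Subgroup.pow_mem _ (Subgroup.mem_zpowers c5) j.val⟩

theorem card_D0 : Nat.card D0 = 9 := by
  have h3 : orderOf c3 = 3 := orderOf_eq_prime (hp := ⟨Nat.prime_three⟩) c3_pow (by decide)
  have h5 : orderOf c5 = 3 := orderOf_eq_prime (hp := ⟨Nat.prime_three⟩) c5_pow (by decide)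
  rw [D0, Nat.card_congr (Subgroup.prodEquiv _ _).toEquiv, Nat.card_prod, Nat.card_zpowers,
    Nat.card_zpowers, h3, h5]

/-- the centraliser of the torus -/
theorem cent_ZW (p : PQ) (h1 : p * Z0 = Z0 * p) (h2 : p * W0 = W0 * p) :
    ∃ i j : Fin 3, p = Z0 ^ i.val * W0 ^ j.val ∨ p = Z0 ^ i.val * W0 ^ j.val * T0 := by
  obtain ⟨j, hj⟩ := cent_c5 p.2 (congrArg Prod.snd h2)
  rcases cent_c3 p.1 (congrArg Prod.fst h1) with hi | hi | hi
  on_goal 1 => refine ⟨0, j, ?_⟩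
  on_goal 2 => refine ⟨1, j, ?_⟩
  on_goal 3 => refine ⟨2, j, ?_⟩
  all_goals
    rcases hj with hj | hj
    · exact Or.inl (Prod.ext (by simp [hi, pow_two]) (by simp [hj]))
    · exact Or.inr (Prod.ext (by simp [hi, pow_two]) (by simp [hj]))

theorem normal_three (p : PQ) (h3 : p ^ 3 = 1) (h1 : p ≠ 1)
    (hn : ∀ u : PQ, u * p * u⁻¹ = p ∨ u * p * u⁻¹ = p⁻¹) : p = Z0 ∨ p = Z0⁻¹ := by
  have k : ∀ π : Perm (Fin 5), π⁻¹ = π → π * p.2 * π = p.2 ∨ π * p.2 * π = p.2⁻¹ := by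
    intro π hπ
    rcases hn (1, π) with h | h
    · left; have := congrArg Prod.snd h; simpa [hπ] using this
    · right; have := congrArg Prod.snd h; simpa [hπ] using this
  have h2 : p.2 = 1 := five_normal p.2 (k _ (swap_inv _ _)) (k _ (swap_inv _ _)) (k _ (swap_inv _ _))
    (k _ (swap_inv _ _))
  have h31 : p.1 * p.1 * p.1 = 1 := by
    have := congrArg Prod.fst h3
    simpa [pow_succ] using this
  rcases three_one p.1 h31 with h | h | h
  · exact absurd (Prod.ext h h2) h1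
  · exact Or.inl (Prod.ext h h2)
  · refine Or.inr (Prod.ext ?_ (h2.trans inv_one.symm))
    rw [h]; show c3 * c3 = c3⁻¹
    exact eq_inv_of_mul_eq_one_left (by decide)

end Cfsg.Agent.Lie.SymEightLocal
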