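import Cfsg.Agent.Lib.Lie.SymEightLocal.Model
import Cfsg.Agent.Lib.Lie.SymEightLocal.Generic
import Cfsg.Agent.Lib.Lead.AltEightLocal.Setup

/-!
The configuration extracted from the three-local data.
-/

set_option autoImplicit false

namespace Cfsg.Agent.Lie.SymEightLocal

open Subgroup Equiv

set_option maxHeartbeats 1600000

/-- the data used for the identification -/
structure Data (G : Type*) [Group G] where
  φ : PQ →* G
  inj : Function.Injective φ
  hN : ∀ g : G, (g * φ Z0 * g⁻¹ = φ Z0 ∨ g * φ Z0 * g⁻¹ = (φ Z0)⁻¹) → g ∈ φ.range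
  b : G
  hb : b * b = 1
  hbz : b * φ Z0 * b = φ W0
  hbt : b * φ T0 * b = φ T0
  β : Perm (Fin 5)
  hβ : β = swap 0 1 ∨ β = swap 0 1 * swap 3 4
  hbv : b * φ V0 * b = φ (1, β)
  h36 : Nat.card (centralizer ({φ (Z0 * W0)} : Set G)) = 36
  hnd : ∀ g ∈ centralizer ({φ (Z0 * W0)} : Set G), ∀ p ∈ D0, ∃ p' ∈ D0, g * φ p * g⁻¹ = φ p'
  hsq : ∀ g ∈ centralizer ({φ (Z0 * W0)} : Set G), ∃ p ∈ D0, g * g = φ p
  h27 : ¬ 27 ∣ Nat.card G

theorem cent_D0 {G : Type*} [Group G] (φ : PQ →* G) (inj : Function.Injective φ)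
    (hN : ∀ g : G, (g * φ Z0 * g⁻¹ = φ Z0 ∨ g * φ Z0 * g⁻¹ = (φ Z0)⁻¹) → g ∈ φ.range)
    {g : G} (h1 : g * φ Z0 * g⁻¹ = φ Z0) (h2 : g * φ W0 * g⁻¹ = φ W0) :
    ∃ p ∈ D0, g = φ p ∨ g = φ (p * T0) := by
  obtain ⟨u, rfl⟩ := hN g (Or.inl h1)
  have e1 : u * Z0 = Z0 * u := inj (by rw [map_mul, map_mul]; exact mul_inv_eq_iff_eq_mul.1 h1)
  have e2 : u * W0 = W0 * u := inj (by rw [map_mul, map_mul]; exact mul_inv_eq_iff_eq_mul.1 h2)
  obtain ⟨i, j, h | h⟩ := cent_ZW u e1 e2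
  · exact ⟨_, mem_D0.2 ⟨i, j, rfl⟩, Or.inl (by rw [h])⟩
  · exact ⟨_, mem_D0.2 ⟨i, j, rfl⟩, Or.inr (by rw [h])⟩

theorem t_cases {G : Type*} [Group G] (φ : PQ →* G) (inj : Function.Injective φ) {p : PQ} (hp : p ∈ D0)
    {g : G} (hg : g * g = 1) (he : g = φ p ∨ g = φ (p * T0)) : g = 1 ∨ g = φ T0 := by
  obtain ⟨i, j, rfl⟩ := mem_D0.1 hp
  have k3 : ∀ i : Fin 3, c3 ^ i.val * c3 ^ i.val = 1 → i = 0 := by decide
  have k5 : ∀ j : Fin 3, c5 ^ j.val * c5 ^ j.val = 1 → j = 0 := by decide +kernel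
  have k5' : ∀ j : Fin 3, c5 ^ j.val * swap 3 4 * (c5 ^ j.val * swap 3 4) = 1 → j = 0 := by decide +kernel
  rcases he with rfl | rfl
  · have e := inj ((map_mul φ _ _).trans (hg.trans (map_one φ).symm))
    obtain rfl := k3 i (by simpa using congrArg Prod.fst e)
    obtain rfl := k5 j (by simpa using congrArg Prod.snd e)
    left; simp
  · have e := inj ((map_mul φ _ _).trans (hg.trans (map_one φ).symm))
    obtain rfl := k3 i (by simpa using congrArg Prod.fst e)
    obtain rfl := k5' j (by simpa using congrArg Prod.snd e)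
    right; simp

theorem dih_facts : (∀ x y : DihedralGroup 4 × Multiplicative (ZMod 2), x * y * x⁻¹ * y⁻¹ = 1 ∨
      x * y * x⁻¹ * y⁻¹ = (DihedralGroup.r 2, 1)) ∧
    (∀ x : DihedralGroup 4 × Multiplicative (ZMod 2), x * x = 1 ∨ x * x = (DihedralGroup.r 2, 1)) :=
  ⟨by decide +kernel, by decide +kernel⟩

theorem exists_data {G : Type*} [Group G] [Finite G]
    (P : Sylow 3 G) (D : Subgroup G) (hDP : D = P) (y z : G) (hgen : closure {y, z} = D)
    (hcomm : IsMulCommutative D) (hcard : Nat.card D = 9) (hexp : ∀ a ∈ D, a ^ 3 = 1)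
    (eN : normalizer (D : Set G) ⧸ D.subgroupOf (normalizer (D : Set G)) ≃*
      DihedralGroup 4 × Multiplicative (ZMod 2))
    [hcn : ((centralizer (D : Set G)).subgroupOf (normalizer (D : Set G))).Normal]
    (eNC : normalizer (D : Set G) ⧸ (centralizer (D : Set G)).subgroupOf (normalizer (D : Set G)) ≃*
      DihedralGroup 4)
    (hyn : (D.subgroupOf (centralizer ({y} : Set G))).Normal)
    (hycard : Nat.card (centralizer ({y} : Set G)) = 36)
    (hysq : ∀ g ∈ centralizer ({y} : Set G), g ^ 2 ∈ D)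
    (eL : normalizer (zpowers z : Set G) ≃* PQ) : Nonempty (Data G) := by
  haveI : Fact (Nat.Prime 3) := ⟨Nat.prime_three⟩
  have hab : ∀ a ∈ D, ∀ c ∈ D, a * c = c * a := fun a ha c hc =>
    congrArg Subtype.val (hcomm.is_comm.comm ⟨a, ha⟩ ⟨c, hc⟩)
  have hyD : y ∈ D := hgen ▸ subset_closure (Set.mem_insert _ _)
  have hzD : z ∈ D := hgen ▸ subset_closure (Set.mem_insert_of_mem _ rfl)
  have hnoy : y ∉ zpowers z ∧ z ≠ 1 := by
    have hcz : ∀ a : G, a ^ 3 = 1 → Nat.card (zpowers a) ≤ 3 := fun a ha => by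
      rw [Nat.card_zpowers]; exact orderOf_le_of_pow_eq_one (by norm_num) ha
    refine ⟨fun h => ?_, fun h => ?_⟩
    · have hle : D ≤ zpowers z := by
        rw [← hgen, closure_le]
        rintro x (rfl | rfl)
        exacts [h, mem_zpowers _]
      have := Subgroup.card_le_of_le hle
      have := hcz z (hexp z hzD)
      omega
    · have hle : D ≤ zpowers y := by
        rw [← hgen, closure_le]
        rintro x (rfl | rfl)
        exacts [mem_zpowers _, h ▸ one_mem _]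
      have := Subgroup.card_le_of_le hle
      have := hcz y (hexp y hyD)
      omega
  obtain ⟨hyz, hz1⟩ := hnoy
  set N := normalizer (zpowers z : Set G) with hNdef
  let φ₀ : PQ →* G := N.subtype.comp eL.symm.toMonoidHom
  have inj₀ : Function.Injective φ₀ := Subtype.val_injective.comp eL.symm.injective
  have hrange : ∀ g, g ∈ N → g ∈ φ₀.range := fun g hg => ⟨eL ⟨g, hg⟩, by simp [φ₀]⟩
  -- the generator corresponds to the three-cycle
  obtain ⟨p, hp⟩ := hrange z (le_normalizer (mem_zpowers z))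
  have hz3 : z ^ (3 : ℤ) = 1 := by exact_mod_cast hexp z hzD
  have hpow : ∀ k : ℤ, z ^ k = 1 ∨ z ^ k = z ∨ z ^ k = z⁻¹ := by
    intro k
    have hkm : z ^ k = z ^ (k % 3) := by
      conv_lhs => rw [← Int.emod_add_mul_ediv k 3, zpow_add, zpow_mul, hz3, one_zpow, mul_one]
    rcases (show k % 3 = 0 ∨ k % 3 = 1 ∨ k % 3 = 2 by omega) with e | e | e <;> rw [hkm, e]
    · exact Or.inl (zpow_zero z)
    · exact Or.inr (Or.inl (zpow_one z))
    · refine Or.inr (Or.inr (eq_inv_of_mul_eq_one_left ?_))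
      rw [← zpow_add_one]; exact hz3
  have hconjN : ∀ g ∈ N, g * z * g⁻¹ = z ∨ g * z * g⁻¹ = z⁻¹ := by
    intro g hg
    obtain ⟨k, hk⟩ := Subgroup.mem_zpowers_iff.1 ((Subgroup.mem_normalizer_iff.1 hg z).1 (mem_zpowers z))
    rcases hpow k with e | e | e <;> rw [e] at hk
    · exact absurd (conj_eq_one_iff.1 hk.symm) hz1
    · exact Or.inl hk.symm
    · exact Or.inr hk.symm
  have hpZ : p = Z0 ∨ p = Z0⁻¹ := by
    refine normal_three p (inj₀ (by rw [map_pow, hp, hexp z hzD, map_one]))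
      (fun e => hz1 (by rw [← hp, e, map_one])) fun u => ?_
    rcases hconjN _ (eL.symm u).2 with e | e
    · exact Or.inl (inj₀ (by rw [map_mul, map_mul, map_inv, hp]; exact e))
    · exact Or.inr (inj₀ (by rw [map_mul, map_mul, map_inv, map_inv, hp]; exact e))
  have hinvN : ∀ g, g * z * g⁻¹ = z ∨ g * z * g⁻¹ = z⁻¹ → g ∈ N := by
    intro g hg
    rw [hNdef, mem_normalizer_iff_map_conj_eq, MonoidHom.map_zpowers]
    show zpowers (g * z * g⁻¹) = zpowers z
    rcases hg with e | e <;> rw [e]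
    exact zpowers_inv
  -- align the torus
  have hDN : D ≤ N := fun x hx => hinvN x (Or.inl (by rw [hab x hx z hzD, mul_inv_cancel_right]))
  have h9 : Nat.card (D.comap φ₀) = 9 := by
    have hle : D ≤ φ₀.range := fun x hx => hrange x (hDN hx)
    rw [← hcard, ← card_map_of_injective (K := D.comap φ₀) inj₀, map_comap_eq, inf_eq_right.2 hle]
  have hmult : 3 ^ (Nat.card PQ).factorization 3 = 9 := by
    rw [card_PQ, show (720 : ℕ) = 3 ^ 2 * 80 by norm_num, Nat.factorization_mul (by norm_num) (by norm_num),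
      Finsupp.add_apply, Nat.prime_three.factorization_pow, Finsupp.single_eq_same,
      Nat.factorization_eq_zero_of_not_dvd (show ¬ 3 ∣ 80 by norm_num)]
    norm_num
  obtain ⟨m, hm⟩ := MulAction.exists_smul_eq PQ (Sylow.ofCard D0 (by rw [card_D0, hmult]) : Sylow 3 PQ)
    (Sylow.ofCard (D.comap φ₀) (by rw [h9, hmult]))
  let φ₁ : PQ →* G := φ₀.comp (MulAut.conj m).toMonoidHom
  have inj₁ : Function.Injective φ₁ := inj₀.comp (MulAut.conj m).injective
  have hD₁ : ∀ x, x ∈ D ↔ ∃ d ∈ D0, φ₁ d = x := by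
    have e : D0.map (MulAut.conj m).toMonoidHom = D.comap φ₀ := by
      have := congrArg (fun S : Sylow 3 PQ => (S : Subgroup PQ)) hm
      exact this
    intro x
    constructor
    · intro hx
      obtain ⟨u, rfl⟩ := hrange x (hDN hx)
      obtain ⟨d, hd, rfl⟩ := e.ge (mem_comap.2 hx)
      exact ⟨d, hd, rfl⟩
    · rintro ⟨d, hd, rfl⟩
      exact mem_comap.1 (e.le ⟨d, hd, rfl⟩)
  have hZm : m * Z0 * m⁻¹ = Z0 ∨ m * Z0 * m⁻¹ = Z0⁻¹ := by
    rcases norm_c3 m.1 with h | h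
    · exact Or.inl (Prod.ext h (by simp))
    · refine Or.inr (Prod.ext (h.trans ?_) (by simp))
      show c3 * c3 = c3⁻¹
      exact eq_inv_of_mul_eq_one_left (by decide)
  have hz₁ : φ₁ Z0 = z ∨ φ₁ Z0 = z⁻¹ := by
    show φ₀ (m * Z0 * m⁻¹) = z ∨ φ₀ (m * Z0 * m⁻¹) = z⁻¹
    rcases hpZ with e | e <;> rw [e] at hp <;> rcases hZm with f | f <;> rw [f]
    · exact Or.inl hp
    · exact Or.inr (by rw [map_inv, hp])
    · refine Or.inr ?_
      rw [← hp, map_inv, inv_inv]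
    · exact Or.inl hp
  have hN₁ : ∀ g : G, (g * φ₁ Z0 * g⁻¹ = φ₁ Z0 ∨ g * φ₁ Z0 * g⁻¹ = (φ₁ Z0)⁻¹) → g ∈ φ₁.range := by
    intro g hg
    have hg' : g ∈ N := by
      refine hinvN g ?_
      rcases hz₁ with e | e <;> rw [e] at hg
      · exact hg
      · rw [inv_inv] at hg
        rcases hg with h | h
        · left
          have := congrArg (·⁻¹) h
          simpa [mul_assoc] using this
        · right
          have := congrArg (·⁻¹) h
          simpa [mul_assoc] using this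
    obtain ⟨u, hu⟩ := hrange g hg'
    exact ⟨m⁻¹ * u * m, by rw [← hu]; show φ₀ (m * (m⁻¹ * u * m) * m⁻¹) = φ₀ u; congr 1; group⟩
  set Z := φ₁ Z0 with hZdef
  set W := φ₁ W0 with hWdef
  have hZ3 : Z ^ 3 = 1 := by rw [hZdef, ← map_pow, Z0_pow, map_one]
  have hW3 : W ^ 3 = 1 := by rw [hWdef, ← map_pow, W0_pow, map_one]
  have hZW : Commute Z W := ZW_comm.map φ₁
  have hnD : ∀ x ∈ D, ∃ i j : Fin 3, x = Z ^ i.val * W ^ j.val := by
    intro x hx
    obtain ⟨d, hd, rfl⟩ := (hD₁ x).1 hx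
    obtain ⟨i, j, rfl⟩ := mem_D0.1 hd
    exact ⟨i, j, by rw [map_mul, map_pow, map_pow]⟩
  have hZD : Z ∈ D := (hD₁ _).2 ⟨Z0, mem_D0.2 ⟨1, 0, by simp⟩, rfl⟩
  have hWD : W ∈ D := (hD₁ _).2 ⟨W0, mem_D0.2 ⟨0, 1, by simp⟩, rfl⟩
  have hcentD : ∀ g : G, g * Z * g⁻¹ = Z → g * W * g⁻¹ = W → g ∈ centralizer (D : Set G) := by
    intro g h1 h2
    rw [mem_centralizer_iff]
    intro x hx
    obtain ⟨i, j, rfl⟩ := hnD x hx
    have a : Commute g Z := mul_inv_eq_iff_eq_mul.1 h1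
    have c : Commute g W := mul_inv_eq_iff_eq_mul.1 h2
    exact ((a.pow_right _).mul_right (c.pow_right _)).eq.symm
  -- the centraliser of `Z` is large
  have h360 : 37 ≤ Nat.card (centralizer ({Z} : Set G)) := by
    let K : Subgroup PQ := (⊥ : Subgroup (Perm (Fin 3))).prod ⊤
    have hK : K.map φ₁ ≤ centralizer ({Z} : Set G) := by
      rintro _ ⟨u, ⟨hu, -⟩, rfl⟩
      rw [mem_centralizer_singleton_iff, hZdef, ← map_mul, ← map_mul,
        show u * Z0 = Z0 * u from Prod.ext (by simp [(Subgroup.mem_bot.1 hu)]) (by simp)]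
    have := Subgroup.card_le_of_le hK
    rw [card_map_of_injective inj₁, Nat.card_congr (Subgroup.prodEquiv _ _).toEquiv, Nat.card_prod,
      card_bot, card_top, Nat.card_eq_fintype_card, Fintype.card_perm, Fintype.card_fin] at this
    simp [Nat.factorial] at this
    omega
  -- an element of order four on the torus
  obtain ⟨r, hr⟩ := QuotientGroup.mk_surjective (eNC.symm (DihedralGroup.r 1))
  set q : G := (r : G) with hq
  have hqD : ∀ x ∈ D, q * x * q⁻¹ ∈ D := fun x hx => (Subgroup.mem_normalizer_iff.1 r.2 x).1 hx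
  have hq2 : q ^ 2 ∉ centralizer (D : Set G) ∧ q ^ 6 ∉ centralizer (D : Set G) := by
    have key : ∀ n : ℕ, (DihedralGroup.r 1 : DihedralGroup 4) ^ n ≠ 1 → q ^ n ∉ centralizer (D : Set G) := by
      intro n hn h
      refine hn ?_
      have h2 : (QuotientGroup.mk r : normalizer (D : Set G) ⧸
          (centralizer (D : Set G)).subgroupOf (normalizer (D : Set G))) ^ n = 1 := by
        rw [← QuotientGroup.mk_pow, QuotientGroup.eq_one_iff, Subgroup.mem_subgroupOf]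
        exact h
      rw [hr, ← map_pow] at h2
      exact eNC.symm.injective (h2.trans (map_one _).symm)
    exact ⟨key 2 (by decide), key 6 (by decide)⟩
  have hnotW : ∀ e : ℕ, (e = 1 ∨ e = 2) → q * W * q⁻¹ ≠ W ^ e := by
    intro e he h
    obtain ⟨i, j, hij⟩ := hnD _ (hqD _ hZD)
    have hi : i.val ≠ 0 := by
      intro hi
      simp only [hi, pow_zero, one_mul] at hij
      have h' : q * (W ^ (e * j.val)) * q⁻¹ = q * Z * q⁻¹ := by
        rw [← conj_pow, h, hij, ← pow_mul]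
        rcases he with rfl | rfl
        · rw [one_mul, one_mul]
        · rw [← mul_assoc 2 2, show (2 : ℕ) * 2 * j.val = 3 * j.val + j.val by ring, pow_add, pow_mul, hW3,
            one_pow, one_mul]
      rw [mul_left_inj, mul_right_inj, hWdef, hZdef, ← map_pow] at h'
      have h'' := congrArg Prod.fst (inj₁ h')
      simp at h''
      exact absurd h'' (by decide)
    obtain ⟨h1, h2⟩ := Lead.AltEightLocal.pow6_fix (MulAut.conj q) hZW hZ3 hW3 (a := i.val) (k := j.val)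
      (e := e) (by omega) he (by rw [MulAut.conj_apply]; exact h) (by rw [MulAut.conj_apply]; exact hij)
    have hc : ∀ x : G, ((MulAut.conj q) ^ 6) x = q ^ 6 * x * (q ^ 6)⁻¹ := fun x => by rw [← map_pow]; rfl
    rw [hc] at h1 h2
    exact hq2.2 (hcentD _ h1 h2)
  have hqZ : q * Z * q⁻¹ ≠ Z ∧ q * Z * q⁻¹ ≠ Z⁻¹ := by
    have key : q * Z * q⁻¹ = Z ∨ q * Z * q⁻¹ = Z⁻¹ → False := by
      intro h
      obtain ⟨u, hu⟩ := hN₁ q h
      obtain ⟨i, j, hij⟩ := hnD _ (hqD _ hWD)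
      refine hq2.1 (hcentD _ ?_ ?_)
      · rw [pow_two, ← hu, hZdef, ← map_mul, ← map_inv, ← map_mul, ← map_mul,
          show u * u * Z0 * (u * u)⁻¹ = Z0 from Prod.ext (by
            show u.1 * u.1 * c3 * (u.1 * u.1)⁻¹ = c3
            rw [sq_c3, mul_inv_cancel_right]) (by simp)]
      · rw [← hu] at hij
        rw [pow_two, ← hu, hWdef, ← map_mul, ← map_inv, ← map_mul, ← map_mul]
        congr 1
        have h2 : u.2 * c5 * u.2⁻¹ = c5 ^ j.val := by
          have := congrArg Prod.snd (inj₁ (show φ₁ (u * W0 * u⁻¹) = φ₁ (Z0 ^ i.val * W0 ^ j.val) by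
            rw [map_mul, map_mul, map_inv, map_mul, map_pow, map_pow]; exact hij))
          simpa using this
        refine Prod.ext (by simp) ?_
        show u.2 * u.2 * c5 * (u.2 * u.2)⁻¹ = c5
        rw [mul_inv_rev, ← mul_assoc, show u.2 * u.2 * c5 * u.2⁻¹ * u.2⁻¹ = u.2 * (u.2 * c5 * u.2⁻¹) * u.2⁻¹ by
          group, h2, ← conj_pow, h2, ← pow_mul]
        have k : ∀ j : Fin 3, j.val ≠ 0 → c5 ^ (j.val * j.val) = c5 := by decide +kernel
        refine k j fun h0 => ?_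
        rw [h0, pow_zero, conj_eq_one_iff] at h2
        exact absurd h2 (by decide)
    exact ⟨fun h => key (Or.inl h), fun h => key (Or.inr h)⟩
  -- the small line is diagonal
  obtain ⟨i, j, hyij⟩ := hnD y hyD
  have hcy : ∀ k : G, Nat.card (centralizer ({k * y * k⁻¹} : Set G)) = 36 := fun k => by
    rw [card_cent_conj, hycard]
  have hinvc : ∀ x : G, Nat.card (centralizer ({x⁻¹} : Set G)) = Nat.card (centralizer ({x} : Set G)) := by
    intro x
    congr 2
    ext a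
    simp only [mem_centralizer_singleton_iff]
    exact ⟨fun h => (Commute.inv_right_iff.1 h : Commute a x), fun h => (show Commute a x from h).inv_right⟩
  set t := φ₁ V0 with htdef
  have htn : ∀ i j : ℕ, t * (Z ^ i * W ^ j) * t⁻¹ = Z ^ (2 * i) * W ^ j := by
    intro i j
    rw [hZdef, hWdef, htdef, ← map_pow, ← map_pow, ← map_pow, ← map_mul, ← map_mul, ← map_inv, ← map_mul, ← map_mul]
    congr 1
    refine Prod.ext ?_ (by simp)
    show swap 0 1 * (c3 ^ i * 1 ^ j) * (swap 0 1)⁻¹ = c3 ^ (2 * i) * 1 ^ j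
    rw [one_pow, mul_one, mul_one, ← conj_pow, pow_mul]
    congr 1
    decide
  have hjne : j.val ≠ 0 := by
    intro hj
    refine hyz ?_
    rw [hyij, hj, pow_zero, mul_one]
    refine pow_mem ?_ _
    rcases hz₁ with e | e <;> rw [e]
    exacts [mem_zpowers z, inv_mem (mem_zpowers z)]
  have hdiag : ∀ a c : Fin 3, a.val ≠ 0 → c.val ≠ 0 → i.val ≠ 0 →
      Nat.card (centralizer ({Z ^ a.val * W ^ c.val} : Set G)) = 36 := by
    intro a c ha hc hi
    have hinv : ∀ a c : ℕ, (Z ^ a * W ^ c)⁻¹ = Z ^ (2 * a) * W ^ (2 * c) := fun a c => by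
      refine inv_eq_of_mul_eq_one_right ?_
      rw [(hZW.symm.pow_pow c (2 * a)).mul_mul_mul_comm, ← pow_add, ← pow_add,
        show a + 2 * a = 3 * a by ring, show c + 2 * c = 3 * c by ring, pow_mul, pow_mul, hZ3, hW3, one_pow,
        one_pow, one_mul]
    have h1 : Nat.card (centralizer ({Z ^ i.val * W ^ j.val} : Set G)) = 36 := hyij ▸ hycard
    have h2 : Nat.card (centralizer ({Z ^ (2 * i.val) * W ^ j.val} : Set G)) = 36 := by
      rw [← htn, ← hyij]; exact hcy t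
    have h3 : Nat.card (centralizer ({Z ^ (2 * i.val) * W ^ (2 * j.val)} : Set G)) = 36 := by
      rw [← hinv, hinvc]; exact h1
    have h4 : Nat.card (centralizer ({Z ^ (2 * (2 * i.val)) * W ^ (2 * j.val)} : Set G)) = 36 := by
      rw [← hinv, hinvc]; exact h2
    have hm : ∀ k l : ℕ, Z ^ (k + 3) = Z ^ k ∧ W ^ (l + 3) = W ^ l := fun k l => by
      rw [pow_add, hZ3, mul_one, pow_add, hW3, mul_one]; exact ⟨rfl, rfl⟩
    rcases (show i.val = 1 ∨ i.val = 2 by omega) with ei | ei <;>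
      rcases (show j.val = 1 ∨ j.val = 2 by omega) with ej | ej <;>
      rcases (show a.val = 1 ∨ a.val = 2 by omega) with ea | ea <;>
      rcases (show c.val = 1 ∨ c.val = 2 by omega) with ec | ec <;>
      rw [ei, ej] at h1 h2 h3 h4 <;> rw [ea, ec] <;>
      simp only [Nat.reduceMul, show (4 : ℕ) = 1 + 3 from rfl, show (8 : ℕ) = 5 + 3 from rfl,
        show (5 : ℕ) = 2 + 3 from rfl, (hm _ 0).1, (hm 0 _).2] at h1 h2 h3 h4 <;>
      first | exact h1 | exact h2 | exact h3 | exact h4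
  have hbig : ∀ k : G, Nat.card (centralizer ({k * Z * k⁻¹} : Set G)) ≠ 36 := fun k => by
    rw [card_cent_conj]; omega
  have hi : i.val ≠ 0 := by
    intro hi
    have hyW : y = W ^ j.val := by rw [hyij, hi, pow_zero, one_mul]
    have hW36 : Nat.card (centralizer ({W} : Set G)) = 36 := by
      rcases (show j.val = 1 ∨ j.val = 2 by omega) with e | e
      · rw [← hycard, hyW, e, pow_one]
      · rw [← hinvc W, ← hycard, hyW, e, eq_inv_of_mul_eq_one_left (show W ^ 2 * W = 1 by rw [← pow_succ, hW3])]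
    have hbigd : ∀ a c : Fin 3, a.val ≠ 0 → c.val ≠ 0 →
        Nat.card (centralizer ({Z ^ a.val * W ^ c.val} : Set G)) ≠ 36 := by
      -- conjugates of `Z` under `q`
      obtain ⟨a', c', hac⟩ := hnD _ (hqD _ hZD)
      have hc' : c'.val ≠ 0 := by
        intro h
        rcases (show a'.val = 0 ∨ a'.val = 1 ∨ a'.val = 2 by omega) with e | e | e <;>
          simp only [h, e, pow_zero, mul_one] at hac
        · rw [conj_eq_one_iff, hZdef] at hac
          exact absurd (congrArg Prod.fst (inj₁ (hac.trans (map_one φ₁).symm))) (by decide)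
        · exact hqZ.1 (hac.trans (pow_one Z))
        · exact hqZ.2 (hac.trans (eq_inv_of_mul_eq_one_left (by rw [← pow_succ, hZ3])))
      have ha' : a'.val ≠ 0 := by
        intro h
        refine hbig q ?_
        rw [hac, h, pow_zero, one_mul]
        rcases (show c'.val = 1 ∨ c'.val = 2 by omega) with e | e
        · rw [e, pow_one, hW36]
        · rw [e, eq_inv_of_mul_eq_one_left (show W ^ 2 * W = 1 by rw [← pow_succ, hW3]), hinvc, hW36]
      have h0 : Nat.card (centralizer ({Z ^ a'.val * W ^ c'.val} : Set G)) ≠ 36 := hac ▸ hbig q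
      intro a c ha hc h
      have hm : ∀ k l : ℕ, Z ^ (k + 3) = Z ^ k ∧ W ^ (l + 3) = W ^ l := fun k l => by
        rw [pow_add, hZ3, mul_one, pow_add, hW3, mul_one]; exact ⟨rfl, rfl⟩
      have hinv : ∀ a c : ℕ, (Z ^ a * W ^ c)⁻¹ = Z ^ (2 * a) * W ^ (2 * c) := fun a c => by
        refine inv_eq_of_mul_eq_one_right ?_
        rw [(hZW.symm.pow_pow c (2 * a)).mul_mul_mul_comm, ← pow_add, ← pow_add,
          show a + 2 * a = 3 * a by ring, show c + 2 * c = 3 * c by ring, pow_mul, pow_mul, hZ3, hW3,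
          one_pow, one_pow, one_mul]
      have t1 := (card_cent_conj t (Z ^ a.val * W ^ c.val)).trans h
      rw [htn] at t1
      have t2 := (hinvc (Z ^ a.val * W ^ c.val)).trans h
      rw [hinv] at t2
      have t3 := (hinvc (Z ^ (2 * a.val) * W ^ c.val)).trans t1
      rw [hinv] at t3
      rcases (show a'.val = 1 ∨ a'.val = 2 by omega) with ei | ei <;>
        rcases (show c'.val = 1 ∨ c'.val = 2 by omega) with ej | ej <;>
        rcases (show a.val = 1 ∨ a.val = 2 by omega) with ea | ea <;>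
        rcases (show c.val = 1 ∨ c.val = 2 by omega) with ec | ec <;>
        rw [ea, ec] at h t1 t2 t3 <;> rw [ei, ej] at h0 <;>
        simp only [Nat.reduceMul, show (4 : ℕ) = 1 + 3 from rfl, show (8 : ℕ) = 5 + 3 from rfl,
          show (5 : ℕ) = 2 + 3 from rfl, (hm _ 0).1, (hm 0 _).2] at h t1 t2 t3 <;>
        first | exact h0 h | exact h0 t1 | exact h0 t2 | exact h0 t3
    obtain ⟨a, c, hac⟩ := hnD _ (hqD _ hWD)
    have h36 : Nat.card (centralizer ({Z ^ a.val * W ^ c.val} : Set G)) = 36 := by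
      rw [← hac, card_cent_conj, hW36]
    rcases (show c.val = 0 ∨ c.val ≠ 0 by omega) with hc | hc
    · rw [hc, pow_zero, mul_one] at h36
      rcases (show a.val = 0 ∨ a.val = 1 ∨ a.val = 2 by omega) with e | e | e
      · rw [hc, e, pow_zero, pow_zero, one_mul, conj_eq_one_iff, hWdef] at hac
        exact absurd (congrArg Prod.snd (inj₁ (hac.trans (map_one φ₁).symm))) (by decide)
      · rw [e, pow_one] at h36; omega
      · rw [e, eq_inv_of_mul_eq_one_left (show Z ^ 2 * Z = 1 by rw [← pow_succ, hZ3]), hinvc] at h36; omega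
    · rcases (show a.val = 0 ∨ a.val ≠ 0 by omega) with ha | ha
      · rw [ha, pow_zero, one_mul] at hac
        exact hnotW c.val (by omega) hac
      · exact hbigd a c ha hc h36
  -- `q` interchanges the two big lines
  have hbigline : ∀ k : G, (∀ x ∈ D, k * x * k⁻¹ ∈ D) →
      ∀ x, (x = Z ∨ x = W) → Nat.card (centralizer ({x} : Set G)) ≠ 36 →
      k * x * k⁻¹ = Z ∨ k * x * k⁻¹ = Z⁻¹ ∨ k * x * k⁻¹ = W ∨ k * x * k⁻¹ = W⁻¹ := by
    intro k hk x hx h36
    have hxD : x ∈ D := by rcases hx with rfl | rfl <;> assumption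
    obtain ⟨a, c, hac⟩ := hnD _ (hk x hxD)
    have eZ : Z ^ 2 = Z⁻¹ := eq_inv_of_mul_eq_one_left (by rw [← pow_succ, hZ3])
    have eW : W ^ 2 = W⁻¹ := eq_inv_of_mul_eq_one_left (by rw [← pow_succ, hW3])
    rw [hac]
    rcases (show a.val = 0 ∨ a.val = 1 ∨ a.val = 2 by omega) with ea | ea | ea <;>
      rcases (show c.val = 0 ∨ c.val = 1 ∨ c.val = 2 by omega) with ec | ec | ec
    · rw [ea, ec, pow_zero, pow_zero, one_mul, conj_eq_one_iff] at hac
      rcases hx with rfl | rfl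
      · exact absurd (congrArg Prod.fst (inj₁ (hac.trans (map_one φ₁).symm))) (by decide)
      · exact absurd (congrArg Prod.snd (inj₁ (hac.trans (map_one φ₁).symm))) (by decide)
    all_goals try (rw [ea, ec]; simp [eZ, eW]; done)
    all_goals exact absurd (by rw [← card_cent_conj k x, hac, hdiag a c (by omega) (by omega) hi]) h36
  have hqW : q * Z * q⁻¹ = W ∨ q * Z * q⁻¹ = W⁻¹ := by
    rcases hbigline q hqD Z (Or.inl rfl) (by omega) with h | h | h | h
    exacts [absurd h hqZ.1, absurd h hqZ.2, Or.inl h, Or.inr h]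
  have hWbig : Nat.card (centralizer ({W} : Set G)) ≠ 36 := by
    rcases hqW with h | h
    · rw [← h]; exact hbig q
    · rw [← hinvc, ← h]; exact hbig q
  have hqW' : q * W * q⁻¹ = Z ∨ q * W * q⁻¹ = Z⁻¹ := by
    rcases hbigline q hqD W (Or.inr rfl) hWbig with h | h | h | h
    exacts [Or.inl h, Or.inr h, absurd (h.trans (pow_one W).symm) (hnotW 1 (Or.inl rfl)),
      absurd (h.trans (eq_inv_of_mul_eq_one_left (show W ^ 2 * W = 1 by rw [← pow_succ, hW3])).symm)
        (hnotW 2 (Or.inr rfl))]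
  -- adjust the signs
  have hsig : ∃ b0 : G, b0 ∈ normalizer (D : Set G) ∧ b0 * Z * b0⁻¹ = W ∧ b0 * W * b0⁻¹ = Z := by
    have hU : ∀ s : PQ, (∀ d ∈ D0, s * d * s⁻¹ ∈ D0) → φ₁ s ∈ normalizer (D : Set G) := by
      intro s hs
      rw [mem_normalizer_iff_map_conj_eq]
      refine Subgroup.eq_of_le_of_card_ge ?_ (by rw [card_map_of_injective (MulAut.conj _).injective])
      rintro _ ⟨x, hx, rfl⟩
      obtain ⟨d, hd, rfl⟩ := (hD₁ x).1 hx
      exact (hD₁ _).2 ⟨s * d * s⁻¹, hs d hd, by simp [map_mul, map_inv, MulAut.conj_apply]⟩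
    have hsD : ∀ (s : PQ), (s = V0 ∨ s = (1, swap 0 1)) → ∀ d ∈ D0, s * d * s⁻¹ ∈ D0 := by
      intro s hs d hd
      obtain ⟨a, c, rfl⟩ := mem_D0.1 hd
      rcases hs with rfl | rfl
      · refine mem_D0.2 ⟨⟨2 * a.val % 3, Nat.mod_lt _ (by norm_num)⟩, c, Prod.ext ?_ (by simp)⟩
        have k : ∀ a : Fin 3, swap 0 1 * c3 ^ a.val * (swap 0 1)⁻¹ = c3 ^ (2 * a.val % 3) := by decide
        simpa [mul_assoc] using k a
      · refine mem_D0.2 ⟨a, ⟨2 * c.val % 3, Nat.mod_lt _ (by norm_num)⟩, Prod.ext (by simp) ?_⟩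
        have k : ∀ c : Fin 3, swap 0 1 * c5 ^ c.val * (swap 0 1)⁻¹ = c5 ^ (2 * c.val % 3) := by decide +kernel
        simpa [mul_assoc] using k c
    have hV : φ₁ V0 * Z * (φ₁ V0)⁻¹ = Z⁻¹ ∧ φ₁ V0 * W * (φ₁ V0)⁻¹ = W ∧
        φ₁ (1, swap 0 1) * Z * (φ₁ (1, swap 0 1))⁻¹ = Z ∧ φ₁ (1, swap 0 1) * W * (φ₁ (1, swap 0 1))⁻¹ = W⁻¹ := by
      simp only [Z, W, ← map_mul, ← map_inv]
      exact ⟨congrArg φ₁ (Prod.ext (by decide) (by decide +kernel)),
        congrArg φ₁ (Prod.ext (by decide) (by decide +kernel)),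
        congrArg φ₁ (Prod.ext (by decide) (by decide +kernel)),
        congrArg φ₁ (Prod.ext (by decide) (by decide +kernel))⟩
    obtain ⟨v1, v2, w1, w2⟩ := hV
    have step : ∀ (k x y y' : G), k * x * k⁻¹ = y → ∀ s : G, s * y * s⁻¹ = y' → (s * k) * x * (s * k)⁻¹ = y' := by
      intro k x y y' h s h'
      rw [← h', ← h]; group
    have inv_step : ∀ (s y y' : G), s * y * s⁻¹ = y' → s * y⁻¹ * s⁻¹ = y'⁻¹ := fun s y y' h => by
      rw [← conj_inv, h]
    rcases hqW with a | a <;> rcases hqW' with c | c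
    · exact ⟨q, r.2, a, c⟩
    · exact ⟨φ₁ V0 * q, mul_mem (hU _ (hsD _ (Or.inl rfl))) r.2, step _ _ _ _ a _ v2,
        (step _ _ _ _ c _ (inv_step _ _ _ v1)).trans (inv_inv _)⟩
    · exact ⟨φ₁ (1, swap 0 1) * q, mul_mem (hU _ (hsD _ (Or.inr rfl))) r.2,
        (step _ _ _ _ a _ (inv_step _ _ _ w2)).trans (inv_inv _), step _ _ _ _ c _ w1⟩
    · refine ⟨φ₁ V0 * (φ₁ (1, swap 0 1) * q),
        mul_mem (hU _ (hsD _ (Or.inl rfl))) (mul_mem (hU _ (hsD _ (Or.inr rfl))) r.2), ?_, ?_⟩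
      · exact step _ _ _ _ ((step _ _ _ _ a _ (inv_step _ _ _ w2)).trans (inv_inv _)) _ v2
      · exact (step _ _ _ _ (step _ _ _ _ c _ (inv_step _ _ _ w1)) _ (inv_step _ _ _ v1)).trans (inv_inv _)
  obtain ⟨b0, hb0N, hb0z, hb0w⟩ := hsig
  have hcc : ∀ g : G, g * Z * g⁻¹ = Z → g * W * g⁻¹ = W → ∃ p ∈ D0, g = φ₁ p ∨ g = φ₁ (p * T0) :=
    fun g => cent_D0 φ₁ inj₁ hN₁
  have hb2z : (b0 * b0) * Z * (b0 * b0)⁻¹ = Z := by
    rw [show b0 * b0 * Z * (b0 * b0)⁻¹ = b0 * (b0 * Z * b0⁻¹) * b0⁻¹ by group, hb0z, hb0w]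
  have hb2w : (b0 * b0) * W * (b0 * b0)⁻¹ = W := by
    rw [show b0 * b0 * W * (b0 * b0)⁻¹ = b0 * (b0 * W * b0⁻¹) * b0⁻¹ by group, hb0w, hb0z]
  have hTc : ∀ d ∈ D0, Commute d T0 := by
    intro d hd
    obtain ⟨a, c, rfl⟩ := mem_D0.1 hd
    refine Prod.ext (by simp) ?_
    show (1 ^ a.val * c5 ^ c.val) * swap 3 4 = swap 3 4 * (1 ^ a.val * c5 ^ c.val)
    have k : ∀ c : Fin 3, c5 ^ c.val * swap 3 4 = swap 3 4 * c5 ^ c.val := by decide +kernel
    simpa using k c
  have hb2D : ∃ p ∈ D0, b0 * b0 = φ₁ p := by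
    obtain ⟨p, hp, h | h⟩ := hcc _ hb2z hb2w
    · exact ⟨p, hp, h⟩
    exfalso
    set nT : normalizer (D : Set G) := ⟨b0, hb0N⟩ * ⟨b0, hb0N⟩ with hnT
    have hnTC : nT ∈ (centralizer (D : Set G)).subgroupOf (normalizer (D : Set G)) := hcentD _ hb2z hb2w
    have hnTD : nT ∉ D.subgroupOf (normalizer (D : Set G)) := by
      intro hD
      obtain ⟨d, hd, hdT⟩ := (hD₁ _).1 (Subgroup.mem_subgroupOf.1 hD)
      have e : d = p * T0 := inj₁ (hdT.trans h)
      obtain ⟨-, h2⟩ : p.1 * 1 ∈ zpowers c3 ∧ p.2 * swap 3 4 ∈ zpowers c5 := e ▸ hd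
      have h34 : swap 3 4 ∈ zpowers c5 := (Subgroup.mul_mem_cancel_left _ hp.2).1 h2
      obtain ⟨k, hk⟩ := Subgroup.mem_zpowers_iff.1 h34
      have := orderOf_dvd_natCard (⟨_, h34⟩ : zpowers c5)
      rw [Subgroup.orderOf_mk, Nat.card_zpowers, orderOf_eq_prime (hp := ⟨Nat.prime_two⟩)
        (show (swap 3 4 : Perm (Fin 5)) ^ 2 = 1 by decide) (by decide),
        orderOf_eq_prime (hp := ⟨Nat.prime_three⟩) c5_pow (by decide)] at this
      norm_num at this
    have himg : eN (QuotientGroup.mk nT) = (DihedralGroup.r 2, 1) := by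
      have hh := dih_facts.2 (eN (QuotientGroup.mk ⟨b0, hb0N⟩))
      rw [← map_mul, ← QuotientGroup.mk_mul] at hh
      refine hh.resolve_left fun e => hnTD ?_
      exact (QuotientGroup.eq_one_iff _).1 (eN.injective (e.trans (map_one eN).symm))
    obtain ⟨g1, hg1⟩ := QuotientGroup.mk_surjective (eNC.symm (DihedralGroup.r 1))
    obtain ⟨g2, hg2⟩ := QuotientGroup.mk_surjective (eNC.symm (DihedralGroup.sr 0))
    have hcm : g1 * g2 * g1⁻¹ * g2⁻¹ ∈ (centralizer (D : Set G)).subgroupOf (normalizer (D : Set G)) := by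
      have hh := dih_facts.1 (eN (QuotientGroup.mk g1)) (eN (QuotientGroup.mk g2))
      simp only [← map_inv, ← map_mul, ← QuotientGroup.mk_inv, ← QuotientGroup.mk_mul] at hh
      rcases hh with e | e
      · have hm := (QuotientGroup.eq_one_iff _).1 (eN.injective (e.trans (map_one eN).symm))
        rw [Subgroup.mem_subgroupOf] at hm ⊢
        exact mem_centralizer_iff.2 fun x hx => (hab _ hm x hx).symm
      · have hm := QuotientGroup.eq.1 (eN.injective (himg.trans e.symm))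
        have : nT⁻¹ * (g1 * g2 * g1⁻¹ * g2⁻¹) ∈ (centralizer (D : Set G)).subgroupOf (normalizer (D : Set G)) := by
          rw [Subgroup.mem_subgroupOf] at hm ⊢
          exact mem_centralizer_iff.2 fun x hx => (hab _ hm x hx).symm
        simpa using mul_mem hnTC this
    have e := congrArg eNC ((QuotientGroup.eq_one_iff _).2 hcm)
    simp only [QuotientGroup.mk_mul, QuotientGroup.mk_inv, map_mul, map_inv, map_one, hg1, hg2,
      MulEquiv.apply_symm_apply] at e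
    exact absurd e (by decide)
  obtain ⟨p, hp, hbp⟩ := hb2D
  obtain ⟨b, hbdef⟩ : ∃ b, b = b0 ^ 9 := ⟨_, rfl⟩
  have hb9 : ∀ x y : G, b0 * x * b0⁻¹ = y → (b0 * b0) * x * (b0 * b0)⁻¹ = x → b * x * b⁻¹ = y := by
    intro x y hx hxx
    have hc : Commute (b0 * b0) x := mul_inv_eq_iff_eq_mul.1 hxx
    rw [hbdef, show (9 : ℕ) = 2 * 4 + 1 from rfl, pow_succ', pow_mul, pow_two,
      show b0 * (b0 * b0) ^ 4 * x * (b0 * (b0 * b0) ^ 4)⁻¹ =
        b0 * ((b0 * b0) ^ 4 * x * ((b0 * b0) ^ 4)⁻¹) * b0⁻¹ by group, (hc.pow_left 4).eq, mul_inv_cancel_right]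
    exact hx
  have hbz := hb9 Z W hb0z hb2z
  have hbw := hb9 W Z hb0w hb2w
  have hbb : b * b = 1 := by
    rw [hbdef, ← (Commute.refl b0).mul_pow, hbp, ← map_pow]
    obtain ⟨a, c, rfl⟩ := mem_D0.1 hp
    rw [(ZW_comm.pow_pow a.val c.val).mul_pow, ← pow_mul, ← pow_mul, mul_comm a.val, mul_comm c.val,
      show (9 : ℕ) * a.val = 3 * (3 * a.val) by ring, show (9 : ℕ) * c.val = 3 * (3 * c.val) by ring,
      pow_mul Z0, Z0_pow, pow_mul W0, W0_pow, one_pow, one_pow, one_mul, map_one]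
  have hbi : b⁻¹ = b := inv_eq_of_mul_eq_one_right hbb
  rw [hbi] at hbz hbw
  have hT0Z : φ₁ T0 * Z = Z * φ₁ T0 := by
    rw [hZdef, ← map_mul, ← map_mul]; exact congrArg φ₁ (hTc Z0 (mem_D0.2 ⟨1, 0, by simp⟩)).eq.symm
  have hT0W : φ₁ T0 * W = W * φ₁ T0 := by
    rw [hWdef, ← map_mul, ← map_mul]; exact congrArg φ₁ (hTc W0 (mem_D0.2 ⟨0, 1, by simp⟩)).eq.symm
  have hconj : ∀ x y w : G, b * w * b = y → x * y = y * x → b * x * b * w * (b * x * b)⁻¹ = w := by
    intro x y w h1 h2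
    have hw : w = b * y * b := by
      rw [← h1, show b * (b * w * b) * b = (b * b) * w * (b * b) by group, hbb, one_mul, mul_one]
    rw [mul_inv_rev, mul_inv_rev, hbi]
    calc b * x * b * w * (b * (x⁻¹ * b)) = b * x * (b * w * b) * x⁻¹ * b := by group
      _ = b * y * b := by rw [h1, mul_assoc b x y, h2]; group
      _ = w := hw.symm
  have hbt : b * φ₁ T0 * b = φ₁ T0 := by
    obtain ⟨p', hp', he⟩ := hcc (b * φ₁ T0 * b) (hconj _ _ _ hbz hT0W) (hconj _ _ _ hbw hT0Z)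
    have hTT : φ₁ T0 * φ₁ T0 = 1 := by
      rw [← map_mul, show T0 * T0 = 1 from Prod.ext (by simp) (by simp), map_one]
    rcases t_cases φ₁ inj₁ hp' (by
      rw [show b * φ₁ T0 * b * (b * φ₁ T0 * b) = b * φ₁ T0 * (b * b) * φ₁ T0 * b by group, hbb, mul_one,
        mul_assoc b, hTT, mul_one, hbb]) he with h | h
    · exfalso
      have : φ₁ T0 = 1 := by
        rw [show φ₁ T0 = (b * b) * φ₁ T0 * (b * b) by rw [hbb, one_mul, mul_one],
          show b * b * φ₁ T0 * (b * b) = b * (b * φ₁ T0 * b) * b by group, h, mul_one, hbb]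
      exact absurd (congrArg Prod.snd (inj₁ (this.trans (map_one φ₁).symm))) (by decide)
    · exact h
  -- the involution `b V0 b`
  have hVinv : φ₁ V0 * Z * (φ₁ V0)⁻¹ = Z⁻¹ ∧ φ₁ V0 * W * (φ₁ V0)⁻¹ = W := by
    simp only [Z, W, ← map_mul, ← map_inv]
    exact ⟨congrArg φ₁ (Prod.ext (by decide) (by decide +kernel)),
      congrArg φ₁ (Prod.ext (by decide) (by decide +kernel))⟩
  set u := b * φ₁ V0 * b with hu
  have hVV : φ₁ V0 * φ₁ V0 = 1 := by
    rw [← map_mul, show V0 * V0 = 1 from Prod.ext (by simp) (by simp), map_one]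
  have huu : u * u = 1 := by
    rw [hu, show b * φ₁ V0 * b * (b * φ₁ V0 * b) = b * φ₁ V0 * (b * b) * φ₁ V0 * b by group, hbb, mul_one,
      mul_assoc b, hVV, mul_one, hbb]
  have hui : u⁻¹ = u := inv_eq_of_mul_eq_one_right huu
  have huz : u * Z * u⁻¹ = Z := hconj _ _ _ hbz (mul_inv_eq_iff_eq_mul.1 hVinv.2)
  have huw : u * W * u⁻¹ = W⁻¹ := by
    rw [hui, hu, show b * φ₁ V0 * b * W * (b * φ₁ V0 * b) = b * (φ₁ V0 * (b * W * b) * φ₁ V0) * b by group, hbw]
    have h1 := hVinv.1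
    rw [inv_eq_of_mul_eq_one_right hVV] at h1
    rw [h1]
    rw [← hbz]
    simp [hbi, mul_assoc]
  obtain ⟨⟨α, β₀⟩, hαβ⟩ := hN₁ u (Or.inl huz)
  have e0 : (α, β₀) * (α, β₀) = (1 : PQ) := inj₁ (by rw [map_mul, hαβ, huu, map_one])
  have e1 : (α, β₀) * Z0 = Z0 * (α, β₀) := inj₁ (by rw [map_mul, map_mul, hαβ]; exact mul_inv_eq_iff_eq_mul.1 huz)
  have e2 : (α, β₀) * W0 * (α, β₀) = W0⁻¹ := inj₁ (by
    rw [map_mul, map_mul, map_inv, hαβ]; rwa [hui] at huw)
  have e3 : (α, β₀) * T0 = T0 * (α, β₀) := inj₁ (by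
    rw [map_mul, map_mul, hαβ, hu]
    have hVT : φ₁ V0 * φ₁ T0 = φ₁ T0 * φ₁ V0 := by
      rw [← map_mul, ← map_mul, show V0 * T0 = T0 * V0 from Prod.ext (by simp) (by simp)]
    have hc : Commute b (φ₁ T0) := by
      show b * φ₁ T0 = φ₁ T0 * b
      calc b * φ₁ T0 = b * φ₁ T0 * b * b := by rw [mul_assoc _ b b, hbb, mul_one]
        _ = _ := by rw [hbt]
    exact ((hc.mul_left (show Commute (φ₁ V0) (φ₁ T0) from hVT)).mul_left hc).eq)
  obtain rfl : α = 1 := invert_c3 α (congrArg Prod.fst e0) (congrArg Prod.fst e1)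
  obtain ⟨k, hk⟩ := invert_c5 β₀ (congrArg Prod.snd e0) (congrArg Prod.snd e2) (congrArg Prod.snd e3)
  set s : PQ := (1, (c5 ^ k.val)⁻¹) with hs
  have hs' : s = (1, c5 ^ k.val)⁻¹ := Prod.ext inv_one.symm rfl
  let φ : PQ →* G := φ₁.comp (MulAut.conj s).toMonoidHom
  have hsc : ∀ x : PQ, Commute s x → φ x = φ₁ x := fun x hx => by
    show φ₁ (s * x * s⁻¹) = φ₁ x
    rw [hx.eq, mul_inv_cancel_right]
  have hc5 : ∀ x : Perm (Fin 5), Commute c5 x → ∀ σ : Perm (Fin 3), φ (σ, x) = φ₁ (σ, x) := fun x hx σ =>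
    hsc _ (Prod.ext ((one_mul σ).trans (mul_one σ).symm) ((hx.pow_left k.val).inv_left).eq)
  have eZ : φ Z0 = Z := hc5 1 (Commute.one_right _) c3
  have eW : φ W0 = W := hc5 c5 (Commute.refl _) 1
  have eT : φ T0 = φ₁ T0 := hc5 (swap 3 4) (show c5 * swap 3 4 = swap 3 4 * c5 by decide +kernel) 1
  have eV : φ V0 = φ₁ V0 := hc5 1 (Commute.one_right _) (swap 0 1)
  refine ⟨{ φ := φ, inj := inj₁.comp (MulAut.conj s).injective, hN := ?_, b := b, hb := hbb,
            hbz := by rw [eZ, eW]; exact hbz, hbt := by rw [eT]; exact hbt,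
            β := c5 ^ k.val * β₀ * (c5 ^ k.val)⁻¹, hβ := hk, hbv := ?_, h36 := ?_, hnd := ?_, hsq := ?_,
            h27 := ?_ }⟩
  · intro g hg
    rw [eZ] at hg
    obtain ⟨v, hv⟩ := hN₁ g hg
    exact ⟨s⁻¹ * v * s, by rw [← hv]; show φ₁ (s * (s⁻¹ * v * s) * s⁻¹) = φ₁ v; congr 1; group⟩
  · rw [eV, ← hu, ← hαβ]
    show φ₁ (1, β₀) = φ₁ (s * (1, c5 ^ k.val * β₀ * (c5 ^ k.val)⁻¹) * s⁻¹)
    congr 1
    exact Prod.ext (by simp [s]) (by simp [s, mul_assoc])
  · rw [map_mul, eZ, eW]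
    simpa using hdiag 1 1 (by decide) (by decide) hi
  all_goals have hmemD : ∀ x, x ∈ D ↔ ∃ d ∈ D0, φ d = x := (fun x => by
      rw [hD₁]
      have hsd : ∀ d ∈ D0, φ d = φ₁ d := fun d hd => by
        obtain ⟨a, c, rfl⟩ := mem_D0.1 hd
        rw [map_mul, map_pow, map_pow, eZ, eW, map_mul, map_pow, map_pow]
      exact ⟨fun ⟨d, hd, e⟩ => ⟨d, hd, (hsd d hd).trans e⟩, fun ⟨d, hd, e⟩ => ⟨d, hd, (hsd d hd).symm.trans e⟩⟩)
  all_goals have hY : ∃ k : G, (∀ x ∈ D, k * x * k⁻¹ ∈ D ∧ k⁻¹ * x * k ∈ D) ∧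
      ∀ g ∈ centralizer ({φ (Z0 * W0)} : Set G), k * g * k⁻¹ ∈ centralizer ({y} : Set G) := (by
    rw [map_mul, eZ, eW]
    have hVV' : t⁻¹ = t := inv_eq_of_mul_eq_one_right hVV
    have htD : ∀ x ∈ D, t * x * t⁻¹ ∈ D ∧ t⁻¹ * x * t ∈ D := by
      intro x hx
      have h1 : ∀ x ∈ D, t * x * t⁻¹ ∈ D := by
        intro x hx
        obtain ⟨a, c, rfl⟩ := hnD x hx
        rw [htn]
        exact mul_mem (pow_mem hZD _) (pow_mem hWD _)
      refine ⟨h1 x hx, ?_⟩
      have := h1 x hx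
      rw [hVV'] at this ⊢; exact this
    have hinv : (Z * W)⁻¹ = Z ^ 2 * W ^ 2 := by
      refine inv_eq_of_mul_eq_one_right ?_
      rw [← hZW.mul_pow, ← pow_succ', hZW.mul_pow, hZ3, hW3, one_mul]
    have hconjc : ∀ (k y' : G), k * (Z * W) * k⁻¹ = y' ∨ k * (Z * W) * k⁻¹ = y'⁻¹ →
        ∀ g ∈ centralizer ({Z * W} : Set G), k * g * k⁻¹ ∈ centralizer ({y'} : Set G) := by
      intro k y' h g hg
      rw [mem_centralizer_singleton_iff]
      have hc := (show Commute g (Z * W) from mem_centralizer_singleton_iff.1 hg).map (MulAut.conj k).toMonoidHom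
      simp only [MulEquiv.coe_toMonoidHom, MulAut.conj_apply] at hc
      rcases h with e | e <;> rw [e] at hc
      · exact hc.eq
      · exact (Commute.inv_right_iff.1 hc).eq
    rcases (show i.val = 1 ∨ i.val = 2 by omega) with ei | ei <;>
      rcases (show j.val = 1 ∨ j.val = 2 by omega) with ej | ej
    · refine ⟨1, fun x hx => by simpa using hx, hconjc 1 y (Or.inl ?_)⟩
      rw [hyij, ei, ej]; simp
    · refine ⟨t, htD, hconjc t y (Or.inr ?_)⟩
      have := htn 1 1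
      rw [pow_one, pow_one] at this
      rw [this, hyij, ei, ej]
      refine eq_inv_of_mul_eq_one_left ?_
      rw [mul_one, pow_one, hZW.symm.mul_mul_mul_comm, ← pow_succ, ← pow_succ', hZ3, hW3, one_mul]
    · refine ⟨t, htD, hconjc t y (Or.inl ?_)⟩
      have := htn 1 1
      rw [pow_one, pow_one] at this
      rw [this, hyij, ei, ej]; simp
    · refine ⟨1, fun x hx => by simpa using hx, hconjc 1 y (Or.inr ?_)⟩
      rw [hyij, ei, ej, ← hinv, inv_inv]; simp)
  · obtain ⟨k, hk, hkc⟩ := hY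
    intro g hg d hd
    have hdD := (hk _ ((hmemD _).2 ⟨d, hd, rfl⟩)).1
    have hxy : k * φ d * k⁻¹ ∈ centralizer ({y} : Set G) :=
      mem_centralizer_singleton_iff.2 (hab _ hdD y hyD)
    have h1 := Subgroup.mem_subgroupOf.1 (hyn.conj_mem ⟨_, hxy⟩ hdD ⟨_, hkc g hg⟩)
    simp only [Subgroup.coe_mul, Subgroup.coe_inv] at h1
    obtain ⟨d', hd', e⟩ := (hmemD _).1 (hk _ h1).2
    refine ⟨d', hd', ?_⟩
    rw [e]; group
  · obtain ⟨k, hk, hkc⟩ := hY
    intro g hg
    obtain ⟨d', hd', e⟩ := (hmemD _).1 (hk _ (hysq _ (hkc g hg))).2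
    refine ⟨d', hd', ?_⟩
    rw [e, conj_pow, pow_two]; group
  · intro h
    obtain ⟨H, hH⟩ := Sylow.exists_subgroup_card_pow_prime (G := G) 3 (n := 3) (by norm_num [h])
    obtain ⟨R, hR⟩ := IsPGroup.exists_le_sylow (P := H) (p := 3) (IsPGroup.of_card hH)
    have h1 := Subgroup.card_le_of_le hR
    rw [hH, Sylow.card_eq_multiplicity R, ← Sylow.card_eq_multiplicity P, ← hDP, hcard] at h1
    norm_num at h1

end Cfsg.Agent.Lie.SymEightLocal
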